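import Groth.Agent.Pic13Lib.CurveSec
import Groth.Agent.HilbPoly.Poly
import Groth.Agent.KFlatLib.Scheme.ProjLocFree
import Groth.Agent.QCoh.DevissageSum
import Groth.Agent.H23.KLBasic
import Groth.Agent.PnCoh.PushNat
import Groth.Agent.Snapper.DimVanish

/-!
# Twisting by an invertible module and direct images
-/

set_option linter.style.haveILetI false
set_option linter.unusedSectionVars false
set_option backward.isDefEq.respectTransparency false
set_option backward.isDefEq.respectTransparency.types false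
set_option maxHeartbeats 1000000
set_option synthInstance.maxHeartbeats 200000

universe u

open CategoryTheory CategoryTheory.Limits AlgebraicGeometry TopologicalSpace Opposite
open Groth.Agent.H23.PicMul

attribute [local instance] HasDerivedCategory.standard Groth.Agent.QCoh.hasFiniteBiproducts

noncomputable section

namespace Groth.Agent.Pic13Lib

open Groth.Agent

section Triv

variable {X : Scheme.{u}}

/-- A trivialisation restricts to smaller opens. -/
theorem restrict_trivial_of_le {L : X.Modules} {U V : X.Opens} (h : V ≤ U)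
    (τ : L.restrict U.ι ≅ Coh.structureModule (U : Scheme.{u})) :
    Nonempty (L.restrict V.ι ≅ Coh.structureModule (V : Scheme.{u})) := by
  obtain ⟨e⟩ := PicClLib.nonempty_pullback_structureModule (X.homOfLE h)
  exact ⟨(Scheme.Modules.restrictFunctorIsoPullback V.ι).app L ≪≫
    (Scheme.Modules.pullbackCongr (X.homOfLE_ι h).symm).app L ≪≫
    ((Scheme.Modules.pullbackComp (X.homOfLE h) U.ι).app L).symm ≪≫
    (Scheme.Modules.pullback (X.homOfLE h)).mapIso
      (((Scheme.Modules.restrictFunctorIsoPullback U.ι).app L).symm ≪≫ τ) ≪≫ e⟩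

/-- A trivialisation pulls back to the preimage. -/
theorem restrict_pullback_trivial {Y : Scheme.{u}} (h : Y ⟶ X) {L : X.Modules} {U : X.Opens}
    (τ : L.restrict U.ι ≅ Coh.structureModule (U : Scheme.{u})) :
    Nonempty (((Scheme.Modules.pullback h).obj L).restrict (h ⁻¹ᵁ U).ι ≅
      Coh.structureModule ((h ⁻¹ᵁ U : Y.Opens) : Scheme.{u})) := by
  obtain ⟨e⟩ := PicClLib.nonempty_pullback_structureModule (h ∣_ U)
  exact ⟨(Scheme.Modules.restrictFunctorIsoPullback (h ⁻¹ᵁ U).ι).app _ ≪≫
    (Scheme.Modules.pullbackComp (h ⁻¹ᵁ U).ι h).app L ≪≫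
    (Scheme.Modules.pullbackCongr (morphismRestrict_ι h U).symm).app L ≪≫
    ((Scheme.Modules.pullbackComp (h ∣_ U) U.ι).app L).symm ≪≫
    (Scheme.Modules.pullback (h ∣_ U)).mapIso
      (((Scheme.Modules.restrictFunctorIsoPullback U.ι).app L).symm ≪≫ τ) ≪≫ e⟩

/-- An invertible module pulls back trivially along a map landing in a point. -/
theorem cl_pullback_of_const {Y : Scheme.{u}} (h : Y ⟶ X) {L : X.Modules} (hL : PicF.IsInvertible L) (x : X)
    (hx : ∀ y : Y, h y = x) : PicF.cl ((Scheme.Modules.pullback h).obj L) = 1 := by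
  obtain ⟨U, hxU, ⟨τ⟩⟩ := hL x
  have hr : Set.range h ⊆ Set.range U.ι := by
    rintro _ ⟨y, rfl⟩
    rw [Scheme.Opens.range_ι, hx y]
    exact hxU
  let g := IsOpenImmersion.lift U.ι h hr
  obtain ⟨e⟩ := PicClLib.nonempty_pullback_structureModule g
  exact (cl_eq_iff (B := Coh.structureModule Y)).2
    ⟨(Scheme.Modules.pullbackCongr (IsOpenImmersion.lift_fac U.ι h hr).symm).app L ≪≫
      ((Scheme.Modules.pullbackComp g U.ι).app L).symm ≪≫
      (Scheme.Modules.pullback g).mapIso
        (((Scheme.Modules.restrictFunctorIsoPullback U.ι).app L).symm ≪≫ τ) ≪≫ e⟩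

/-- The projection formula for the direct image and an invertible module. -/
theorem exists_push_tensor {Y : Scheme.{u}} (h : Y ⟶ X) (M : Y.Modules) {L : X.Modules}
    (hL : PicF.IsInvertible L) :
    Nonempty ((Coh.push h).obj (CohB1.tensorMod M ((Scheme.Modules.pullback h).obj L)) ≅
      CohB1.tensorMod ((Coh.push h).obj M) L) := by
  haveI : HasInjectiveResolutions Y.Modules := KFlatLib.hasInjectiveResolutions_modules
  haveI : PreservesLimitsOfSize.{0, 0} (Scheme.Modules.pushforward h) :=
    (Scheme.Modules.pullbackPushforwardAdjunction h).rightAdjoint_preservesLimits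
  haveI : PreservesFiniteLimits (Scheme.Modules.pushforward h) := PreservesLimitsOfSize.preservesFiniteLimits _
  obtain ⟨e⟩ := KFlatLib.nonempty_rpush_tensor_finLocFree h M L
    (fun x => by obtain ⟨U, h⟩ := InvEnd.isFinLocFreeOfRank_one hL x; exact ⟨U, 1, h⟩) 0
  let z := (Scheme.Modules.pushforward h).rightDerivedZeroIsoSelf
  obtain ⟨c₁⟩ := H23.PicMul.comm M ((Scheme.Modules.pullback h).obj L)
  obtain ⟨c₂⟩ := H23.PicMul.comm L ((Coh.push h).obj M)
  exact ⟨(Scheme.Modules.pushforward h).mapIso c₁ ≪≫ (z.app _).symm ≪≫ e.symm ≪≫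
    ((DCoh.tensorBi.obj L).mapIso (z.app M)) ≪≫ c₂⟩

end Triv

variable {k : Type u} [Field k] {X : Scheme.{u}} [X.Over (Spec (CommRingCat.of k))]

theorem euler_push_of_equiv {Y : Scheme.{u}} [Y.Over (Spec (CommRingCat.of k))] {M : Y.Modules} {N : X.Modules}
    (h : ∀ q, Nonempty (Coh.HH Y M q ≃ₗ[k] Coh.HH X N q)) : Curv2.euler k Y M = Curv2.euler k X N :=
  finsum_congr fun q => by rw [(h q).some.finrank_eq]

theorem euler_push {Y : Scheme.{u}} [Y.Over (Spec (CommRingCat.of k))] (h : Y ⟶ X) [IsAffineHom h]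
    (hh : h ≫ X ↘ Spec (CommRingCat.of k) = Y ↘ Spec (CommRingCat.of k)) {M : Y.Modules} (hM : Coh.IsQCoh M) :
    Curv2.euler k Y M = Curv2.euler k X ((Coh.push h).obj M) :=
  euler_push_of_equiv fun q => PnCoh.exists_linearEquiv_push k h hh hM q

variable [IsProper (X ↘ Spec (CommRingCat.of k))]

variable (k) in
/-- The change of the Euler characteristic under tensoring with `L`. -/
def dEuler (L M : X.Modules) : ℤ := Curv2.euler k X (CohB1.tensorMod M L) - Curv2.euler k X M

theorem additive_dEuler {L : X.Modules} (hL : PicF.IsInvertible L) : HilbPoly.Additive (dEuler k L) := by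
  haveI : IsLocallyNoetherian X := LocallyOfFiniteType.isLocallyNoetherian (X ↘ Spec (CommRingCat.of k))
  haveI := AmpleVan.isEquivalence_tw hL
  haveI : (AmpleVan.tw L).Additive := Functor.additive_of_preserves_binary_products _
  have hiso := (HilbPoly.additive_euler (X := X) k).iso
  refine ⟨fun M N ⟨e⟩ => ?_, fun S hS h₁ h₂ h₃ => ?_⟩
  · unfold dEuler
    rw [hiso _ _ ⟨e⟩, hiso (CohB1.tensorMod M L) (CohB1.tensorMod N L) ⟨(AmpleVan.tw L).mapIso e⟩]
  · have ha := (HilbPoly.additive_euler k).add S hS h₁ h₂ h₃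
    have hb := (HilbPoly.additive_euler k).add _ (hS.map_of_exact (AmpleVan.tw L))
      (AmpleVan.isCoh_tensor h₁ (AmpleVan.isCoh_invertible hL))
      (AmpleVan.isCoh_tensor h₂ (AmpleVan.isCoh_invertible hL))
      (AmpleVan.isCoh_tensor h₃ (AmpleVan.isCoh_invertible hL))
    unfold dEuler
    change Curv2.euler k X (CohB1.tensorMod S.X₂ L) =
      Curv2.euler k X (CohB1.tensorMod S.X₁ L) + Curv2.euler k X (CohB1.tensorMod S.X₃ L) at hb
    omega

theorem dEuler_isZero {L M : X.Modules} (hL : PicF.IsInvertible L) (h : IsZero M) : dEuler k L M = 0 := by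
  haveI : (AmpleVan.tw L).Additive := by
    haveI := AmpleVan.isEquivalence_tw hL
    exact Functor.additive_of_preserves_binary_products _
  have h' : IsZero (CohB1.tensorMod M L) := (AmpleVan.tw L).map_isZero h
  rw [dEuler, (HilbPoly.additive_euler k).iso _ M ⟨h'.iso h⟩, sub_self]

/-- Twisting by a module trivial on the source. -/
theorem dEuler_push {Y : Scheme.{u}} [Y.Over (Spec (CommRingCat.of k))] (h : Y ⟶ X) [IsAffineHom h]
    (hh : h ≫ X ↘ Spec (CommRingCat.of k) = Y ↘ Spec (CommRingCat.of k)) {M : Y.Modules}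
    (hM : Coh.IsQCoh M) {L : X.Modules} (hL : PicF.IsInvertible L)
    (hML : Coh.IsQCoh (CohB1.tensorMod M ((Scheme.Modules.pullback h).obj L))) :
    dEuler k L ((Coh.push h).obj M) =
      Curv2.euler k Y (CohB1.tensorMod M ((Scheme.Modules.pullback h).obj L)) - Curv2.euler k Y M := by
  rw [dEuler, euler_push h hh hM, euler_push h hh hML]
  rw [(HilbPoly.additive_euler k).iso _ _ (exists_push_tensor h M hL)]

/-- Additive invariants of powers. -/
theorem additive_biproduct [IsNoetherian X] {φ : X.Modules → ℤ} (hφ : HilbPoly.Additive φ)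
    (h0 : ∀ M : X.Modules, IsZero M → φ M = 0) {A : X.Modules} (hA : Coh.IsCoh A) (r : ℕ) :
    φ (⨁ fun _ : ULift.{u} (Fin r) => A) = r * φ A := by
  induction r with
  | zero =>
    rw [h0 _ ((IsZero.iff_id_eq_zero _).2 (biproduct.hom_ext _ _ fun a => a.down.elim0))]
    simp
  | succ r ih =>
    let T : ULift.{u} (Fin (r + 1)) → X.Modules := fun _ => A
    let T' : ULift.{u} (Fin r) → X.Modules := fun _ => A
    let f : A ⟶ ⨁ T := biproduct.ι T ⟨0⟩
    let g : ⨁ T ⟶ ⨁ T' := biproduct.lift fun a => biproduct.π T ⟨a.down.succ⟩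
    let s : ⨁ T' ⟶ ⨁ T := biproduct.desc fun a => biproduct.ι T ⟨a.down.succ⟩
    have w : f ≫ g = 0 := biproduct.hom_ext _ _ fun a => by
      rw [Category.assoc, biproduct.lift_π, zero_comp]
      exact biproduct.ι_π_ne T fun h => Fin.succ_ne_zero a.down (congrArg ULift.down h).symm
    have hsg : s ≫ g = 𝟙 _ := biproduct.hom_ext' _ _ fun a => biproduct.hom_ext _ _ fun b => by
      simp only [s, g, biproduct.ι_desc_assoc, Category.assoc, biproduct.lift_π, Category.comp_id]
      by_cases hab : a = b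
      · subst hab
        exact (biproduct.ι_π_self T _).trans (biproduct.ι_π_self T' _).symm
      · rw [biproduct.ι_π_ne T' hab]
        exact biproduct.ι_π_ne T fun h => hab (ULift.ext _ _ (Fin.succ_injective _ (congrArg ULift.down h)))
    have hid : biproduct.π T ⟨0⟩ ≫ f + g ≫ s = 𝟙 _ := biproduct.hom_ext' _ _ fun ⟨a⟩ => by
      rw [Preadditive.comp_add, Category.comp_id]
      refine Fin.cases ?_ (fun b => ?_) a
      · rw [← Category.assoc, biproduct.ι_π_self, Category.id_comp, ← Category.assoc,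
          show biproduct.ι T ⟨0⟩ ≫ g = 0 from w, zero_comp, add_zero]
      · have h0 : biproduct.ι T ⟨b.succ⟩ ≫ biproduct.π T ⟨0⟩ = 0 :=
          biproduct.ι_π_ne T (fun h => Fin.succ_ne_zero b (congrArg ULift.down h))
        rw [← Category.assoc, h0, zero_comp, zero_add, ← Category.assoc]
        have h1 : biproduct.ι T ⟨b.succ⟩ ≫ g = biproduct.ι T' ⟨b⟩ := by
          refine biproduct.hom_ext _ _ fun c => ?_
          rw [Category.assoc, biproduct.lift_π]
          by_cases hbc : (⟨b⟩ : ULift.{u} (Fin r)) = c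
          · subst hbc
            exact (biproduct.ι_π_self T _).trans (biproduct.ι_π_self T' _).symm
          · rw [biproduct.ι_π_ne T' hbc]
            exact biproduct.ι_π_ne T fun h => hbc (ULift.ext _ _ (Fin.succ_injective _ (congrArg ULift.down h)))
        rw [h1, biproduct.ι_desc]
    have hS : (ShortComplex.mk f g w).ShortExact :=
      ShortComplex.Splitting.shortExact
        { r := biproduct.π T ⟨0⟩
          s := s
          f_r := biproduct.ι_π_self T _
          s_g := hsg
          id := hid }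
    have h := hφ.add _ hS hA (QCoh.isCoh_biproduct T fun _ => hA) (QCoh.isCoh_biproduct T' fun _ => hA)
    change φ (⨁ T) = φ A + φ (⨁ T') at h
    rw [h, ih]
    push_cast
    ring

/-- The dévissage for vanishing of the change of Euler characteristics on a closed set. -/
theorem dEuler_eq_zero_of_gen [IsNoetherian X] {L : X.Modules} (hL : PicF.IsInvertible L) (X' : Set X)
    (hin : ∀ ξ : X, closure {ξ} ⊆ X' →
      (∀ M : X.Modules, Coh.IsCoh M → CohB1.support M ⊆ closure {ξ} → ξ ∉ CohB1.support M → dEuler k L M = 0) →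
      ∀ (Z : Scheme.{u}) (i : Z ⟶ X) [IsClosedImmersion i] [IsIntegral Z], Set.range i = closure {ξ} →
      letI : Z.Over (Spec (CommRingCat.of k)) := ⟨i ≫ X ↘ Spec (CommRingCat.of k)⟩
      ∃ G : Z.Modules, Coh.IsCoh G ∧ genericPoint Z ∈ CohB1.support G ∧
        Curv2.euler k Z (CohB1.tensorMod G ((Scheme.Modules.pullback i).obj L)) = Curv2.euler k Z G)
    {M : X.Modules} (hM : Coh.IsCoh M) (hs : CohB1.support M ⊆ X') : dEuler k L M = 0 := by
  have hA := additive_dEuler (k := k) hL
  let P : X.Modules → Prop := fun M => dEuler k L M = 0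
  have h23 : ∀ S : ShortComplex X.Modules, S.ShortExact → Coh.IsCoh S.X₁ → Coh.IsCoh S.X₂ → Coh.IsCoh S.X₃ →
      (P S.X₁ → P S.X₂ → P S.X₃) ∧ (P S.X₁ → P S.X₃ → P S.X₂) ∧ (P S.X₂ → P S.X₃ → P S.X₁) :=
    fun S hS h₁ h₂ h₃ => by
      have h := hA.add S hS h₁ h₂ h₃
      simp only [P]
      exact ⟨fun a b => by omega, fun a b => by omega, fun a b => by omega⟩
  refine QCoh.devissage P (fun M N e h => ((hA.iso M N e).symm.trans h))
    (fun N hN => dEuler_isZero hL hN) X' (fun S hS a b c _ => (h23 S hS a b c).2.1)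
    (fun ξ hξX hsmall Z i _ _ hr => ?_) (fun S hS a b c _ => (h23 S hS a b c).2.2) hM hs
  letI : Z.Over (Spec (CommRingCat.of k)) := ⟨i ≫ X ↘ Spec (CommRingCat.of k)⟩
  haveI : IsLocallyNoetherian Z := LocallyOfFiniteType.isLocallyNoetherian i
  obtain ⟨G, hG, hη, hGe⟩ := hin ξ hξX hsmall Z i hr
  have hξ : i (genericPoint Z) = ξ :=
    (inseparable_iff_closure_eq.2 ((QCoh.range_eq_closure i).symm.trans hr)).eq
  have hG' := QCoh.isCoh_push i hG
  have hkill : ∀ (V : X.affineOpens) (a : Γ(X, V.1)), ξ ∉ X.basicOpen a →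
      ∀ m : Γ((Coh.push i).obj G, V.1), a • m = 0 := fun V a hax m => by
    refine (QCoh.pushforward_smul i V.1 a m).trans ?_
    have h0 : i.app V.1 a = 0 := by
      by_contra hne
      have h' := (QCoh.ne_zero_iff_mem_basicOpen (i.app V.1 a)).1 hne
      rw [← Scheme.preimage_basicOpen] at h'
      exact hax (hξ ▸ h')
    rw [h0]
    exact zero_smul Γ(Z, i ⁻¹ᵁ V.1) (show Γ(G, i ⁻¹ᵁ V.1) from m)
  have hmem : ξ ∈ CohB1.support ((Coh.push i).obj G) := by
    obtain ⟨U, hU, hξU⟩ := QCoh.exists_affine_mem (i (genericPoint Z))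
    obtain ⟨m, hm⟩ := (QCoh.mem_support_iff hG.1 (hU.preimage i) hξU).1 hη
    rw [← hξ]
    refine (QCoh.mem_support_iff hG'.1 hU hξU).2 ⟨m, fun f hf h0 => hm (i.app U f) ?_ ?_⟩
    · rw [← Scheme.preimage_basicOpen]; exact hf
    · exact (QCoh.pushforward_smul i U f m).symm.trans h0
  have hPG : P ((Coh.push i).obj G) := by
    show dEuler k L _ = 0
    rw [dEuler_push i rfl hG.1 hL
      (AmpleVan.isCoh_tensor hG (AmpleVan.isCoh_invertible (PicClLib.isInvertible_pullback i hL))).1,
      hGe, sub_self]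
  obtain ⟨r, hr0, hP⟩ := QCoh.exists_sum_structure P ξ (fun S hS a b c _ => h23 S hS a b c) hsmall hG'
    ((QCoh.support_push_subset i hG.1).trans hr.le) hmem hkill hPG i hr
  have h := additive_biproduct hA (fun N hN => dEuler_isZero hL hN) (QCoh.isCoh_push_structure i) r
  rw [show dEuler k L (⨁ fun _ : ULift.{u} (Fin r) => (Coh.push i).obj (Coh.structureModule Z)) = 0 from hP] at h
  rcases mul_eq_zero.1 h.symm with h' | h'
  · omega
  · exact h'

/-- On a set of dimension one the Euler characteristic does not see a numerically trivial module. -/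
theorem dEuler_eq_zero_of_dim_le_one {L : X.Modules} (hL : NumTriv k L) {C : Set X}
    (hC : ∀ x ∈ C, VarDim.deg (X ↘ Spec (CommRingCat.of k)) x ≤ 1) {M : X.Modules} (hM : Coh.IsCoh M)
    (hs : CohB1.support M ⊆ C) : dEuler k L M = 0 := by
  haveI : IsLocallyNoetherian X := LocallyOfFiniteType.isLocallyNoetherian (X ↘ Spec (CommRingCat.of k))
  haveI : CompactSpace X := QuasiCompact.compactSpace_of_compactSpace (X ↘ Spec (CommRingCat.of k))
  haveI : IsNoetherian X := { __ := ‹IsLocallyNoetherian X›, __ := ‹CompactSpace X› }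
  refine dEuler_eq_zero_of_gen hL.1 C (fun ξ hξ _ Z i _ _ hr => ?_) hM hs
  letI : Z.Over (Spec (CommRingCat.of k)) := ⟨i ≫ X ↘ Spec (CommRingCat.of k)⟩
  haveI : IsProper (Z ↘ Spec (CommRingCat.of k)) := inferInstanceAs (IsProper (i ≫ X ↘ Spec (CommRingCat.of k)))
  haveI : IsLocallyNoetherian Z := LocallyOfFiniteType.isLocallyNoetherian i
  refine ⟨Coh.structureModule Z, QCoh.isCoh_structureModule',
    (QCoh.mem_support_iff QCoh.isQCoh_structureModule
      (QCoh.exists_affine_mem (genericPoint Z)).choose_spec.1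
      (QCoh.exists_affine_mem (genericPoint Z)).choose_spec.2).2 ⟨(1 : Γ(Z, _)), fun a ha h0 => ?_⟩, ?_⟩
  · change a * 1 = 0 at h0
    rw [mul_one] at h0
    exact (QCoh.ne_zero_iff_mem_basicOpen a).2 ha h0
  have hun : Nonempty (CohB1.tensorMod (Coh.structureModule Z) ((Scheme.Modules.pullback i).obj L) ≅
      (Scheme.Modules.pullback i).obj L) :=
    cl_eq_iff.1 (by rw [cl_tensor, ← one_def, one_mul])
  rw [(HilbPoly.additive_euler k).iso _ _ hun]
  by_cases hcl : IsClosed ({ξ} : Set X)
  · refine (HilbPoly.additive_euler k).iso _ _ (cl_eq_iff.1 ?_)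
    refine (cl_pullback_of_const i hL.1 ξ fun z => ?_).trans one_def
    have hz : i z ∈ closure ({ξ} : Set X) := hr.le ⟨z, rfl⟩
    rw [hcl.closure_eq] at hz
    exact hz
  · have h0 : VarDim.deg (X ↘ Spec (CommRingCat.of k)) ξ = 1 := by
      have h1 := hC ξ (hξ (subset_closure rfl))
      have h2 : VarDim.deg (X ↘ Spec (CommRingCat.of k)) ξ ≠ 0 := fun h =>
        hcl ((VarDim.closedPoint_iff_deg_eq_zero _ ξ).2 h)
      omega
    have hdim : topologicalKrullDim Z = 1 := by
      rw [IsHomeomorph.topologicalKrullDim_eq _ i.isClosedEmbedding.isEmbedding.toHomeomorph.isHomeomorph, hr,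
        VarDim.topologicalKrullDim_closure_singleton (X ↘ Spec (CommRingCat.of k)) ξ, h0]
      rfl
    have h := NumTriv.deg hL ⟨Z, i, inferInstance, inferInstance, hdim⟩
    change Curv2.euler k Z ((Scheme.Modules.pullback i).obj L) - ((1 : ℕ) : ℤ) *
      Curv2.euler k Z (Coh.structureModule Z) = 0 at h
    push_cast at h
    omega

end Groth.Agent.Pic13Lib
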