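import Groth.Agent.Pic13Lib.Twist
import Groth.Agent.Lib.CurveRR
import Groth.Agent.Lib.CurveDeg
import Groth.Agent.ConsPropLib.Noetherian
import Groth.Agent.VarDim.Local
import Groth.Agent.AmpleVan.Pull
import Groth.Agent.InvX.GenLocusPull
import Groth.Agent.S1518
import Groth.Agent.S1519

/-!
# Numerically trivial modules and curves
-/

set_option linter.style.haveILetI false
set_option linter.unusedSectionVars false
set_option backward.isDefEq.respectTransparency false
set_option backward.isDefEq.respectTransparency.types false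
set_option maxHeartbeats 1000000
set_option synthInstance.maxHeartbeats 200000

universe u

open CategoryTheory CategoryTheory.Limits AlgebraicGeometry TopologicalSpace Opposite
open Groth.Agent.H23.PicMul

attribute [local instance] HasDerivedCategory.standard

noncomputable section

namespace Groth.Agent.Pic13Lib

open Groth.Agent

/-- A closed point of an irreducible scheme of finite type other than the generic point lies on a curve. -/
theorem exists_curve_through {k : Type u} [Field k] {Z : Scheme.{u}} (f : Z ⟶ Spec (CommRingCat.of k))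
    [LocallyOfFiniteType f] [IrreducibleSpace Z] {z : Z} (hz : IsClosed ({z} : Set Z)) (hne : genericPoint Z ≠ z) :
    ∃ (C : Scheme.{u}) (c : C ⟶ Z) (_ : IsClosedImmersion c) (_ : IsIntegral C),
      topologicalKrullDim C = 1 ∧ z ∈ Set.range c := by
  classical
  have hS : ∃ d, ∃ η : Z, η ⤳ z ∧ η ≠ z ∧ VarDim.deg f η = d :=
    ⟨_, genericPoint Z, genericPoint_specializes z, hne, rfl⟩
  obtain ⟨η, hηz, hηne, hηd⟩ := Nat.find_spec hS
  have himm : ∀ y : Z, η ⤳ y → y ⤳ z → y = η ∨ y = z := fun y h1 h2 => by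
    by_contra h
    rw [not_or] at h
    have h3 : Nat.find hS ≤ VarDim.deg f y := Nat.find_min' hS ⟨y, h2, h.2, rfl⟩
    have h4 : VarDim.deg f y < VarDim.deg f η :=
      VarDim.deg_strictMono f (lt_iff_le_not_ge.2 ⟨h1, fun h' => h.1 (h1.antisymm h').eq.symm⟩)
    omega
  have hd : VarDim.deg f η = 1 := by
    rw [VarDim.deg_of_immediate f hηne hηz himm, (VarDim.closedPoint_iff_deg_eq_zero f z).1 hz]
  obtain ⟨C, c, hc, hC, hr, -⟩ := ConsPropLib.exists_integral_closure η
  refine ⟨C, c, hc, hC, ?_, hr.ge (specializes_iff_mem_closure.1 hηz)⟩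
  rw [IsHomeomorph.topologicalKrullDim_eq _ c.isClosedEmbedding.isEmbedding.toHomeomorph.isHomeomorph, hr,
    VarDim.topologicalKrullDim_closure_singleton f η, hd]
  rfl

/-- A section generating somewhere is nonzero. -/
theorem ne_zero_of_mem_genLocus {X : Scheme.{u}} {L : X.Modules} {s : Coh.structureModule X ⟶ L} {x : X}
    (hx : x ∈ CohB1.genLocus L s) : s ≠ 0 := by
  rintro rfl
  obtain ⟨U, hxU, hU⟩ := InvX.mem_genLocus hx
  have h0 : AModX.res L (le_top : U ≤ ⊤) (InvX.one (0 : Coh.structureModule X ⟶ L)) = 0 := by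
    rw [show InvX.one (0 : Coh.structureModule X ⟶ L) = 0 from rfl]
    exact map_zero (L.presheaf.map _).hom
  have h1 : (1 : Γ(X, U)) = 0 := hU.coord_unique le_rfl (by rw [h0, AModX.res_self, smul_zero, smul_zero])
  have h2 := congrArg (fun a => X.presheaf.germ U x hxU a) h1
  simp only [map_one, map_zero] at h2
  exact one_ne_zero h2

/-- A nonzero section of an invertible module on an integral scheme generates somewhere. -/
theorem genLocus_nonempty {X : Scheme.{u}} [IsIntegral X] {L : X.Modules} (hL : PicF.IsInvertible L)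
    {s : Coh.structureModule X ⟶ L} (hs : s ≠ 0) : Nonempty (CohB1.genLocus L s : X.Opens) := by
  obtain ⟨W, ⟨⟨w, hw⟩⟩, hW⟩ := CurveDeg.exists_open_surjective CurveDeg.isInvertible_structureModule hL s hs
  haveI : IsIso ((Scheme.Modules.restrictFunctor W.ι).map s) := by
    refine Scheme.Modules.Hom.isIso_iff_isIso_app.2 fun V => ?_
    rw [ConcreteCategory.isIso_iff_bijective]
    exact ⟨InvEnd.app_injective_of_ne_zero CurveDeg.isInvertible_structureModule hL s hs _,
      hW _ (W.ι_image_le V)⟩
  exact ⟨⟨w, Opens.mem_sSup.2 ⟨W, inferInstanceAs (IsIso ((Scheme.Modules.restrictFunctor W.ι).map s)), hw⟩⟩⟩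

variable {k : Type u} [Field k]

/-- The two degrees agree on curves. -/
theorem curveDeg_eq_deg {Y : Scheme.{u}} [Y.Over (Spec (CommRingCat.of k))] [IsIntegral Y]
    [IsProper (Y ↘ Spec (CommRingCat.of k))] (hdim : topologicalKrullDim Y ≤ 1) {L : Y.Modules}
    (hL : Coh.IsQCoh L) : Pic13.curveDeg k (Y ↘ Spec (CommRingCat.of k)) L = Curv2.deg k Y L 1 := by
  have h : ∀ M : Y.Modules, Coh.IsQCoh M → Curv2.euler k Y M = FGA.eulerCharLE k Y M 1 := fun M hM => by
    rw [Euler.euler_eq_sum k M 2 fun i hi => by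
      obtain ⟨n, rfl⟩ := Nat.exists_eq_add_of_le hi
      rw [add_comm]
      exact CurveVanish.subsingleton_HH_curve k hdim hM n]
    rfl
  unfold Pic13.curveDeg Curv2.deg
  rw [h L hL, h _ QCoh.isQCoh_structureModule]
  push_cast
  rw [one_mul]

section Num

variable {X : Scheme.{u}} [X.Over (Spec (CommRingCat.of k))]

/-- An integral curve on a scheme. -/
structure Curve (X : Scheme.{u}) where
  C : Scheme.{u}
  c : C ⟶ X
  cl : IsClosedImmersion c
  int : IsIntegral C
  dim : topologicalKrullDim C = 1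

/-- The structure map of a curve. -/
instance Curve.over (T : Curve X) : T.C.Over (Spec (CommRingCat.of k)) :=
  ⟨T.c ≫ X ↘ Spec (CommRingCat.of k)⟩

instance Curve.instIntegral (T : Curve X) : IsIntegral T.C := T.int

instance Curve.instClosed (T : Curve X) : IsClosedImmersion T.c := T.cl

variable (k) in
/-- The degree of a module on a curve. -/
def degOn (T : Curve X) (L : X.Modules) : ℤ := Curv2.deg k T.C ((Scheme.Modules.pullback T.c).obj L) 1

variable [IsProper (X ↘ Spec (CommRingCat.of k))]

instance Curve.instProper (T : Curve X) : IsProper (T.C ↘ Spec (CommRingCat.of k)) :=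
  inferInstanceAs (IsProper (T.c ≫ X ↘ Spec (CommRingCat.of k)))

theorem isNumEquivZero_iff {L : X.Modules} (hL : PicF.IsInvertible L) :
    Pic13.IsNumEquivZero k X L ↔ ∀ T : Curve X, degOn k T L = 0 := by
  haveI : IsLocallyNoetherian X := LocallyOfFiniteType.isLocallyNoetherian (X ↘ Spec (CommRingCat.of k))
  have h : ∀ T : Curve X, Pic13.curveDeg k (T.c ≫ X ↘ Spec (CommRingCat.of k))
      ((Scheme.Modules.pullback T.c).obj L) = degOn k T L := fun T => by
    haveI : IsLocallyNoetherian T.C := LocallyOfFiniteType.isLocallyNoetherian T.c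
    exact curveDeg_eq_deg (Y := T.C) T.dim.le
      (CurveDeg.isCoh_of_isInvertible (PicClLib.isInvertible_pullback T.c hL)).1
  constructor
  · intro hn T
    rw [← h T]
    exact hn T.C T.c T.int T.dim
  · intro hd Y i _ hY hdim
    exact (h ⟨Y, i, inferInstance, hY, hdim⟩).trans (hd _)

theorem degOn_congr (T : Curve X) {L M : X.Modules} (e : L ≅ M) : degOn k T L = degOn k T M :=
  CurveRR.deg_congr (k := k) ((Scheme.Modules.pullback T.c).mapIso e) 1

theorem degOn_tensor (T : Curve X) {L M : X.Modules} (hL : PicF.IsInvertible L) (hM : PicF.IsInvertible M) :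
    degOn k T (CohB1.tensorMod L M) = degOn k T L + degOn k T M := by
  obtain ⟨e⟩ := H23.PicMul.pull T.c L M
  exact (CurveRR.deg_congr (k := k) e 1).trans
    (CurveRR.deg_tensor (k := k) T.dim (PicClLib.isInvertible_pullback T.c hL) (PicClLib.isInvertible_pullback T.c hM))

theorem degOn_structure (T : Curve X) : degOn k T (Coh.structureModule X) = 0 := by
  obtain ⟨e⟩ := PicClLib.nonempty_pullback_structureModule T.c
  exact (CurveRR.deg_congr (k := k) e 1).trans (CurveDeg.deg_structureModule k)

variable (k) in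
/-- Invertible numerically trivial modules. -/
def NumTriv (L : X.Modules) : Prop := PicF.IsInvertible L ∧ Pic13.IsNumEquivZero k X L

theorem NumTriv.deg {L : X.Modules} (h : NumTriv k L) (T : Curve X) : degOn k T L = 0 :=
  (isNumEquivZero_iff h.1).1 h.2 T

theorem numTriv_structure : NumTriv k (Coh.structureModule X) :=
  ⟨CurveDeg.isInvertible_structureModule, (isNumEquivZero_iff CurveDeg.isInvertible_structureModule).2 degOn_structure⟩

theorem NumTriv.tensor {L M : X.Modules} (hL : NumTriv k L) (hM : NumTriv k M) :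
    NumTriv k (CohB1.tensorMod L M) :=
  ⟨H23.PicMul.isInvertible_tensor hL.1 hM.1, (isNumEquivZero_iff (H23.PicMul.isInvertible_tensor hL.1 hM.1)).2
    fun T => by rw [degOn_tensor T hL.1 hM.1, hL.deg, hM.deg, add_zero]⟩

theorem NumTriv.of_iso {L M : X.Modules} (hL : NumTriv k L) (hM : PicF.IsInvertible M) (e : L ≅ M) :
    NumTriv k M :=
  ⟨hM, (isNumEquivZero_iff hM).2 fun T => by rw [← degOn_congr T e, hL.deg]⟩

theorem NumTriv.exists_inverse {L : X.Modules} (hL : NumTriv k L) :
    ∃ D : X.Modules, NumTriv k D ∧ Nonempty (CohB1.tensorMod L D ≅ Coh.structureModule X) := by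
  obtain ⟨D, hD, ⟨e⟩⟩ := H23.PicInv.exists_inverse hL.1
  refine ⟨D, ⟨hD, (isNumEquivZero_iff hD).2 fun T => ?_⟩, ⟨e⟩⟩
  have h := (degOn_tensor (k := k) T hL.1 hD).symm.trans ((degOn_congr T e).trans (degOn_structure T))
  rwa [hL.deg, zero_add] at h

/-- An ample module has positive degree on curves. -/
theorem degOn_pos (T : Curve X) {H : X.Modules} (hH : CohB1.IsAmple H) : 0 < degOn k T H := by
  haveI : CompactSpace T.C := QuasiCompact.compactSpace_of_compactSpace (T.C ↘ Spec (CommRingCat.of k))
  let A := (Scheme.Modules.pullback T.c).obj H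
  have hA : CohB1.IsAmple A :=
    AmpleVan.isAmple_pullback_of_isEmbedding T.c T.c.isClosedEmbedding.isEmbedding hH
  obtain ⟨n, s, hn, haff⟩ := hA.2.2 (genericPoint T.C)
  have hlt : ∃ x, x ∉ CohB1.genLocus _ s := by
    by_contra hall
    push Not at hall
    have htop : CohB1.genLocus _ s = ⊤ := eq_top_iff.2 fun x _ => hall x
    haveI : IsAffine T.C := by
      rw [htop] at haff
      haveI : IsAffine (⊤ : T.C.Opens) := haff
      exact .of_isIso (Scheme.topIso T.C).inv
    haveI : IsFinite (T.C ↘ Spec (CommRingCat.of k)) :=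
      IsFinite.iff_isProper_and_isAffineHom.2 ⟨inferInstance, inferInstance⟩
    letI := ((Scheme.ΓSpecIso (CommRingCat.of k)).inv ≫ (T.C ↘ Spec (CommRingCat.of k)).appTop).hom.toAlgebra
    haveI : Module.Finite k Γ(T.C, ⊤) := RingHom.finite_algebraMap.1 (by
      show ((Scheme.ΓSpecIso (CommRingCat.of k)).inv ≫ (T.C ↘ Spec (CommRingCat.of k)).appTop).hom.Finite
      exact ((Scheme.Hom.finite_appTop (T.C ↘ Spec (CommRingCat.of k))).comp
        (RingHom.Finite.of_surjective _
          (ConcreteCategory.bijective_of_isIso (Scheme.ΓSpecIso (CommRingCat.of k)).inv).2)))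
    haveI : IsArtinianRing Γ(T.C, ⊤) := IsArtinianRing.of_finite k _
    haveI : Subsingleton (PrimeSpectrum Γ(T.C, ⊤)) := by
      letI := (IsArtinianRing.isField_of_isDomain Γ(T.C, ⊤)).toField
      infer_instance
    haveI : Subsingleton (Spec Γ(T.C, ⊤)) := ‹Subsingleton (PrimeSpectrum Γ(T.C, ⊤))›
    haveI : Subsingleton T.C := T.C.isoSpec.hom.homeomorph.toEquiv.subsingleton
    have hcl : IsClosed ({genericPoint T.C} : Set T.C) := by
      rw [show ({genericPoint T.C} : Set T.C) = Set.univ from
        Set.eq_univ_iff_forall.2 fun y => Subsingleton.elim y _]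
      exact isClosed_univ
    have h0 := (VarDim.closedPoint_iff_deg_eq_zero (T.C ↘ Spec (CommRingCat.of k)) _).1 hcl
    have h1 := VarDim.topologicalKrullDim_eq_deg_genericPoint (T.C ↘ Spec (CommRingCat.of k))
    rw [T.dim, h0] at h1
    exact absurd h1 (by simp)
  obtain ⟨x, hx⟩ := hlt
  have hinv := InvX.isInvertible_tensorPow hA.1 (n + 1)
  have hpos := S1519.result k T.C T.dim _ hinv s (ne_zero_of_mem_genLocus hn) x hx
  have hpow : ∀ m : ℕ, Curv2.deg k T.C (CohB1.tensorPow A m) 1 = m * degOn k T H := by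
    intro m
    induction m with
    | zero => exact ((CurveDeg.deg_structureModule k).trans (by simp))
    | succ m ih =>
      have h := CurveRR.deg_tensor (k := k) T.dim (InvX.isInvertible_tensorPow hA.1 m) hA.1
      rw [show CohB1.tensorPow A (m + 1) = CohB1.tensorMod (CohB1.tensorPow A m) A from rfl]
      refine h.trans ?_
      rw [ih]
      push_cast
      show _ + Curv2.deg k T.C A 1 = _
      unfold degOn
      ring
  rw [hpow] at hpos
  exact (pos_iff_pos_of_mul_pos hpos).1 (by positivity)

end Num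

section Twists

variable {n : ℕ} {X : Scheme.{u}} [X.Over (Spec (CommRingCat.of k))] [IsProper (X ↘ Spec (CommRingCat.of k))]
  (j : X ⟶ CohB1.ProjSpace n k) [IsClosedImmersion j]

include j in
theorem isAmple_hyp_one : CohB1.IsAmple (hyp j 1) := by
  classical
  let T := Finset.image (fun a : Fin (n + 1) => (MvPolynomial.X a : MvPolynomial (Fin (n + 1)) k)) Finset.univ
  have hT : CohB1.IsAmple (Twist.twist (CohB1.polyGrading n k) 1) := by
    refine AmpleX.isAmple_twist_one (CohB1.polyGrading n k) T (fun f hf => ?_) (top_le_iff.1 fun y _ => ?_)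
    · obtain ⟨a, -, rfl⟩ := Finset.mem_image.1 hf
      exact ProjPt.X_mem a
    · obtain ⟨a, ha⟩ := ProjUPX.cov_X y
      exact Opens.mem_iSup.2 ⟨⟨_, Finset.mem_image.2 ⟨a, Finset.mem_univ _, rfl⟩⟩, ha⟩
  haveI : CompactSpace (CohB1.ProjSpace n k) := hT.2.1
  haveI : CompactSpace X := j.isClosedEmbedding.compactSpace
  exact AmpleVan.isAmple_pullback_of_isEmbedding j j.isClosedEmbedding.isEmbedding hT

theorem degOn_hyp (T : Curve X) (m : ℤ) : degOn k T (hyp j m) = m * degOn k T (hyp j 1) := by
  have h0 : degOn k T (hyp j 0) = 0 :=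
    (degOn_congr T (cl_eq_iff.1 ((cl_hyp_zero j).trans one_def)).some).trans (degOn_structure T)
  have hadd : ∀ a b : ℤ, degOn k T (hyp j (a + b)) = degOn k T (hyp j a) + degOn k T (hyp j b) := fun a b => by
    rw [← degOn_tensor T (isInvertible_hyp j a) (isInvertible_hyp j b)]
    exact degOn_congr T (cl_eq_iff.1 (((cl_tensor _ _).trans (cl_hyp_add j a b)).symm)).some
  induction m using Int.induction_on with
  | zero => rw [h0, zero_mul]
  | succ i ih => rw [hadd, ih]; ring
  | pred i ih =>
    have := hadd (-(i : ℤ) - 1) 1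
    rw [sub_add_cancel, ih] at this
    linarith [this]

/-- On an integral closed subscheme of positive dimension, a negative twist of a numerically trivial
module has no nonzero sections. -/
theorem eq_zero_of_twist_neg {Z : Scheme.{u}} (i : Z ⟶ X) [IsClosedImmersion i] [IsIntegral Z]
    (hZ : ¬ Subsingleton Z) {L : X.Modules} (hL : NumTriv k L) {m : ℤ} (hm : m < 0)
    (s : Coh.structureModule Z ⟶ (Scheme.Modules.pullback i).obj (Pic13.twistOn k j L m)) : s = 0 := by
  by_contra hs
  have hN : PicF.IsInvertible (Pic13.twistOn k j L m) :=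
    H23.PicMul.isInvertible_tensor hL.1 (isInvertible_hyp j m)
  have hNi := PicClLib.isInvertible_pullback i hN
  obtain ⟨⟨w, hw⟩⟩ := genLocus_nonempty hNi hs
  haveI : LocallyOfFiniteType (i ≫ X ↘ Spec (CommRingCat.of k)) := inferInstance
  haveI : JacobsonSpace Z := LocallyOfFiniteType.jacobsonSpace (i ≫ X ↘ Spec (CommRingCat.of k))
  obtain ⟨z, hzW, hz⟩ : ∃ z ∈ (CohB1.genLocus _ s : Set Z), IsClosed ({z} : Set Z) := by
    obtain ⟨z, h1, h2⟩ := nonempty_inter_closedPoints (Z := (CohB1.genLocus _ s : Set Z)) ⟨w, hw⟩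
      (CohB1.genLocus _ s).isOpen.isLocallyClosed
    exact ⟨z, h1, h2⟩
  have hgne : genericPoint Z ≠ z := by
    intro h
    refine hZ ⟨fun a b => ?_⟩
    have huniv : ({z} : Set Z) = Set.univ := by
      rw [← hz.closure_eq, ← h]
      exact genericPoint_spec Z
    exact (Set.eq_univ_iff_forall.1 huniv a).trans (Set.eq_univ_iff_forall.1 huniv b).symm
  obtain ⟨C, c, _, _, hdim, x, hx⟩ := exists_curve_through (i ≫ X ↘ Spec (CommRingCat.of k)) hz hgne
  let T : Curve X := ⟨C, c ≫ i, inferInstance, inferInstance, hdim⟩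
  letI : C.Over (Spec (CommRingCat.of k)) := ⟨(c ≫ i) ≫ X ↘ Spec (CommRingCat.of k)⟩
  haveI : IsProper (C ↘ Spec (CommRingCat.of k)) :=
    inferInstanceAs (IsProper ((c ≫ i) ≫ X ↘ Spec (CommRingCat.of k)))
  obtain ⟨e⟩ := PicClLib.nonempty_pullback_structureModule c
  let s' := e.symm.hom ≫ (Scheme.Modules.pullback c).map s
  have hg := InvX.genLocus_pullback c hNi s e.symm
  have hs' : s' ≠ 0 := by
    refine ne_zero_of_mem_genLocus (x := x) ?_
    rw [hg]
    show c x ∈ CohB1.genLocus _ s
    rw [hx]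
    exact hzW
  have h1 : 0 ≤ Curv2.deg k C ((Scheme.Modules.pullback c).obj
      ((Scheme.Modules.pullback i).obj (Pic13.twistOn k j L m))) 1 :=
    S1518.result k C hdim _ (PicClLib.isInvertible_pullback c hNi) s' hs'
  have h2 : Curv2.deg k C ((Scheme.Modules.pullback c).obj
      ((Scheme.Modules.pullback i).obj (Pic13.twistOn k j L m))) 1 = degOn k T (Pic13.twistOn k j L m) :=
    CurveRR.deg_congr (k := k) ((Scheme.Modules.pullbackComp c i).app _) 1
  have h3 : degOn k T (Pic13.twistOn k j L m) = m * degOn k T (hyp j 1) := by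
    rw [show Pic13.twistOn k j L m = CohB1.tensorMod L (hyp j m) from rfl,
      degOn_tensor T hL.1 (isInvertible_hyp j m), hL.deg, zero_add, degOn_hyp]
  nlinarith [degOn_pos (k := k) T (isAmple_hyp_one j), mul_neg_of_neg_of_pos hm (degOn_pos (k := k) T (isAmple_hyp_one j))]

end Twists

end Groth.Agent.Pic13Lib
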