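import Groth.Agent.Lib.RegDescent
import Groth.Agent.KFlatLib.Scheme.ProjModule
import Groth.Agent.PnCoh.PushNat
import Groth.Agent.AmpleVan.Tw
import Groth.Agent.HilbPoly.Poly
import Groth.Agent.Snapper.DimVanish
import Groth.Prelude.Def_Pic13

/-!
# The twists of modules on a closed subscheme of projective space
-/

set_option linter.style.haveILetI false
set_option linter.unusedSectionVars false
set_option backward.isDefEq.respectTransparency false
set_option backward.isDefEq.respectTransparency.types false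
set_option maxHeartbeats 1000000
set_option synthInstance.maxHeartbeats 200000

universe u

open CategoryTheory CategoryTheory.Limits AlgebraicGeometry TopologicalSpace Opposite
open Groth.Agent.H23.PicMul

attribute [local instance] HasDerivedCategory.standard

noncomputable section

namespace Groth.Agent.Pic13Lib

open Groth.Agent

variable {k : Type u} [Field k] {n : ℕ} {X : Scheme.{u}} (j : X ⟶ CohB1.ProjSpace n k)

/-- The restriction of `O(d)`. -/
abbrev hyp (d : ℤ) : X.Modules := (Scheme.Modules.pullback j).obj (Twist.twistProjSpace n k d)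

theorem isInvertible_hyp (d : ℤ) : PicF.IsInvertible (hyp j d) :=
  PicClLib.isInvertible_pullback j
    (PnCoh.Finite.isInvertible_twist (ProjRegular.coords k n) ProjRegular.coords_mem ProjRegular.coords_cover d)

theorem cl_hyp_add (a b : ℤ) : PicF.cl (hyp j a) * PicF.cl (hyp j b) = PicF.cl (hyp j (a + b)) := by
  obtain ⟨e⟩ := PnCoh.Finite.twist_tensor_iso (ProjRegular.coords k n) ProjRegular.coords_mem
    ProjRegular.coords_cover a b
  obtain ⟨p⟩ := H23.PicMul.pull j (Twist.twistProjSpace n k a) (Twist.twistProjSpace n k b)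
  rw [← cl_tensor]
  exact cl_eq_iff.2 ⟨p.symm ≪≫ (Scheme.Modules.pullback j).mapIso e⟩

theorem cl_hyp_zero : PicF.cl (hyp j 0) = 1 := by
  obtain ⟨e⟩ := RegEpi.unitIso (k := k) (n := n)
  obtain ⟨e'⟩ := PicClLib.nonempty_pullback_structureModule j
  exact cl_eq_iff.2 ⟨((Scheme.Modules.pullback j).mapIso e).symm ≪≫ e'⟩

theorem cl_twistOn (F : X.Modules) (d : ℤ) :
    PicF.cl (Pic13.twistOn k j F d) = PicF.cl F * PicF.cl (hyp j d) := cl_tensor _ _

theorem twistOn_congr {F G : X.Modules} (e : F ≅ G) (d : ℤ) :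
    Nonempty (Pic13.twistOn k j F d ≅ Pic13.twistOn k j G d) :=
  ⟨(AmpleVan.tw (hyp j d)).mapIso e⟩

theorem twistOn_zero (F : X.Modules) : Nonempty (Pic13.twistOn k j F 0 ≅ F) :=
  cl_eq_iff.1 (by rw [cl_twistOn, cl_hyp_zero, mul_one])

theorem twistOn_twistOn (F : X.Modules) (a b : ℤ) :
    Nonempty (Pic13.twistOn k j (Pic13.twistOn k j F a) b ≅ Pic13.twistOn k j F (a + b)) :=
  cl_eq_iff.1 (by rw [cl_twistOn, cl_twistOn, cl_twistOn, mul_assoc, cl_hyp_add])

theorem twistOn_tensor (F L : X.Modules) (d : ℤ) :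
    Nonempty (Pic13.twistOn k j (CohB1.tensorMod F L) d ≅ CohB1.tensorMod (Pic13.twistOn k j F d) L) :=
  cl_eq_iff.1 (by rw [cl_twistOn, cl_tensor, cl_tensor, cl_twistOn, mul_right_comm])

variable [IsClosedImmersion j]

include j in
theorem isNoetherian : IsNoetherian X := by
  haveI hP : IsNoetherian (Proj (CohB1.polyGrading n k)) := Proj16.isNoetherian_proj _
  haveI : IsLocallyNoetherian (CohB1.ProjSpace n k) := hP.toIsLocallyNoetherian
  haveI : CompactSpace (CohB1.ProjSpace n k) := hP.toCompactSpace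
  haveI : IsLocallyNoetherian X := LocallyOfFiniteType.isLocallyNoetherian j
  haveI : CompactSpace X := QuasiCompact.compactSpace_of_compactSpace j
  exact { __ := ‹IsLocallyNoetherian X›, __ := ‹CompactSpace X› }

theorem isCoh_twistOn {F : X.Modules} (hF : Coh.IsCoh F) (d : ℤ) : Coh.IsCoh (Pic13.twistOn k j F d) := by
  haveI := isNoetherian j
  exact AmpleVan.isCoh_tensor hF (AmpleVan.isCoh_invertible (isInvertible_hyp j d))

theorem isCoh_push {F : X.Modules} (hF : Coh.IsCoh F) : Coh.IsCoh ((Scheme.Modules.pushforward j).obj F) := by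
  haveI := PnCoh.Finite.isLocallyNoetherian_projSpace n k
  exact S0019.result j F hF

/-- The projection formula for the twists. -/
theorem push_twistOn (F : X.Modules) (d : ℤ) :
    Nonempty ((RegEpi.twF d).obj ((Scheme.Modules.pushforward j).obj F) ≅
      (Scheme.Modules.pushforward j).obj (Pic13.twistOn k j F d)) :=
  ⟨@asIso _ _ _ _ _ (KFlatLib.isIso_projMod_of_isClosedImmersion j F (Twist.twistProjSpace n k d))⟩

variable [X.Over (Spec (CommRingCat.of k))]
  (hj : j ≫ CohB1.ProjSpace.toSpec n k = X ↘ Spec (CommRingCat.of k))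

include j hj in
theorem isProper : IsProper (X ↘ Spec (CommRingCat.of k)) := by
  haveI : IsProper (CohB1.ProjSpace.toSpec n k) := PnCoh.Chow.isProper_toSpec n k
  rw [← hj]
  infer_instance

include hj in
theorem exists_pushEquiv {F : X.Modules} (hF : Coh.IsQCoh F) (q : ℕ) :
    Nonempty (Coh.HH X F q ≃ₗ[k] Coh.HH (CohB1.ProjSpace n k) ((Scheme.Modules.pushforward j).obj F) q) :=
  PnCoh.exists_linearEquiv_push k j hj hF q

include hj in
theorem exists_twistEquiv {F : X.Modules} (hF : Coh.IsCoh F) (d : ℤ) (q : ℕ) :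
    Nonempty (Coh.HH X (Pic13.twistOn k j F d) q ≃ₗ[k]
      Coh.HH (CohB1.ProjSpace n k) ((RegEpi.twF d).obj ((Scheme.Modules.pushforward j).obj F)) q) := by
  obtain ⟨e⟩ := push_twistOn j F d
  obtain ⟨l⟩ := exists_pushEquiv j hj (isCoh_twistOn j hF d).1 q
  exact ⟨l.trans (RegDescent.HHequiv (k := k) e q).symm⟩

include hj in
theorem subsingleton_twistOn_iff {F : X.Modules} (hF : Coh.IsCoh F) (d : ℤ) (q : ℕ) :
    Subsingleton (Coh.HH X (Pic13.twistOn k j F d) q) ↔
      Subsingleton (Coh.HH (CohB1.ProjSpace n k) ((RegEpi.twF d).obj ((Scheme.Modules.pushforward j).obj F)) q) :=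
  (exists_twistEquiv j hj hF d q).some.toEquiv.subsingleton_congr

include hj in
/-- No cohomology above the dimension of the ambient space. -/
theorem subsingleton_of_lt {F : X.Modules} (hF : Coh.IsCoh F) (d : ℤ) {q : ℕ} (hq : n < q) :
    Subsingleton (Coh.HH X (Pic13.twistOn k j F d) q) :=
  (subsingleton_twistOn_iff j hj hF d q).2 (ProjRegular.subsingleton_HH_high (isCoh_push j hF) d q hq)

include hj in
/-- Serre vanishing. -/
theorem exists_vanishing {F : X.Modules} (hF : Coh.IsCoh F) :
    ∃ d₀ : ℤ, ∀ d, d₀ ≤ d → ∀ q, 1 ≤ q → Subsingleton (Coh.HH X (Pic13.twistOn k j F d) q) := by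
  have h : ∀ q : Fin n, ∃ d₀ : ℤ, ∀ d, d₀ ≤ d → Subsingleton (Coh.HH (CohB1.ProjSpace n k)
      ((RegEpi.twF d).obj ((Scheme.Modules.pushforward j).obj F)) (q + 1)) := fun q =>
    RegDescent.exists_vanishing_twF (isCoh_push j hF) _ q.1.succ_pos
  choose d₀ hd₀ using h
  refine ⟨∑ q, |d₀ q|, fun d hd q hq => ?_⟩
  rcases le_or_gt q n with hqn | hqn
  · refine (subsingleton_twistOn_iff j hj hF d q).2 ?_
    obtain ⟨p, rfl⟩ : ∃ p, q = p + 1 := ⟨q - 1, by omega⟩
    refine hd₀ ⟨p, by omega⟩ d (le_trans ?_ hd)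
    exact (le_abs_self _).trans (Finset.single_le_sum (f := fun q => |d₀ q|) (fun _ _ => abs_nonneg _) (Finset.mem_univ _))
  · exact subsingleton_of_lt j hj hF d hqn

include hj in
theorem finite_HH {F : X.Modules} (hF : Coh.IsCoh F) (q : ℕ) : Module.Finite k (Coh.HH X F q) := by
  haveI := isProper j hj
  exact S0002.result k X F hF q

end Groth.Agent.Pic13Lib
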