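import Groth.Agent.Pic13Lib.ConstEuler
import Groth.Agent.KFlatLib.Scheme.TensorStalk
import Groth.Agent.H23.Seesaw

/-!
# Semicontinuity on the fibres of a flat family; flatness of twists
-/

set_option autoImplicit false
set_option linter.style.haveILetI false
set_option linter.unusedSectionVars false
set_option backward.isDefEq.respectTransparency false
set_option backward.isDefEq.respectTransparency.types false
set_option maxHeartbeats 1000000
set_option synthInstance.maxHeartbeats 200000

universe u

open CategoryTheory CategoryTheory.Limits AlgebraicGeometry TopologicalSpace Opposite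
open scoped TensorProduct

noncomputable section

namespace Groth.Agent.Pic13Lib

open Groth.Agent Groth.Agent.FlatCxLib

/-- The fibre rank of the homology is upper semicontinuous. -/
theorem eventually_dRank_le {A : Type u} [CommRing A] {P : ChainComplex (ModuleCat.{u} A) ℤ}
    (hfin : ∀ i, Module.Finite A (P.X i)) (hfree : ∀ i, Module.Free A (P.X i)) (i : ℤ) (x : PrimeSpectrum A) :
    ∀ᶠ y in nhds x, CohIII.dRank P i y ≤ CohIII.dRank P i x := by
  haveI := fun i => hfin i
  haveI := fun i => hfree i
  haveI : Module.FinitePresentation A (P.X (i - 1)) := Module.finitePresentation_of_projective A _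
  have hrk := (isLocallyConstant_fibreRank (A := A) (P.X (i - 1))).eventually_eq x
  have h1 := upperSemicontinuous_fibreRank (A := A) (Coker P (i + 1) i) x _ (Nat.lt_succ_self _)
  have h2 := upperSemicontinuous_fibreRank (A := A) (Coker P i (i - 1)) x _ (Nat.lt_succ_self _)
  filter_upwards [hrk, h1, h2] with y hy hy1 hy2
  have a := dRank_add P hfin (show i + 1 = i + 1 from rfl) (show i - 1 + 1 = i by lia) y
  have b := dRank_add P hfin (show i + 1 = i + 1 from rfl) (show i - 1 + 1 = i by lia) x
  omega

/-- A vanishing fibre cohomology group vanishes nearby. -/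
theorem eventually_fiberRank_eq_zero {X S : Scheme.{u}} (f : X ⟶ S) [IsProper f] [IsLocallyNoetherian S]
    {M : X.Modules} (hM : Coh.IsCoh M) (hfl : FlatMod.IsFlatOver f M) (p : ℕ) (y : S)
    (h : CohIII.fiberRank f M p y = 0) : ∀ᶠ z in nhds y, CohIII.fiberRank f M p z = 0 := by
  haveI : HasInjectiveResolutions X.Modules := KFlatLib.hasInjectiveResolutions_modules
  obtain ⟨_, ⟨V, hV, rfl⟩, hyV, -⟩ :=
    S.isBasis_affineOpens.exists_subset_of_mem_open (Set.mem_univ y) isOpen_univ
  obtain ⟨P, hfin, hfree, -, -, -, hfib⟩ := QCoh.exists_isLocalModel hM hfl hV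
  have h1 := eventually_dRank_le hfin hfree (-(p : ℤ)) (hV.primeIdealOf ⟨y, hyV⟩)
  have hcont : Continuous fun z : V => hV.primeIdealOf z := by
    show Continuous fun z : V => hV.isoSpec.hom z
    exact hV.isoSpec.hom.continuous
  have h2 := (hcont.tendsto (⟨y, hyV⟩ : V)).eventually h1
  rw [nhds_subtype_eq_comap, Filter.eventually_comap] at h2
  filter_upwards [h2, V.2.mem_nhds hyV] with z hz hzV
  have hz' := hz ⟨z, hzV⟩ rfl
  rw [← (hfib p y hyV).1, h] at hz'
  rw [(hfib p z hzV).1]
  omega

/-- Tensoring with an invertible module preserves flatness over the base. -/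
theorem isFlatOver_tensor {X S : Scheme.{u}} (f : X ⟶ S) {F N : X.Modules} (hF : FlatMod.IsFlatOver f F)
    (hN : PicF.IsInvertible N) : FlatMod.IsFlatOver f (CohB1.tensorMod F N) := fun x => by
  obtain ⟨U, hx, e, he⟩ := InvX.exists_frame hN x
  show FlatMod.IsFlatOverAt f _ x
  unfold FlatMod.IsFlatOverAt
  letI := FlatMod.moduleStalkOver f F x
  letI := FlatMod.moduleStalkOver f (CohB1.tensorMod F N) x
  letI : Algebra (S.presheaf.stalk (f.base x)) (X.presheaf.stalk x) := (f.stalkMap x).hom.toAlgebra
  haveI : IsScalarTower (S.presheaf.stalk (f.base x)) (X.presheaf.stalk x) (F.presheaf.stalk x) :=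
    IsScalarTower.of_algebraMap_smul fun _ _ => rfl
  haveI : IsScalarTower (S.presheaf.stalk (f.base x)) (X.presheaf.stalk x)
      ((CohB1.tensorMod F N).presheaf.stalk x) := IsScalarTower.of_algebraMap_smul fun _ _ => rfl
  haveI : Module.Flat (S.presheaf.stalk (f.base x)) (F.presheaf.stalk x) := hF x
  let e' : X.presheaf.stalk x ≃ₗ[X.presheaf.stalk x] N.presheaf.stalk x :=
    LinearEquiv.ofBijective
      (LinearMap.toSpanSingleton (X.presheaf.stalk x) (N.presheaf.stalk x) ((N.presheaf.germ U x hx).hom e))
      (he.germ_bijective hx)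
  let l₀ : (F.presheaf.stalk x ⊗[X.presheaf.stalk x] N.presheaf.stalk x) ≃ₗ[X.presheaf.stalk x]
      (CohB1.tensorMod F N).presheaf.stalk x := (KFlatLib.stalkTensorIso x F N).toLinearEquiv
  let l : (CohB1.tensorMod F N).presheaf.stalk x ≃ₗ[X.presheaf.stalk x] F.presheaf.stalk x :=
    l₀.symm.trans ((TensorProduct.congr (LinearEquiv.refl _ _) e'.symm).trans (TensorProduct.rid _ _))
  exact Module.Flat.of_linearEquiv (l.restrictScalars (S.presheaf.stalk (f.base x)))

end Groth.Agent.Pic13Lib
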