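import Groth.Agent.Pic13Lib.ChowNum

/-!
# Numerical triviality read on Euler characteristics
-/

set_option linter.style.haveILetI false
set_option linter.unusedSectionVars false
set_option backward.isDefEq.respectTransparency false
set_option backward.isDefEq.respectTransparency.types false
set_option maxHeartbeats 1000000
set_option synthInstance.maxHeartbeats 200000

universe u

open CategoryTheory CategoryTheory.Limits AlgebraicGeometry TopologicalSpace Opposite
open Groth.Agent.H23.PicMul

attribute [local instance] HasDerivedCategory.standard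

noncomputable section

namespace Groth.Agent.Pic13Lib

open Groth.Agent

variable {k : Type u} [Field k] {X : Scheme.{u}} [X.Over (Spec (CommRingCat.of k))]
  [IsProper (X ↘ Spec (CommRingCat.of k))]

/-- The truncated Euler characteristic is the Euler characteristic. -/
theorem eulerLE_eq_euler {d : ℕ} (hd : topologicalKrullDim X ≤ d) {M : X.Modules} (hM : Coh.IsQCoh M) :
    FGA.eulerCharLE k X M d = Curv2.euler k X M := by
  haveI : IsLocallyNoetherian X := LocallyOfFiniteType.isLocallyNoetherian (X ↘ Spec (CommRingCat.of k))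
  haveI : CompactSpace X := QuasiCompact.compactSpace_of_compactSpace (X ↘ Spec (CommRingCat.of k))
  haveI : IsNoetherian X := { __ := ‹IsLocallyNoetherian X›, __ := ‹CompactSpace X› }
  haveI : X.IsSeparated := ⟨by
    rw [← terminal.comp_from (X ↘ Spec (CommRingCat.of k))]
    exact MorphismProperty.comp_mem @IsSeparated _ _ inferInstance inferInstance⟩
  rw [Euler.euler_eq_sum k M (d + 1) fun i hi => Snapper.subsingleton_HH_of_dim_le hd hM (by omega)]
  rfl

/-- A scheme proper over a field has finite dimension. -/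
theorem exists_dim_le (f : X ⟶ Spec (CommRingCat.of k)) [LocallyOfFiniteType f] [CompactSpace X] :
    ∃ d : ℕ, topologicalKrullDim X ≤ d := by
  obtain ⟨t, ht⟩ := isCompact_univ.elim_finite_subcover
    (fun x : X => ((VarDim.exists_nhd f x).choose : Set X)) (fun x => (VarDim.exists_nhd f x).choose.2)
    fun x _ => Set.mem_iUnion.2 ⟨x, (VarDim.exists_nhd f x).choose_spec.1⟩
  refine ⟨t.sup fun x => VarDim.deg f x + (VarDim.exists_deg_add_stalk f x).choose, ?_⟩
  rw [VarDim.topologicalKrullDim_eq_iSup_deg f]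
  refine iSup_le fun z => ?_
  obtain ⟨x, hx, hz⟩ := Set.mem_iUnion₂.1 (ht (Set.mem_univ z))
  obtain ⟨η, hη, hle⟩ := (VarDim.exists_nhd f x).choose_spec.2 z hz
  have h2 := (VarDim.exists_deg_add_stalk f x).choose_spec.2.2 η hη
  have h3 := Finset.le_sup (f := fun x => VarDim.deg f x + (VarDim.exists_deg_add_stalk f x).choose) hx
  exact_mod_cast (hle.trans h2).trans h3

theorem isNumEquivZero_iff_euler {L : X.Modules} (hL : PicF.IsInvertible L) :
    Pic13.IsNumEquivZero k X L ↔
      ∀ (F : X.Modules), Coh.IsCoh F → ∀ d : ℕ, topologicalKrullDim X ≤ d →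
        FGA.eulerCharLE k X (CohB1.tensorMod F L) d = FGA.eulerCharLE k X F d := by
  haveI : IsLocallyNoetherian X := LocallyOfFiniteType.isLocallyNoetherian (X ↘ Spec (CommRingCat.of k))
  haveI : CompactSpace X := QuasiCompact.compactSpace_of_compactSpace (X ↘ Spec (CommRingCat.of k))
  constructor
  · intro hnum F hF d hd
    rw [eulerLE_eq_euler hd (AmpleVan.isCoh_tensor hF (AmpleVan.isCoh_invertible hL)).1,
      eulerLE_eq_euler hd hF.1]
    exact sub_eq_zero.1 (dEuler_eq_zero ⟨hL, hnum⟩ hF)
  · intro h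
    refine (isNumEquivZero_iff hL).2 fun T => ?_
    haveI : IsNoetherian X := { __ := ‹IsLocallyNoetherian X›, __ := ‹CompactSpace X› }
    haveI : IsLocallyNoetherian T.C := LocallyOfFiniteType.isLocallyNoetherian T.c
    obtain ⟨d, hd⟩ := exists_dim_le (X ↘ Spec (CommRingCat.of k))
    have hF := QCoh.isCoh_push_structure T.c
    have h1 := h _ hF d hd
    rw [eulerLE_eq_euler hd (AmpleVan.isCoh_tensor hF (AmpleVan.isCoh_invertible hL)).1,
      eulerLE_eq_euler hd hF.1] at h1
    have h2 : dEuler k L ((Coh.push T.c).obj (Coh.structureModule T.C)) = 0 := sub_eq_zero.2 h1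
    rw [dEuler_push T.c rfl QCoh.isQCoh_structureModule hL
      (AmpleVan.isCoh_tensor QCoh.isCoh_structureModule'
        (AmpleVan.isCoh_invertible (PicClLib.isInvertible_pullback T.c hL))).1] at h2
    have hun : Nonempty (CohB1.tensorMod (Coh.structureModule T.C) ((Scheme.Modules.pullback T.c).obj L) ≅
        (Scheme.Modules.pullback T.c).obj L) :=
      cl_eq_iff.1 (by rw [cl_tensor, ← one_def, one_mul])
    rw [(HilbPoly.additive_euler k).iso _ _ hun] at h2
    show Curv2.euler k T.C _ - ((1 : ℕ) : ℤ) * Curv2.euler k T.C _ = 0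
    push_cast
    omega

theorem NumTriv.tensorPow {L : X.Modules} (hL : NumTriv k L) (m : ℕ) : NumTriv k (CohB1.tensorPow L m) := by
  induction m with
  | zero => exact numTriv_structure
  | succ m ih => exact ih.tensor hL

/-- Inverses of invertible modules are invertible. -/
theorem isInvertible_of_tensor_iso {A B : X.Modules} (hA : PicF.IsInvertible A)
    (e : Nonempty (CohB1.tensorMod A B ≅ Coh.structureModule X)) : PicF.IsInvertible B := by
  obtain ⟨D, hD, ⟨e'⟩⟩ := H23.PicInv.exists_inverse hA
  have h1 : PicF.cl A * PicF.cl B = 1 := by rw [← cl_tensor, one_def]; exact cl_eq_iff.2 e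
  have h2 : PicF.cl A * PicF.cl D = 1 := by rw [← cl_tensor, one_def]; exact cl_eq_iff.2 ⟨e'⟩
  have h3 : PicF.cl D = PicF.cl B := by
    calc PicF.cl D = PicF.cl D * (PicF.cl A * PicF.cl B) := by rw [h1, mul_one]
      _ = PicF.cl A * PicF.cl D * PicF.cl B := by ac_rfl
      _ = PicF.cl B := by rw [h2, one_mul]
  obtain ⟨φ⟩ := cl_eq_iff.1 h3
  exact H23.PicMul.isInvertible_of_iso φ hD

/-- The Euler characteristics of all the twists by powers. -/
theorem euler_twists {H H' L L' : X.Modules} (hH : PicF.IsInvertible H)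
    (hHH' : Nonempty (CohB1.tensorMod H H' ≅ Coh.structureModule X)) (hL : PicF.IsInvertible L)
    (hnum : Pic13.IsNumEquivZero k X L) (hLL' : Nonempty (CohB1.tensorMod L L' ≅ Coh.structureModule X))
    (m n : ℕ) (d : ℕ) (hd : topologicalKrullDim X ≤ d) :
    FGA.eulerCharLE k X (CohB1.tensorMod (CohB1.tensorPow L m) (CohB1.tensorPow H n)) d = FGA.eulerCharLE k X (CohB1.tensorPow H n) d ∧
    FGA.eulerCharLE k X (CohB1.tensorMod (CohB1.tensorPow L m) (CohB1.tensorPow H' n)) d = FGA.eulerCharLE k X (CohB1.tensorPow H' n) d ∧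
    FGA.eulerCharLE k X (CohB1.tensorMod (CohB1.tensorPow L' m) (CohB1.tensorPow H n)) d = FGA.eulerCharLE k X (CohB1.tensorPow H n) d ∧
    FGA.eulerCharLE k X (CohB1.tensorMod (CohB1.tensorPow L' m) (CohB1.tensorPow H' n)) d = FGA.eulerCharLE k X (CohB1.tensorPow H' n) d := by
  haveI : IsLocallyNoetherian X := LocallyOfFiniteType.isLocallyNoetherian (X ↘ Spec (CommRingCat.of k))
  have hH' := isInvertible_of_tensor_iso hH hHH'
  have hL' := isInvertible_of_tensor_iso hL hLL'
  have hn : NumTriv k L := ⟨hL, hnum⟩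
  have hn' : NumTriv k L' := by
    obtain ⟨D, hD, e⟩ := hn.exists_inverse
    refine hD.of_iso hL' (Classical.choice (cl_eq_iff.1 ?_))
    have h1 : PicF.cl L * PicF.cl L' = 1 := by rw [← cl_tensor, one_def]; exact cl_eq_iff.2 hLL'
    have h2 : PicF.cl L * PicF.cl D = 1 := by rw [← cl_tensor, one_def]; exact cl_eq_iff.2 e
    calc PicF.cl D = PicF.cl D * (PicF.cl L * PicF.cl L') := by rw [h1, mul_one]
      _ = PicF.cl L * PicF.cl D * PicF.cl L' := by ac_rfl
      _ = PicF.cl L' := by rw [h2, one_mul]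
  have key : ∀ P Q : X.Modules, NumTriv k P → PicF.IsInvertible Q →
      FGA.eulerCharLE k X (CohB1.tensorMod P Q) d = FGA.eulerCharLE k X Q d := fun P Q hP hQ => by
    obtain ⟨c⟩ := H23.PicMul.comm P Q
    have h := (isNumEquivZero_iff_euler hP.1).1 hP.2 Q (AmpleVan.isCoh_invertible hQ) d hd
    rw [← h, eulerLE_eq_euler hd (AmpleVan.isCoh_invertible (H23.PicMul.isInvertible_tensor hP.1 hQ)).1,
      eulerLE_eq_euler hd (AmpleVan.isCoh_invertible (H23.PicMul.isInvertible_tensor hQ hP.1)).1]
    exact (HilbPoly.additive_euler k).iso _ _ ⟨c⟩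
  exact ⟨key _ _ (hn.tensorPow m) (InvX.isInvertible_tensorPow hH n),
    key _ _ (hn.tensorPow m) (InvX.isInvertible_tensorPow hH' n),
    key _ _ (hn'.tensorPow m) (InvX.isInvertible_tensorPow hH n),
    key _ _ (hn'.tensorPow m) (InvX.isInvertible_tensorPow hH' n)⟩

end Groth.Agent.Pic13Lib
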