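import Groth.Agent.Pic13Lib.ConstEuler
import Groth.Agent.Pic13Lib.CurveSec
import Groth.Agent.CurveBC.Coh
import Groth.Agent.H23.Seesaw

/-!
# Algebraic equivalence implies numerical equivalence
-/

set_option linter.style.haveILetI false
set_option linter.unusedSectionVars false
set_option backward.isDefEq.respectTransparency false
set_option backward.isDefEq.respectTransparency.types false
set_option maxHeartbeats 1000000
set_option synthInstance.maxHeartbeats 200000

universe u

open CategoryTheory CategoryTheory.Limits AlgebraicGeometry TopologicalSpace Opposite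
open Groth.Agent.H23.PicMul

attribute [local instance] HasDerivedCategory.standard

noncomputable section

namespace Groth.Agent.Pic13Lib

open Groth.Agent

/-- The fibre ranks at a field valued point. -/
theorem fiberRank_eq_finrank {P S : Scheme.{u}} (f : P ⟶ S) [IsProper f] {K : Type u} [Field K] {Y : Scheme.{u}}
    [Y.Over (Spec (CommRingCat.of K))] (g : Y ⟶ P) (σ : Spec (CommRingCat.of K) ⟶ S)
    (hpb : IsPullback g (Y ↘ Spec (CommRingCat.of K)) f σ) {M : P.Modules} (hM : Coh.IsQCoh M) (p : ℕ) :
    CohIII.fiberRank f M p (σ (IsLocalRing.closedPoint K)) =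
      Module.finrank K (Coh.HH Y ((Scheme.Modules.pullback g).obj M) p) := by
  let y := σ (IsLocalRing.closedPoint K)
  let e : S.residueField y ⟶ CommRingCat.of K := S.descResidueField (Scheme.stalkClosedPointTo σ)
  have hσ : Spec.map e ≫ S.fromSpecResidueField y = σ :=
    Scheme.descResidueField_stalkClosedPointTo_fromSpecResidueField K S σ
  letI : Algebra (S.residueField y) K := e.hom.toAlgebra
  have hw : g ≫ f = ((Y ↘ Spec (CommRingCat.of K)) ≫ Spec.map e) ≫ S.fromSpecResidueField y := by
    rw [Category.assoc, hσ, hpb.w]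
  let g' : Y ⟶ f.fiber y := pullback.lift g ((Y ↘ Spec (CommRingCat.of K)) ≫ Spec.map e) hw
  have h1 : IsPullback (g' ≫ f.fiberι y) (Y ↘ Spec (CommRingCat.of K)) f
      (Spec.map e ≫ S.fromSpecResidueField y) := by
    rw [show g' ≫ f.fiberι y = g from pullback.lift_fst _ _ _, hσ]; exact hpb
  have h2 : IsPullback g' (Y ↘ Spec (CommRingCat.of K)) (f.fiberToSpecResidueField y) (Spec.map e) :=
    IsPullback.of_right h1 (pullback.lift_snd _ _ _) (IsPullback.of_hasPullback f (S.fromSpecResidueField y))
  letI : (f.fiber y).Over (Spec (CommRingCat.of (S.residueField y))) := ⟨f.fiberToSpecResidueField y⟩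
  haveI : IsProper (f.fiber y ↘ Spec (CommRingCat.of (S.residueField y))) :=
    inferInstanceAs (IsProper (pullback.snd f (S.fromSpecResidueField y)))
  haveI : CompactSpace (f.fiber y) := QuasiCompact.compactSpace_of_compactSpace (f.fiber y ↘ Spec (CommRingCat.of (S.residueField y)))
  haveI : (f.fiber y).IsSeparated := ⟨by
    rw [← terminal.comp_from (f.fiber y ↘ Spec (CommRingCat.of (S.residueField y)))]
    exact MorphismProperty.comp_mem @IsSeparated _ _ inferInstance inferInstance⟩
  have h3 := CurveBC.finrank_hh (S.residueField y) K g' h2 _ (QCoh.isQCoh_pullback (f.fiberι y) hM) p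
  let φ : (Scheme.Modules.pullback g').obj (CohIII.fiberMod f M y) ≅ (Scheme.Modules.pullback g).obj M :=
    (Scheme.Modules.pullbackComp g' (f.fiberι y)).app M ≪≫
      (Scheme.Modules.pullbackCongr (pullback.lift_fst _ _ _)).app M
  rw [HilbPoly.finrank_HH_iso K φ p] at h3
  exact h3.symm

variable {k : Type u} [Field k] {X : Scheme.{u}} [X.Over (Spec (CommRingCat.of k))]
  [IsProper (X ↘ Spec (CommRingCat.of k))]

/-- Modules algebraically equivalent to zero are numerically trivial. -/
theorem isNumEquivZero_of_isAlgEquivZero {L : X.Modules} (hL : PicF.IsInvertible L)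
    (h : Pic13.IsAlgEquivZero k X L) : Pic13.IsNumEquivZero k X L := by
  obtain ⟨T, q, hT, hft, hqc, M, hM, t, t₀, ht, ht₀, ⟨eL⟩, ⟨eO⟩⟩ := h
  refine (isNumEquivZero_iff hL).2 fun C => ?_
  let pC := C.C ↘ Spec (CommRingCat.of k)
  haveI := hft; haveI := hqc
  haveI : IsLocallyNoetherian T := LocallyOfFiniteType.isLocallyNoetherian q
  haveI : CompactSpace T := QuasiCompact.compactSpace_of_compactSpace q
  haveI : Flat pC := inferInstance
  let P := Limits.pullback pC q
  let f : P ⟶ T := pullback.snd pC q
  haveI : IsProper f := inferInstanceAs (IsProper (pullback.snd pC q))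
  haveI : Flat f := inferInstanceAs (Flat (pullback.snd pC q))
  haveI : IsLocallyNoetherian P := LocallyOfFiniteType.isLocallyNoetherian f
  let hmap : P ⟶ Pic13.prodK k X q := pullback.lift (pullback.fst pC q ≫ C.c) f (by
    rw [Category.assoc]; exact pullback.condition)
  let N := (Scheme.Modules.pullback hmap).obj M
  have hN : PicF.IsInvertible N := PicClLib.isInvertible_pullback hmap hM
  have hNc : Coh.IsCoh N := AmpleVan.isCoh_invertible hN
  have hfl := H23.Seesaw.isFlatOver_of_isInvertible f hN
  choose d₀ hd₀ using fun y : T => exists_eventually_euler_fibre f hNc hfl y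
  choose O hOsub hOopen hyO using fun y : T => mem_nhds_iff.1 (hd₀ y)
  obtain ⟨s, hs⟩ := isCompact_univ.elim_finite_subcover O hOopen fun y _ => Set.mem_iUnion.2 ⟨y, hyO y⟩
  let D := max 2 (s.sup d₀)
  let Φ : T → ℤ := fun z => ∑ p ∈ Finset.range D, (-1 : ℤ) ^ p * (CohIII.fiberRank f N p z : ℤ)
  have hΦ : IsLocallyConstant Φ := by
    refine (IsLocallyConstant.iff_exists_open _).2 fun z => ?_
    obtain ⟨y, hy, hzy⟩ := Set.mem_iUnion₂.1 (hs (Set.mem_univ z))
    have hle : d₀ y ≤ D := (Finset.le_sup hy).trans (le_max_right _ _)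
    exact ⟨O y, hOopen y, hzy, fun w hw => (hOsub y hw D hle).trans (hOsub y hzy D hle).symm⟩
  have hslice : ∀ (s : Spec (CommRingCat.of k) ⟶ T) (hs : s ≫ q = 𝟙 _),
      Φ (s (IsLocalRing.closedPoint k)) =
        Curv2.euler k C.C ((Scheme.Modules.pullback C.c).obj (Pic13.fibreMod k X q s hs M)) := by
    intro s hs
    let g : C.C ⟶ P := pullback.lift (𝟙 _) (pC ≫ s) (by
      rw [Category.id_comp, Category.assoc, hs, Category.comp_id])
    have h1 : IsPullback (g ≫ pullback.fst pC q) pC pC (s ≫ q) := by
      rw [show g ≫ pullback.fst pC q = 𝟙 _ from pullback.lift_fst _ _ _, hs]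
      exact IsPullback.of_horiz_isIso ⟨by simp⟩
    have hpb : IsPullback g pC f s :=
      IsPullback.of_right h1 (pullback.lift_snd _ _ _) (IsPullback.of_hasPullback pC q)
    have hcomp : g ≫ hmap = C.c ≫ Pic13.sliceAt k X q s hs := by
      refine pullback.hom_ext ?_ ?_
      · rw [Category.assoc, Category.assoc]
        erw [pullback.lift_fst, pullback.lift_fst]
        rw [← Category.assoc, show g ≫ pullback.fst pC q = 𝟙 _ from pullback.lift_fst _ _ _]
        simp
      · have e1 : hmap ≫ pullback.snd (X ↘ Spec (CommRingCat.of k)) q = f := pullback.lift_snd _ _ _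
        have e2 : g ≫ f = pC ≫ s := pullback.lift_snd _ _ _
        have e3 : Pic13.sliceAt k X q s hs ≫ pullback.snd (X ↘ Spec (CommRingCat.of k)) q =
            (X ↘ Spec (CommRingCat.of k)) ≫ s := pullback.lift_snd _ _ _
        rw [Category.assoc, Category.assoc, e1, e2, e3, ← Category.assoc]
        rfl
    let φ : (Scheme.Modules.pullback g).obj N ≅
        (Scheme.Modules.pullback C.c).obj (Pic13.fibreMod k X q s hs M) :=
      (Scheme.Modules.pullbackComp g hmap).app M ≪≫ (Scheme.Modules.pullbackCongr hcomp).app M ≪≫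
        ((Scheme.Modules.pullbackComp C.c (Pic13.sliceAt k X q s hs)).app M).symm
    rw [← (HilbPoly.additive_euler k).iso _ _ ⟨φ⟩,
      Euler.euler_eq_sum k ((Scheme.Modules.pullback g).obj N) D fun i hi => by
        obtain ⟨a, ha⟩ := Nat.exists_eq_add_of_le ((le_max_left _ _).trans hi : 2 ≤ i)
        rw [ha, add_comm]
        exact CurveVanish.subsingleton_HH_curve k C.dim.le (QCoh.isQCoh_pullback g hNc.1) a]
    exact Finset.sum_congr rfl fun p _ => by rw [fiberRank_eq_finrank f g s hpb hNc.1 p]
  have key := hΦ.apply_eq_of_preconnectedSpace (t (IsLocalRing.closedPoint k)) (t₀ (IsLocalRing.closedPoint k))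
  rw [hslice t ht, hslice t₀ ht₀] at key
  rw [(HilbPoly.additive_euler k).iso _ _ ⟨(Scheme.Modules.pullback C.c).mapIso eL⟩,
    (HilbPoly.additive_euler k).iso _ _ ⟨(Scheme.Modules.pullback C.c).mapIso eO⟩] at key
  have h0 := degOn_structure (k := k) C
  unfold degOn Curv2.deg at h0 ⊢
  omega

/-- Modules τ-equivalent to zero are numerically trivial. -/
theorem isNumEquivZero_of_isTauEquivZero {L : X.Modules} (hL : PicF.IsInvertible L)
    (h : Pic13.IsTauEquivZero k X L) : Pic13.IsNumEquivZero k X L := by
  obtain ⟨n, hn, h⟩ := h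
  refine (isNumEquivZero_iff hL).2 fun C => ?_
  have hP := InvX.isInvertible_tensorPow hL n
  have h0 := (isNumEquivZero_iff hP).1 (isNumEquivZero_of_isAlgEquivZero hP h) C
  have hpow : ∀ m : ℕ, degOn k C (CohB1.tensorPow L m) = m * degOn k C L := by
    intro m
    induction m with
    | zero => rw [show CohB1.tensorPow L 0 = Coh.structureModule X from rfl, degOn_structure]; simp
    | succ m ih =>
      rw [show CohB1.tensorPow L (m + 1) = CohB1.tensorMod (CohB1.tensorPow L m) L from rfl,
        degOn_tensor C (InvX.isInvertible_tensorPow hL m) hL, ih]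
      push_cast
      ring
  rw [hpow] at h0
  exact (mul_eq_zero.1 h0).resolve_left (by omega)

end Groth.Agent.Pic13Lib
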