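import Groth.Agent.Pic13Lib.FibreStrat
import Groth.Agent.Pic13Lib.TauNum
import Groth.Agent.Pic13Lib.EulerIff
import Groth.Agent.IntNum47.Basic
import Groth.Agent.IntNum47.Binom

/-!
# Numerical invariants are constant in connected invertible families
-/

set_option autoImplicit false
set_option linter.style.haveILetI false
set_option linter.unusedSectionVars false
set_option backward.isDefEq.respectTransparency false
set_option backward.isDefEq.respectTransparency.types false
set_option maxHeartbeats 1000000
set_option synthInstance.maxHeartbeats 200000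

universe u

open CategoryTheory CategoryTheory.Limits AlgebraicGeometry TopologicalSpace Opposite
open Groth.Agent.H23.PicMul

attribute [local instance] HasDerivedCategory.standard

noncomputable section

namespace Groth.Agent.Pic13Lib

open Groth.Agent

variable {k : Type u} [Field k] {X : Scheme.{u}} [X.Over (Spec (CommRingCat.of k))]
  [IsProper (X ↘ Spec (CommRingCat.of k))]

/-- The Euler characteristic is constant in a connected invertible family. -/
theorem euler_fibre_eq {T : Scheme.{u}} (q : T ⟶ Spec (CommRingCat.of k)) [LocallyOfFiniteType q] [QuasiCompact q]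
    [ConnectedSpace T] {N : (Pic13.prodK k X q).Modules} (hN : PicF.IsInvertible N)
    (t t₀ : Spec (CommRingCat.of k) ⟶ T) (ht : t ≫ q = 𝟙 _) (ht₀ : t₀ ≫ q = 𝟙 _) :
    Curv2.euler k X (Pic13.fibreMod k X q t ht N) = Curv2.euler k X (Pic13.fibreMod k X q t₀ ht₀ N) := by
  haveI := CurveCohLib.isNoetherian_of_proper (k := k) (X := X)
  haveI : X.IsSeparated := ⟨by
    rw [← Limits.terminal.comp_from (X ↘ Spec (CommRingCat.of k))]
    infer_instance⟩
  haveI : IsLocallyNoetherian T := LocallyOfFiniteType.isLocallyNoetherian q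
  haveI : CompactSpace T := QuasiCompact.compactSpace_of_compactSpace q
  haveI := isNoetherian_prodK k X q
  obtain ⟨e, he⟩ := exists_dim_le (X ↘ Spec (CommRingCat.of k))
  let f := toBase (X := X) q
  haveI : IsProper f := inferInstanceAs (IsProper (pullback.snd _ q))
  haveI : Flat f := inferInstanceAs (Flat (pullback.snd _ q))
  have hNc : Coh.IsCoh N := AmpleVan.isCoh_invertible hN
  have hfl := H23.Seesaw.isFlatOver_of_isInvertible f hN
  choose d₀ hd₀ using fun y : T => exists_eventually_euler_fibre f hNc hfl y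
  choose O hOsub hOopen hyO using fun y : T => mem_nhds_iff.1 (hd₀ y)
  obtain ⟨s, hs⟩ := isCompact_univ.elim_finite_subcover O hOopen fun y _ => Set.mem_iUnion.2 ⟨y, hyO y⟩
  let D := max (e + 1) (s.sup d₀)
  let Φ : T → ℤ := fun z => ∑ p ∈ Finset.range D, (-1 : ℤ) ^ p * (CohIII.fiberRank f N p z : ℤ)
  have hΦ : IsLocallyConstant Φ := by
    refine (IsLocallyConstant.iff_exists_open _).2 fun z => ?_
    obtain ⟨y, hy, hzy⟩ := Set.mem_iUnion₂.1 (hs (Set.mem_univ z))
    have hle : d₀ y ≤ D := (Finset.le_sup hy).trans (le_max_right _ _)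
    exact ⟨O y, hOopen y, hzy, fun w hw => (hOsub y hw D hle).trans (hOsub y hzy D hle).symm⟩
  have hslice : ∀ (s : Spec (CommRingCat.of k) ⟶ T) (hs : s ≫ q = 𝟙 _),
      Φ (s (IsLocalRing.closedPoint k)) = Curv2.euler k X (Pic13.fibreMod k X q s hs N) := by
    intro s hs
    rw [Euler.euler_eq_sum k (Pic13.fibreMod k X q s hs N) D fun i hi =>
      Snapper.subsingleton_HH_of_dim_le he (QCoh.isQCoh_pullback (Pic13.sliceAt k X q s hs) hNc.1)
        (Nat.lt_of_succ_le ((le_max_left _ _).trans hi))]
    exact Finset.sum_congr rfl fun p _ => by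
      rw [fiberRank_eq_finrank f (Pic13.sliceAt k X q s hs) s (isPullback_slice s hs) hNc.1 p]
      rfl
  have key := hΦ.apply_eq_of_preconnectedSpace (t (IsLocalRing.closedPoint k)) (t₀ (IsLocalRing.closedPoint k))
  rwa [hslice t ht, hslice t₀ ht₀] at key

omit [X.Over (Spec (CommRingCat.of k))] [IsProper (X ↘ Spec (CommRingCat.of k))] in
theorem cl_tensorList : ∀ l : List X.Modules, PicF.cl (FGA.tensorList l) = (l.map PicF.cl).prod
  | [] => by simp [FGA.tensorList, one_def]
  | A :: l => by rw [FGA.tensorList, cl_tensor, cl_tensorList l, List.map_cons, List.prod_cons]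

omit [IsProper (X ↘ Spec (CommRingCat.of k))] in
theorem isInvertible_tensorList : ∀ {l : List X.Modules}, (∀ A ∈ l, PicF.IsInvertible A) →
    PicF.IsInvertible (FGA.tensorList l)
  | [], _ => CurveDeg.isInvertible_structureModule
  | _ :: _, h => H23.PicMul.isInvertible_tensor (h _ List.mem_cons_self)
      (isInvertible_tensorList fun _ hB => h _ (List.mem_cons_of_mem _ hB))

/-- Intersection numbers are constant in connected invertible families. -/
theorem intNum_fibre_eq {T : Scheme.{u}} (q : T ⟶ Spec (CommRingCat.of k)) [LocallyOfFiniteType q] [QuasiCompact q]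
    [ConnectedSpace T] {d : ℕ} (hd : topologicalKrullDim X ≤ d) {r : ℕ} (Mv : Fin r → (Pic13.prodK k X q).Modules)
    (hMv : ∀ i, PicF.IsInvertible (Mv i)) (t t₀ : Spec (CommRingCat.of k) ⟶ T) (ht : t ≫ q = 𝟙 _)
    (ht₀ : t₀ ≫ q = 𝟙 _) :
    FGA.intNum k X d (fun i => Pic13.fibreMod k X q t ht (Mv i)) (Coh.structureModule X) =
      FGA.intNum k X d (fun i => Pic13.fibreMod k X q t₀ ht₀ (Mv i)) (Coh.structureModule X) := by
  haveI := CurveCohLib.isNoetherian_of_proper (k := k) (X := X)
  refine Finset.sum_congr rfl fun I _ => congrArg _ ?_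
  let l := (I.sort (· ≤ ·)).map Mv
  have hl : PicF.IsInvertible (FGA.tensorList l) := isInvertible_tensorList fun A hA => by
    obtain ⟨i, -, rfl⟩ := List.mem_map.1 hA; exact hMv i
  have key : ∀ (s : Spec (CommRingCat.of k) ⟶ T) (hs : s ≫ q = 𝟙 _),
      FGA.eulerCharLE k X (CohB1.tensorMod (FGA.tensorList ((I.sort (· ≤ ·)).map
        fun i => Pic13.fibreMod k X q s hs (Mv i))) (Coh.structureModule X)) d =
        Curv2.euler k X (Pic13.fibreMod k X q s hs (FGA.tensorList l)) := by
    intro s hs
    have hinv := fun A (hA : A ∈ (I.sort (· ≤ ·)).map fun i => Pic13.fibreMod k X q s hs (Mv i)) =>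
      show PicF.IsInvertible A by
        obtain ⟨i, -, rfl⟩ := List.mem_map.1 hA; exact PicClLib.isInvertible_pullback _ (hMv i)
    rw [IntNum47.eulerCharLE_eq k hd
      (AmpleVan.isCoh_invertible (H23.PicMul.isInvertible_tensor (isInvertible_tensorList hinv)
        CurveDeg.isInvertible_structureModule)).1]
    refine (HilbPoly.additive_euler k).iso _ _ (cl_eq_iff.1 ?_)
    rw [cl_tensor, ← one_def, mul_one, cl_tensorList]
    show _ = pullHom (Pic13.sliceAt k X q s hs) (PicF.cl (FGA.tensorList l))
    rw [cl_tensorList, map_list_prod]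
    simp only [l, List.map_map]
    rfl
  rw [key t ht, key t₀ ht₀]
  exact euler_fibre_eq q hl t t₀ ht ht₀

end Groth.Agent.Pic13Lib
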