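import Groth.Agent.Pic13Lib.EulerPush
import Groth.Agent.VarDim.Fibre
import Mathlib.AlgebraicGeometry.ZariskisMainTheorem

/-!
# Pullbacks of numerically trivial modules
-/

set_option linter.style.haveILetI false
set_option linter.unusedSectionVars false
set_option backward.isDefEq.respectTransparency false
set_option backward.isDefEq.respectTransparency.types false
set_option maxHeartbeats 1000000
set_option synthInstance.maxHeartbeats 200000

universe u

open CategoryTheory CategoryTheory.Limits AlgebraicGeometry TopologicalSpace Opposite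
open Groth.Agent.H23.PicMul

attribute [local instance] HasDerivedCategory.standard

noncomputable section

namespace Groth.Agent.Pic13Lib

open Groth.Agent

variable {k : Type u} [Field k] {X : Scheme.{u}} [X.Over (Spec (CommRingCat.of k))]
  [IsProper (X ↘ Spec (CommRingCat.of k))]

/-- Closed sets of closed points are finite. -/
theorem finite_of_forall_isClosed {T : Scheme.{u}} [IsNoetherian T] {S : Set T} (hS : IsClosed S)
    (h : ∀ x ∈ S, IsClosed ({x} : Set T)) : S.Finite := by
  obtain ⟨F, hF, hFc, hFi, rfl⟩ := NoetherianSpace.exists_finite_set_isClosed_irreducible hS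
  refine hF.sUnion fun t ht => ?_
  obtain ⟨x, hx⟩ := QuasiSober.sober (hFi t ht) (hFc t ht)
  have hxt : x ∈ t := hx ▸ subset_closure rfl
  rw [← hx.def, (h x ⟨t, ht, hxt⟩).closure_eq]
  exact Set.finite_singleton x

/-- A proper map out of a curve is constant or finite. -/
theorem const_or_isFinite {C : Scheme.{u}} (f : C ⟶ Spec (CommRingCat.of k)) [IsProper f] [IsIntegral C]
    (hdim : topologicalKrullDim C = 1) (h : C ⟶ X) (hh : h ≫ X ↘ Spec (CommRingCat.of k) = f) :
    (∃ x : X, ∀ z : C, h z = x) ∨ IsFinite h := by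
  haveI : IsLocallyNoetherian C := LocallyOfFiniteType.isLocallyNoetherian f
  haveI : CompactSpace C := QuasiCompact.compactSpace_of_compactSpace f
  haveI : IsNoetherian C := { __ := ‹IsLocallyNoetherian C›, __ := ‹CompactSpace C› }
  haveI : IsProper h := by
    haveI : IsProper (h ≫ X ↘ Spec (CommRingCat.of k)) := by rw [hh]; infer_instance
    exact IsProper.of_comp h (X ↘ Spec (CommRingCat.of k))
  have hgen : VarDim.deg f (genericPoint C) = 1 := by
    have h1 := VarDim.topologicalKrullDim_eq_deg_genericPoint f
    rw [hdim] at h1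
    exact_mod_cast h1.symm
  have hcl : ∀ z : C, z ≠ genericPoint C → IsClosed ({z} : Set C) := fun z hz => by
    refine (VarDim.closedPoint_iff_deg_eq_zero f z).2 ?_
    have := VarDim.deg_strictMono f (show z < genericPoint C from lt_iff_le_not_ge.2
      ⟨genericPoint_specializes z, fun h' => hz ((genericPoint_specializes z).antisymm h').eq.symm⟩)
    omega
  by_cases hy : IsClosed ({h (genericPoint C)} : Set X)
  · refine Or.inl ⟨h (genericPoint C), fun z => ?_⟩
    have h1 := ((genericPoint_specializes z).map h.continuous).mem_closure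
    rw [hy.closure_eq] at h1
    exact h1
  refine Or.inr ?_
  haveI : LocallyQuasiFinite h := LocallyQuasiFinite.of_finite_preimage_singleton h fun x => by
    by_cases hx : IsClosed ({x} : Set X)
    · refine finite_of_forall_isClosed (hx.preimage h.continuous) fun z hz => hcl z fun hzg => hy ?_
      rw [← hzg]
      have hz' : h z = x := hz
      rw [hz']
      exact hx
    · refine (Set.finite_singleton (genericPoint C)).subset fun z hz => ?_
      by_contra hne
      refine hx ?_
      have := h.isClosedMap _ (hcl z hne)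
      rw [Set.image_singleton] at this
      rwa [show h z = x from hz] at this
  exact IsFinite.of_isProper_of_locallyQuasiFinite h

/-- The pullback of a numerically trivial module is numerically trivial. -/
theorem NumTriv.pullback {Y : Scheme.{u}} [Y.Over (Spec (CommRingCat.of k))]
    [IsProper (Y ↘ Spec (CommRingCat.of k))] (π : Y ⟶ X)
    (hπ : π ≫ X ↘ Spec (CommRingCat.of k) = Y ↘ Spec (CommRingCat.of k))
    {L : X.Modules} (hL : NumTriv k L) : NumTriv k ((Scheme.Modules.pullback π).obj L) := by
  refine ⟨PicClLib.isInvertible_pullback π hL.1, (isNumEquivZero_iff (PicClLib.isInvertible_pullback π hL.1)).2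
    fun T => ?_⟩
  let h := T.c ≫ π
  have hh : h ≫ X ↘ Spec (CommRingCat.of k) = T.C ↘ Spec (CommRingCat.of k) := by
    rw [Category.assoc, hπ]; rfl
  let e : (Scheme.Modules.pullback T.c).obj ((Scheme.Modules.pullback π).obj L) ≅
      (Scheme.Modules.pullback h).obj L := (Scheme.Modules.pullbackComp T.c π).app L
  refine (CurveRR.deg_congr (k := k) e 1).trans ?_
  rcases const_or_isFinite (T.C ↘ Spec (CommRingCat.of k)) T.dim h hh with ⟨x, hx⟩ | hfin
  · obtain ⟨e'⟩ := cl_eq_iff.1 ((cl_pullback_of_const h hL.1 x hx).trans one_def)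
    exact (CurveRR.deg_congr (k := k) e' 1).trans (CurveDeg.deg_structureModule k)
  haveI := hfin
  haveI : IsLocallyNoetherian X := LocallyOfFiniteType.isLocallyNoetherian (X ↘ Spec (CommRingCat.of k))
  haveI : CompactSpace X := QuasiCompact.compactSpace_of_compactSpace (X ↘ Spec (CommRingCat.of k))
  haveI : IsNoetherian X := { __ := ‹IsLocallyNoetherian X›, __ := ‹CompactSpace X› }
  haveI : IsLocallyNoetherian T.C := LocallyOfFiniteType.isLocallyNoetherian (T.C ↘ Spec (CommRingCat.of k))
  have hG : Coh.IsCoh ((Coh.push h).obj (Coh.structureModule T.C)) := S0019.result h _ QCoh.isCoh_structureModule'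
  have hgen : VarDim.deg (T.C ↘ Spec (CommRingCat.of k)) (genericPoint T.C) = 1 := by
    have h1 := VarDim.topologicalKrullDim_eq_deg_genericPoint (T.C ↘ Spec (CommRingCat.of k))
    rw [T.dim] at h1
    exact_mod_cast h1.symm
  have hC : ∀ x ∈ Set.range h, VarDim.deg (X ↘ Spec (CommRingCat.of k)) x ≤ 1 := by
    rintro _ ⟨z, rfl⟩
    refine le_trans ?_ hgen.le
    refine le_trans ?_ (VarDim.deg_le_of_specializes (T.C ↘ Spec (CommRingCat.of k)) (genericPoint_specializes z))
    exact (VarDim.deg_map_le h (X ↘ Spec (CommRingCat.of k)) hh z)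
  have hsupp : CohB1.support ((Coh.push h).obj (Coh.structureModule T.C)) ⊆ Set.range h := by
    intro x hx
    by_contra hxr
    obtain ⟨_, ⟨U, hU, rfl⟩, hxU, hUs⟩ := X.isBasis_affineOpens.exists_subset_of_mem_open
      (show x ∈ (Set.range h)ᶜ from hxr) h.isClosedMap.isClosed_range.isOpen_compl
    obtain ⟨m, hm⟩ := (QCoh.mem_support_iff hG.1 hU hxU).1 hx
    have hbot : h ⁻¹ᵁ U = ⊥ := eq_bot_iff.2 fun z hz => (hUs hz ⟨z, rfl⟩).elim
    haveI : Subsingleton Γ(T.C, h ⁻¹ᵁ U) := by rw [hbot]; infer_instance
    exact hm 1 (by rw [X.basicOpen_of_isUnit isUnit_one]; exact hxU)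
      (@Subsingleton.elim Γ(T.C, h ⁻¹ᵁ U) inferInstance _ _)
  have h0 := dEuler_eq_zero_of_dim_le_one hL hC hG hsupp
  rw [dEuler_push h hh QCoh.isQCoh_structureModule hL.1
    (AmpleVan.isCoh_tensor QCoh.isCoh_structureModule'
      (AmpleVan.isCoh_invertible (PicClLib.isInvertible_pullback h hL.1))).1] at h0
  have hun : Nonempty (CohB1.tensorMod (Coh.structureModule T.C) ((Scheme.Modules.pullback h).obj L) ≅
      (Scheme.Modules.pullback h).obj L) :=
    cl_eq_iff.1 (by rw [cl_tensor, ← one_def, one_mul])
  rw [(HilbPoly.additive_euler k).iso _ _ hun] at h0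
  show Curv2.euler k T.C _ - ((1 : ℕ) : ℤ) * Curv2.euler k T.C _ = 0
  push_cast
  omega

end Groth.Agent.Pic13Lib
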