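import Groth.Agent.Pic13Lib.NumStep

/-!
# Uniform vanishing and constancy for twists by numerically trivial modules
-/

set_option linter.style.haveILetI false
set_option linter.unusedSectionVars false
set_option backward.isDefEq.respectTransparency false
set_option backward.isDefEq.respectTransparency.types false
set_option maxHeartbeats 1000000
set_option synthInstance.maxHeartbeats 200000

universe u

open CategoryTheory CategoryTheory.Limits AlgebraicGeometry TopologicalSpace Opposite

attribute [local instance] HasDerivedCategory.standard

noncomputable section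

namespace Groth.Agent.Pic13Lib

open Groth.Agent

variable {k : Type u} [Field k] {n : ℕ} {X : Scheme.{u}} (j : X ⟶ CohB1.ProjSpace n k) [IsClosedImmersion j]
  [X.Over (Spec (CommRingCat.of k))] [IsProper (X ↘ Spec (CommRingCat.of k))]

theorem good_of_isCoh (hj : j ≫ CohB1.ProjSpace.toSpec n k = X ↘ Spec (CommRingCat.of k)) {M : X.Modules}
    (hM : Coh.IsCoh M) : Good j M := by
  haveI := isNoetherian j
  refine QCoh.devissage_ideals (Good j) (fun _ _ e h => h.of_iso j e) (fun _ h => good_of_isZero j h) Set.univ
    (fun S hS h₁ h₂ h₃ g₁ g₃ => Good.mid j hS h₁ h₂ h₃ g₁ g₃) ?_ hM (Set.subset_univ _)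
  intro ξ _ IH Z i _ _ hr I ι hι hI hI0
  haveI := hι
  exact good_push j hj i hr IH ι hI hI0

end Groth.Agent.Pic13Lib
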