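import Groth.Agent.Pic13Lib.PullNum
import Groth.Agent.Pic13Lib.NumCore
import Groth.Agent.PnCoh.Chow.DevInput

/-!
# Direct images of large twists from a projective modification
-/

set_option linter.style.haveILetI false
set_option linter.unusedSectionVars false
set_option backward.isDefEq.respectTransparency false
set_option backward.isDefEq.respectTransparency.types false
set_option maxHeartbeats 1000000
set_option synthInstance.maxHeartbeats 200000

universe u

open CategoryTheory CategoryTheory.Limits AlgebraicGeometry TopologicalSpace Opposite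
open Groth.Agent.H23.PicMul

attribute [local instance] HasDerivedCategory.standard

noncomputable section

namespace Groth.Agent.Pic13Lib

open Groth.Agent Groth.Agent.PnCoh.Chow

/-- Vanishing on preimages of basic opens. -/
theorem subsingleton_HU_preimage {X X' : Scheme.{u}} (π : X' ⟶ X) [IsProper π] [X.IsSeparated] {V : X.Opens}
    (hV : IsAffineOpen V) {N : X'.Modules} (hN : Coh.IsQCoh N) (b : Γ(X, V)) (q : ℕ)
    (h : Subsingleton (Coh.HH (π ⁻¹ᵁ V).toScheme (N.restrict (π ⁻¹ᵁ V).ι) (q + 1))) :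
    Subsingleton (CohTop.HU (X := X'.toPresheafedSpace.carrier) (QCoh.abSheaf N) (q + 1)
      (π ⁻¹ᵁ X.basicOpen b)) := by
  haveI : X'.IsSeparated := ⟨by
    rw [← terminal.comp_from π]
    exact MorphismProperty.comp_mem @IsSeparated _ _ inferInstance Scheme.IsSeparated.isSeparated_terminal_from⟩
  haveI : CompactSpace (π ⁻¹ᵁ V).toScheme :=
    isCompact_iff_compactSpace.1 (π.isCompact_preimage (hU := hV.isCompact))
  haveI : (π ⁻¹ᵁ V).toScheme.IsSeparated := ⟨by
    rw [← terminal.comp_from (π ⁻¹ᵁ V).ι]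
    exact MorphismProperty.comp_mem @IsSeparated _ _ inferInstance Scheme.IsSeparated.isSeparated_terminal_from⟩
  have hq := QCoh.isQCoh_restrict (π ⁻¹ᵁ V).ι hN
  letI := QCoh.modHH (QCoh.idTop (π ⁻¹ᵁ V).toScheme) (N.restrict (π ⁻¹ᵁ V).ι) (q + 1)
  obtain ⟨e⟩ := QCoh.HH_localization (Coh.toGlobal (relQ π hV) b) hq (q + 1)
  have h1 := subsingleton_HU_of_HHon (N.restrict (π ⁻¹ᵁ V).ι) _ q (by
    haveI := h
    exact e.toEquiv.subsingleton)
  have h2 := (QCoh.Ab.subsingleton_HU_restr_iff (π ⁻¹ᵁ V).ι.isOpenEmbedding q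
    (QCoh.abSheaf N) _).1 h1
  rw [← image_basicOpen_relQ π hV b]
  exact h2

variable {k : Type u} [Field k] {X : Scheme.{u}} [X.Over (Spec (CommRingCat.of k))]
  [IsProper (X ↘ Spec (CommRingCat.of k))]

/-- If the pullback of `L` to a projective modification is numerically trivial, some module concentrated
at the generic point has the same Euler characteristic after tensoring with `L`. -/
theorem exists_chow_module [IsIntegral X] {X' : Scheme.{u}} {N : ℕ} (π : X' ⟶ X)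
    (p : X' ⟶ CohB1.ProjSpace N k) [IsClosedImmersion p] [IsProper π]
    (hp : p ≫ CohB1.ProjSpace.toSpec N k = π ≫ X ↘ Spec (CommRingCat.of k))
    (U : X.Opens) [Nonempty U.toScheme] [IsIso (π ∣_ U)] {L : X.Modules} (hL : PicF.IsInvertible L)
    (hnum : letI : X'.Over (Spec (CommRingCat.of k)) := ⟨π ≫ X ↘ Spec (CommRingCat.of k)⟩
      NumTriv k ((Scheme.Modules.pullback π).obj L)) :
    ∃ G : X.Modules, Coh.IsCoh G ∧ genericPoint X ∈ CohB1.support G ∧
      Curv2.euler k X (CohB1.tensorMod G L) = Curv2.euler k X G := by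
  classical
  let f : X ⟶ Spec (CommRingCat.of k) := X ↘ Spec (CommRingCat.of k)
  letI : X'.Over (Spec (CommRingCat.of k)) := ⟨π ≫ f⟩
  haveI : IsProper (X' ↘ Spec (CommRingCat.of k)) := inferInstanceAs (IsProper (π ≫ f))
  haveI : IsLocallyNoetherian X := LocallyOfFiniteType.isLocallyNoetherian f
  haveI : IsLocallyNoetherian X' := LocallyOfFiniteType.isLocallyNoetherian π
  haveI : CompactSpace X := QuasiCompact.compactSpace_of_compactSpace f
  haveI : X.IsSeparated := ⟨by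
    rw [← terminal.comp_from f]
    exact MorphismProperty.comp_mem @IsSeparated _ _ inferInstance inferInstance⟩
  have htriv : ∀ x : X, ∃ V : X.affineOpens, x ∈ V.1 ∧
      Nonempty (L.restrict V.1.ι ≅ Coh.structureModule (V.1 : Scheme.{u})) := fun x => by
    obtain ⟨W, hxW, ⟨τ⟩⟩ := hL x
    obtain ⟨_, ⟨V, hV, rfl⟩, hxV, hVW⟩ := X.isBasis_affineOpens.exists_subset_of_mem_open hxW W.2
    exact ⟨⟨V, hV⟩, hxV, restrict_trivial_of_le (show V ≤ W from hVW) τ⟩
  choose V hxV hτ using htriv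
  obtain ⟨s, hs⟩ := isCompact_univ.elim_finite_subcover (fun x : X => ((V x).1 : Set X))
    (fun x => (V x).1.2) fun x _ => Set.mem_iUnion.2 ⟨x, hxV x⟩
  have hcov' : ∀ x : X, ∃ i : s, x ∈ (V i.1).1 := fun x => by
    obtain ⟨i, hi, hxi⟩ := Set.mem_iUnion₂.1 (hs (Set.mem_univ x))
    exact ⟨⟨i, hi⟩, hxi⟩
  haveI : ∀ i : s, IsNoetherianRing Γ(X, (V i.1).1) := fun i => IsLocallyNoetherian.component_noetherian (V i.1)
  choose d₀ hd₀ using fun i : s => exists_rel_vanishing f π p (V := (V i.1).1) (V i.1).2 hp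
  let d : ℕ := Finset.univ.sup d₀
  let M := pullTw p (d : ℤ)
  let L' := (Scheme.Modules.pullback π).obj L
  let M' := CohB1.tensorMod M L'
  let G := (Coh.push π).obj M
  have hGq : Coh.IsQCoh G := QCoh.isQCoh_pushforward π (isQCoh_pullTw p _)
  have hGc : Coh.IsCoh G := ⟨hGq, QCoh.isFT_of_finite hGq (fun i : s => (V i.1).1)
    (IsOpenCover.mk (top_le_iff.1 fun x _ => Opens.mem_iSup.2 (hcov' x))) (fun i => (V i.1).2)
    (fun i => finite_sections_push f π p (V i.1).2 hp d)⟩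
  have hMc : Coh.IsCoh M := isCoh_pullTw p _
  have hM'c : Coh.IsCoh M' := AmpleVan.isCoh_tensor hMc (AmpleVan.isCoh_invertible hnum.1)
  refine ⟨G, hGc, ?_, ?_⟩
  · have hη : genericPoint X ∈ U := ((genericPoint_spec X).mem_open_set_iff U.2).2
      (by obtain ⟨u⟩ := (inferInstance : Nonempty U.toScheme); exact ⟨u.1, trivial, u.2⟩)
    obtain ⟨x', hx'⟩ : ∃ x' : (π ⁻¹ᵁ U).toScheme, (π ∣_ U) x' = ⟨genericPoint X, hη⟩ :=
      (TopCat.homeoOfIso (asIso (π ∣_ U).base)).surjective _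
    obtain ⟨⟨l⟩, hl⟩ := cov_coord k (p x'.1)
    let O : X'.Opens := p ⁻¹ᵁ Proj.basicOpen (CohB1.polyGrading N k) (MvPolynomial.X l)
    let W : X.Opens := U.ι ''ᵁ (inv (π ∣_ U) ⁻¹ᵁ ((π ⁻¹ᵁ U).ι ⁻¹ᵁ O))
    have hWU : W ≤ U := U.ι_image_le _
    have hW : π ⁻¹ᵁ W ≤ O := by
      intro y hy
      obtain ⟨w, hw, hwy⟩ := hy
      have hyU : π y ∈ U := hwy ▸ w.2
      have h1 : w = (π ∣_ U) ⟨y, hyU⟩ := Subtype.ext (hwy.trans (by rw [morphismRestrict_base_coe]))
      have h2 : (π ⁻¹ᵁ U).ι (inv (π ∣_ U) w) ∈ O := hw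
      rw [h1, ← Scheme.Hom.comp_apply (π ∣_ U), IsIso.hom_inv_id] at h2
      exact h2
    have hηW : genericPoint X ∈ W := by
      refine ⟨⟨genericPoint X, hη⟩, ?_, rfl⟩
      show (π ⁻¹ᵁ U).ι (inv (π ∣_ U) ⟨genericPoint X, hη⟩) ∈ O
      rw [← hx', ← Scheme.Hom.comp_apply (π ∣_ U), IsIso.hom_inv_id]
      exact hl
    obtain ⟨est⟩ := nonempty_stalk_equiv_residueField
      (isFrame_push_of_isIso π hWU hW (isFrame_pFrame p (ProjPt.X_mem l) (d : ℤ))) hηW
    exact (QCoh.simpleAt_of_residueField hGq _ est).2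
  let B : Opens X → Prop := fun W => ∃ (i : s) (b : Γ(X, (V i.1).1)), W = X.basicOpen b
  have hB : ∀ (O : Opens X) (y : X), y ∈ O → ∃ W, W ≤ O ∧ y ∈ W ∧ B W := fun O y hy => by
    obtain ⟨i, hi⟩ := hcov' y
    obtain ⟨b, hbO, hyb⟩ := (V i.1).2.exists_basicOpen_le (V := O) ⟨y, hy⟩ hi
    exact ⟨X.basicOpen b, hbO, hyb, i, b, rfl⟩
  have hvan : ∀ (i : s) (r : ℕ), Subsingleton (Coh.HH (π ⁻¹ᵁ (V i.1).1).toScheme
      (M'.restrict (π ⁻¹ᵁ (V i.1).1).ι) (r + 1)) := fun i r => by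
    obtain ⟨τ⟩ := restrict_pullback_trivial π (hτ i.1).some
    let O := π ⁻¹ᵁ (V i.1).1
    obtain ⟨e⟩ : Nonempty (CohB1.tensorMod (M.restrict O.ι) (L'.restrict O.ι) ≅ M.restrict O.ι) :=
      cl_eq_iff.1 (by
        rw [cl_tensor, show PicF.cl (L'.restrict O.ι) = 1 from (cl_eq_iff.2 ⟨τ⟩).trans one_def.symm, mul_one])
    exact subsingleton_HH_of_iso
      (((KFlatLib.restrictTensorBiIso O.ι).app M).app L' ≪≫ e).symm _
      (hd₀ i d (Finset.le_sup (Finset.mem_univ i)) r)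
  have hpush : ∀ P : X'.Modules, Coh.IsQCoh P → (∀ (i : s) (r : ℕ), Subsingleton (Coh.HH (π ⁻¹ᵁ (V i.1).1).toScheme
      (P.restrict (π ⁻¹ᵁ (V i.1).1).ι) (r + 1))) →
      Curv2.euler k X' P = Curv2.euler k X ((Coh.push π).obj P) := fun P hP hv =>
    euler_push_of_equiv fun q => PnCoh.nonempty_linearEquiv_of_natPushEquiv k π rfl P q
      (PnCoh.H_push_equiv_natural_of_HU (Y := X.toPresheafedSpace.carrier) π.base B hB
        (QCoh.abSheaf P) (fun W hW r => by
          obtain ⟨i, b, rfl⟩ := hW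
          exact subsingleton_HU_preimage π (V i.1).2 hP b r (hv i r)) q)
  rw [(HilbPoly.additive_euler k).iso _ ((Coh.push π).obj M') ⟨(exists_push_tensor π M hL).some.symm⟩,
    ← hpush M' hM'c.1 hvan, ← hpush M hMc.1 fun i r => hd₀ i d (Finset.le_sup (Finset.mem_univ i)) r]
  have hgood := good_of_isCoh p hp (M := M) hMc
  have h := hgood.euler L' hnum 0
  obtain ⟨e₁⟩ : Nonempty ((Tw p L' 0).obj M ≅ M') :=
    cl_eq_iff.1 (by rw [cl_Tw, cl_hyp_zero, mul_one, cl_tensor])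
  obtain ⟨e₂⟩ : Nonempty ((Tw p (Coh.structureModule X') 0).obj M ≅ M) :=
    cl_eq_iff.1 (by rw [cl_Tw, cl_hyp_zero, mul_one, ← one_def, mul_one])
  rwa [(HilbPoly.additive_euler k).iso _ _ ⟨e₁⟩, (HilbPoly.additive_euler k).iso _ _ ⟨e₂⟩] at h

/-- Numerically trivial modules do not change Euler characteristics. -/
theorem dEuler_eq_zero {L : X.Modules} (hL : NumTriv k L) {M : X.Modules} (hM : Coh.IsCoh M) :
    dEuler k L M = 0 := by
  haveI : IsLocallyNoetherian X := LocallyOfFiniteType.isLocallyNoetherian (X ↘ Spec (CommRingCat.of k))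
  haveI : CompactSpace X := QuasiCompact.compactSpace_of_compactSpace (X ↘ Spec (CommRingCat.of k))
  haveI : IsNoetherian X := { __ := ‹IsLocallyNoetherian X›, __ := ‹CompactSpace X› }
  refine dEuler_eq_zero_of_gen hL.1 Set.univ (fun ξ _ _ Z i _ _ _ => ?_) hM (Set.subset_univ _)
  letI : Z.Over (Spec (CommRingCat.of k)) := ⟨i ≫ X ↘ Spec (CommRingCat.of k)⟩
  haveI : IsProper (Z ↘ Spec (CommRingCat.of k)) := inferInstanceAs (IsProper (i ≫ X ↘ Spec (CommRingCat.of k)))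
  have hLZ := hL.pullback i rfl
  obtain ⟨N, Z', π, p, -, hp, hpf, hπ, U, hU, hiso⟩ := chow_integral (Z ↘ Spec (CommRingCat.of k))
  haveI := hp; haveI := hπ; haveI := hU; haveI := hiso
  letI : Z'.Over (Spec (CommRingCat.of k)) := ⟨π ≫ Z ↘ Spec (CommRingCat.of k)⟩
  haveI : IsProper (Z' ↘ Spec (CommRingCat.of k)) := inferInstanceAs (IsProper (π ≫ Z ↘ Spec (CommRingCat.of k)))
  exact exists_chow_module π p hpf U hLZ.1 (hLZ.pullback π rfl)

end Groth.Agent.Pic13Lib
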