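import Groth.Agent.PnCoh.Chow.RelEmb

/-!
# Embeddings into projective space over a larger field from jointly monic data
-/

universe u

open CategoryTheory CategoryTheory.Limits AlgebraicGeometry TopologicalSpace Opposite MvPolynomial
open HomogeneousLocalization

noncomputable section

namespace Groth.Agent.Pic13Lib

open Groth.Agent Groth.Agent.AModX Groth.Agent.PnCoh.Chow

variable {N : ℕ} {A : Type u} [CommRing A]
  {Z : Scheme.{u}} (ψ : Z ⟶ Proj (CohB1.polyGrading N A)) {B : Type u} [CommRing B]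
  (q : Z ⟶ Spec (CommRingCat.of B))

theorem mono_relMap_of_joint (hjoint : ∀ {T : Scheme.{u}} (a b : T ⟶ Z), a ≫ ψ = b ≫ ψ → a ≫ q = b ≫ q → a = b)
    (c : A →+* B)
    (hc : ψ ≫ CohB1.ProjSpace.toSpec N A = q ≫ Spec.map (CommRingCat.ofHom c)) :
    Mono (relMap ψ q) := ⟨fun {T} a b hab => by
  have hq : a ≫ q = b ≫ q := by
    rw [← relMap_toSpec ψ q]
    exact (Category.assoc _ _ _).symm.trans
      ((congrArg (fun φ => φ ≫ CohB1.ProjSpace.toSpec N B) hab).trans (Category.assoc _ _ _))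
  refine hjoint a b ?_ hq
  let V : ULift.{u} (Fin (N + 1)) → T.Opens := fun l => a ⁻¹ᵁ chartA ψ l.down
  refine Scheme.Cover.hom_ext (T.openCoverOfIsOpenCover V (IsOpenCover.mk (eq_top_iff.2 fun t _ =>
    Opens.mem_iSup.2 (cov_coord A (ψ (a t)))))) _ _ fun l => ?_
  show (V l).ι ≫ a ≫ ψ = (V l).ι ≫ b ≫ ψ
  have ha : V l ≤ (a ≫ ψ) ⁻¹ᵁ Proj.basicOpen (CohB1.polyGrading N A) (MvPolynomial.X l.down) := le_rfl
  have ha' : V l ≤ a ⁻¹ᵁ chartA ψ l.down := le_rfl
  have hb' : V l ≤ b ⁻¹ᵁ chartA ψ l.down := by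
    show a ⁻¹ᵁ chartA ψ l.down ≤ _
    rw [← relMap_preimage ψ q l.down]
    exact le_of_eq (congrArg (fun φ : T ⟶ _ =>
      φ ⁻¹ᵁ Proj.basicOpen (CohB1.polyGrading N B) (MvPolynomial.X l.down)) hab)
  refine ProjUPX.ι_eq_of_appLE (ProjPt.X_mem l.down) (a ≫ ψ) (b ≫ ψ) ha hb' ?_
  ext z
  obtain ⟨m, x, hx, rfl⟩ := Away.mk_surjective (CohB1.polyGrading N A) (ProjPt.X_mem l.down) z
  rw [ProjPt.mk_eq_eval, map_eval₂Hom, map_eval₂Hom]
  refine eval₂Hom_congr ?_ ?_ rfl
  · ext r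
    refine (appLE_cst (a ≫ ψ) l.down ha r).symm.trans (Eq.trans ?_ (appLE_cst (b ≫ ψ) l.down hb' r))
    have e : (a ≫ ψ) ≫ CohB1.ProjSpace.toSpec N A = (b ≫ ψ) ≫ CohB1.ProjSpace.toSpec N A :=
      (Category.assoc _ _ _).trans ((congrArg (fun φ => a ≫ φ) hc).trans
        ((Category.assoc _ _ _).symm.trans ((congrArg (fun φ => φ ≫ _) hq).trans
          ((Category.assoc _ _ _).trans ((congrArg (fun φ => b ≫ φ) hc.symm).trans
            (Category.assoc _ _ _).symm)))))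
    simp only [e]
  · funext k
    have hj : chartA ψ l.down ≤
        relMap ψ q ⁻¹ᵁ Proj.basicOpen (CohB1.polyGrading N B) (MvPolynomial.X l.down) :=
      (relMap_preimage ψ q l.down).ge
    have key : ∀ (g : T ⟶ Z) (hg : V l ≤ g ⁻¹ᵁ chartA ψ l.down),
        (g ≫ ψ).appLE (Proj.basicOpen (CohB1.polyGrading N A) (MvPolynomial.X l.down)) (V l) hg
          (sRatio (ProjPt.X_mem (n := N) (R := A) k) (ProjPt.X_mem l.down)) =
        (g ≫ relMap ψ q).appLE (Proj.basicOpen (CohB1.polyGrading N B) (MvPolynomial.X l.down))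
          (V l) (hg.trans (g.preimage_mono hj))
          (sRatio (ProjPt.X_mem (n := N) (R := B) k) (ProjPt.X_mem l.down)) := by
      intro g hg
      rw [← Scheme.Hom.appLE_comp_appLE g ψ _ (chartA ψ l.down) (V l) le_rfl hg,
        ← Scheme.Hom.appLE_comp_appLE g (relMap ψ q) _ (chartA ψ l.down) (V l) hj hg,
        CommRingCat.comp_apply, CommRingCat.comp_apply]
      exact congrArg _ (relMap_ratio ψ q k l.down le_rfl hj).symm
    refine (key a ha').trans (Eq.trans ?_ (key b hb').symm)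
    simp only [hab]⟩

theorem isClosedImmersion_relMap_of_joint [IsProper q]
    (hjoint : ∀ {T : Scheme.{u}} (a b : T ⟶ Z), a ≫ ψ = b ≫ ψ → a ≫ q = b ≫ q → a = b) (c : A →+* B)
    (hc : ψ ≫ CohB1.ProjSpace.toSpec N A = q ≫ Spec.map (CommRingCat.ofHom c)) :
    IsClosedImmersion (relMap ψ q) := by
  haveI hp : IsProper (CohB1.ProjSpace.toSpec N B) := isProper_toSpec N B
  let g : Proj (CohB1.polyGrading N B) ⟶ Spec (CommRingCat.of B) := CohB1.ProjSpace.toSpec N B
  haveI : IsSeparated g := hp.toIsSeparated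
  haveI : IsProper (relMap ψ q ≫ g) := by
    show IsProper (relMap ψ q ≫ CohB1.ProjSpace.toSpec N B)
    rw [relMap_toSpec]; infer_instance
  exact (IsClosedImmersion.iff_isProper_and_mono _).2
    ⟨IsProper.of_comp _ g, mono_relMap_of_joint ψ q hjoint c hc⟩

end Groth.Agent.Pic13Lib
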