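import Groth.Agent.Pic13Lib.BddReg
import Groth.Agent.Pic13Lib.EulerIff
import Groth.Agent.Pic13Lib.JointEmb
import Groth.Agent.AmpleVan.Criterion
import Groth.Agent.AmpleX.Basis
import Groth.Agent.AmpleX.Pow
import Groth.Agent.AmpleX.RelAffine
import Groth.Agent.Ega2Va.Main

/-!
# Ampleness is a numerical property in the direction used by Pic^τ
-/

set_option autoImplicit false
set_option linter.style.haveILetI false
set_option linter.unusedSectionVars false
set_option backward.isDefEq.respectTransparency false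
set_option backward.isDefEq.respectTransparency.types false
set_option maxHeartbeats 1000000
set_option synthInstance.maxHeartbeats 200000

universe u

open CategoryTheory CategoryTheory.Limits AlgebraicGeometry TopologicalSpace Opposite
open Groth.Agent.H23.PicMul

attribute [local instance] HasDerivedCategory.standard

noncomputable section

namespace Groth.Agent.Pic13Lib

open Groth.Agent

variable {k : Type u} [Field k] {X : Scheme.{u}} [X.Over (Spec (CommRingCat.of k))]
  [IsProper (X ↘ Spec (CommRingCat.of k))]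

/-- A proper scheme with an ample invertible module is a closed subscheme of a projective space. -/
theorem exists_embedding_of_ample {H : X.Modules} (hH : CohB1.IsAmple H) :
    ∃ (n : ℕ) (j : X ⟶ CohB1.ProjSpace n k),
      IsClosedImmersion j ∧ j ≫ CohB1.ProjSpace.toSpec n k = X ↘ Spec (CommRingCat.of k) := by
  obtain ⟨a, ha, n, i, hi, hiq, -⟩ := Ega2Va.exists_pow_veryAmple (X ↘ Spec (CommRingCat.of k)) hH
  let p₁ := pullback.fst (CohB1.ProjSpace.toSpec n (ULift.{u} ℤ)) (specULiftZIsTerminal.from (Spec (CommRingCat.of k)))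
  let ψ : X ⟶ Proj (CohB1.polyGrading n (ULift.{u} ℤ)) := i ≫ p₁
  refine ⟨n, PnCoh.Chow.relMap ψ (X ↘ Spec (CommRingCat.of k)), ?_, PnCoh.Chow.relMap_toSpec ψ _⟩
  refine isClosedImmersion_relMap_of_joint ψ (X ↘ Spec (CommRingCat.of k)) ?_
    ((Int.castRingHom k).comp (ULift.ringEquiv : ULift.{u} ℤ ≃+* ℤ).toRingHom) (specULiftZIsTerminal.hom_ext _ _)
  intro T a b h1 h2
  haveI := hi
  refine (cancel_mono i).1 (pullback.hom_ext ?_ ?_)
  · simpa only [Category.assoc] using h1
  · rw [Category.assoc, Category.assoc, hiq]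
    exact h2

variable {n : ℕ} (j : X ⟶ CohB1.ProjSpace n k) [IsClosedImmersion j]
  (hj : j ≫ CohB1.ProjSpace.toSpec n k = X ↘ Spec (CommRingCat.of k))

include hj in
/-- Twisting a numerically trivial module by `O(1)` gives an ample one. -/
theorem isAmple_tensor_hyp {L : X.Modules} (hL : NumTriv k L) : CohB1.IsAmple (CohB1.tensorMod L (hyp j 1)) := by
  haveI := isNoetherian j
  refine AmpleVan.isAmple_of_HH_one (H23.PicMul.isInvertible_tensor hL.1 (isInvertible_hyp j 1)) fun Z hZ => ?_
  let I := (QCoh.vanIdeal Z).toModules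
  have hI : Coh.IsCoh I :=
    QCoh.isCoh_of_mono (QCoh.vanIdeal Z).ι QCoh.isCoh_structureModule' (QCoh.isQCoh_vanIdeal Z)
  obtain ⟨m₀, hv⟩ := (good_of_isCoh j hj hI).van
  refine ⟨m₀.toNat, QCoh.subsingleton_HH_of_iso ?_ 1
    (hv _ (hL.tensorPow (m₀.toNat + 1)) 1 le_rfl ((m₀.toNat + 1 : ℕ) : ℤ) (by omega))⟩
  refine (cl_eq_iff.1 ?_).some
  have hp : ∀ d : ℕ, PicF.cl (hyp j 1) ^ d = PicF.cl (hyp j (d : ℤ)) := fun d => by
    induction d with
    | zero => rw [pow_zero, Nat.cast_zero, cl_hyp_zero]
    | succ d ih => rw [pow_succ, ih, cl_hyp_add, Nat.cast_succ]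
  rw [cl_twistOn, cl_tensor, cl_tensor, cl_tensorPow, cl_tensorPow, cl_tensor, mul_pow, hp]
  ac_rfl

/-- `L ⊗ H` is ample for `H` ample and `L` numerically trivial. -/
theorem isAmple_tensor_numTriv {H L : X.Modules} (hH : CohB1.IsAmple H) (hL : NumTriv k L) :
    CohB1.IsAmple (CohB1.tensorMod L H) := by
  obtain ⟨n, j, hj, hjk⟩ := exists_embedding_of_ample (k := k) hH
  haveI : CompactSpace X := QuasiCompact.compactSpace_of_compactSpace (X ↘ Spec (CommRingCat.of k))
  haveI : X.IsSeparated := ⟨by
    rw [← terminal.comp_from (X ↘ Spec (CommRingCat.of k))]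
    exact MorphismProperty.comp_mem @IsSeparated _ _ inferInstance inferInstance⟩
  obtain ⟨N, hN, h⟩ := AmpleX.eventually_ample_tensor hH (isInvertible_hyp j (-1))
  have hA := (h N le_rfl).1
  refine AmpleX.isAmple_of_tensorPow (H23.PicMul.isInvertible_tensor hL.1 hH.1) hN ?_
  have hB := AmpleX.isAmple_tensor (isAmple_tensor_hyp j hjk (hL.tensorPow N)) hA.1 (fun x => let ⟨m, s, h, _⟩ := hA.2.2 x; ⟨m, s, h⟩)
  refine AmpleX.isAmple_of_iso (Classical.choice (cl_eq_iff.1 ?_)) hB
  rw [cl_tensor, cl_tensor, cl_tensor, cl_tensorPow, cl_tensorPow, cl_tensorPow, cl_tensor, mul_pow]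
  calc PicF.cl L ^ N * PicF.cl (hyp j 1) * (PicF.cl H ^ N * PicF.cl (hyp j (-1)))
      = PicF.cl L ^ N * PicF.cl H ^ N * (PicF.cl (hyp j 1) * PicF.cl (hyp j (-1))) := by ac_rfl
    _ = PicF.cl L ^ N * PicF.cl H ^ N := by rw [cl_hyp_add, add_neg_cancel, cl_hyp_zero, mul_one]

/-- Inverses of numerically trivial modules are numerically trivial. -/
theorem NumTriv.of_inverse {L L' : X.Modules} (hL : NumTriv k L)
    (e : Nonempty (CohB1.tensorMod L L' ≅ Coh.structureModule X)) : NumTriv k L' := by
  have hL' := isInvertible_of_tensor_iso hL.1 e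
  refine ⟨hL', (isNumEquivZero_iff hL').2 fun T => ?_⟩
  have h := degOn_congr (k := k) T e.some
  rw [degOn_tensor T hL.1 hL', degOn_structure, hL.deg T] at h
  omega

/-- If all `L^m(1)` are ample then `L` is numerically trivial. -/
theorem numTriv_of_twists_ample {H L L' : X.Modules} (hH : CohB1.IsAmple H) (hL : PicF.IsInvertible L)
    (e : Nonempty (CohB1.tensorMod L L' ≅ Coh.structureModule X))
    (hamp : ∀ m : ℕ, CohB1.IsAmple (CohB1.tensorMod (CohB1.tensorPow L m) H) ∧
      CohB1.IsAmple (CohB1.tensorMod (CohB1.tensorPow L' m) H)) : NumTriv k L := by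
  have hL' := isInvertible_of_tensor_iso hL e
  refine ⟨hL, (isNumEquivZero_iff hL).2 fun T => ?_⟩
  have hpow : ∀ {M : X.Modules}, PicF.IsInvertible M → ∀ m : ℕ,
      degOn k T (CohB1.tensorPow M m) = m * degOn k T M := by
    intro M hM m
    induction m with
    | zero => rw [show CohB1.tensorPow M 0 = Coh.structureModule X from rfl, degOn_structure]; simp
    | succ m ih =>
      rw [show CohB1.tensorPow M (m + 1) = CohB1.tensorMod (CohB1.tensorPow M m) M from rfl,
        degOn_tensor T (InvX.isInvertible_tensorPow hM m) hM, ih]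
      push_cast
      ring
  have h0 := degOn_congr (k := k) T e.some
  rw [degOn_tensor T hL hL', degOn_structure] at h0
  have hpos := degOn_pos (k := k) T hH
  let m := (degOn k T H).toNat
  have h1 := degOn_pos (k := k) T (hamp m).1
  have h2 := degOn_pos (k := k) T (hamp m).2
  rw [degOn_tensor T (InvX.isInvertible_tensorPow hL m) hH.1, hpow hL] at h1
  rw [degOn_tensor T (InvX.isInvertible_tensorPow hL' m) hH.1, hpow hL',
    show degOn k T L' = -degOn k T L by omega] at h2
  rw [show (m : ℤ) = degOn k T H from Int.toNat_of_nonneg hpos.le] at h1 h2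
  rcases lt_trichotomy (degOn k T L) 0 with h | h | h
  · nlinarith
  · exact h
  · nlinarith

end Groth.Agent.Pic13Lib
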