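import Groth.Agent.Pic13Lib.BddFam
import Groth.Agent.S1393
import Groth.Agent.S4698
import Groth.Agent.H23.GysinSq
import Groth.Agent.H23.GysinPb
import Groth.Agent.H23.RedSub
import Groth.Agent.ConsPropLib.FibreLocFreeRank
import Groth.Agent.Lib.InvEnd
import Groth.Agent.QCoh.LocFree
import Groth.Agent.KFlatLib.Scheme.Pullback

/-!
# A coherent family with invertible fibres is invertible on finitely many connected strata
-/

set_option autoImplicit false
set_option linter.style.haveILetI false
set_option linter.unusedSectionVars false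
set_option backward.isDefEq.respectTransparency false
set_option backward.isDefEq.respectTransparency.types false
set_option maxHeartbeats 1000000
set_option synthInstance.maxHeartbeats 200000

universe u

open CategoryTheory CategoryTheory.Limits AlgebraicGeometry TopologicalSpace Opposite IsLocalRing
open scoped TensorProduct

attribute [local instance] HasDerivedCategory.standard

noncomputable section

namespace Groth.Agent.Pic13Lib

open Groth.Agent

/-- Freeness of a module after the quotient by an ideal presented by a surjection. -/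
theorem flat_quot_of_free_baseChange {B C M : Type u} [CommRing B] [CommRing C] [Algebra B C] [AddCommGroup M]
    [Module B M] {I : Ideal B} (hs : Function.Surjective (algebraMap B C)) (hker : RingHom.ker (algebraMap B C) = I)
    [Module.Free C (C ⊗[B] M)] : Module.Flat (B ⧸ I) (M ⧸ (I • (⊤ : Submodule B M))) := by
  subst hker
  let e : (B ⧸ RingHom.ker (Algebra.ofId B C)) ≃ₐ[B] C := Ideal.quotientKerAlgEquivOfSurjective hs
  let Q := B ⧸ RingHom.ker (algebraMap B C)
  let e' : Q ≃ₐ[B] C := e
  letI : Algebra C Q := e'.symm.toAlgHom.toRingHom.toAlgebra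
  haveI : IsScalarTower B C Q := IsScalarTower.of_algebraMap_eq fun b => (e'.symm.commutes b).symm
  haveI : Module.Free Q (Q ⊗[B] M) :=
    Module.Free.of_equiv (TensorProduct.AlgebraTensorModule.cancelBaseChange B C Q Q M)
  haveI : Module.Flat Q (Q ⊗[B] M) := inferInstance
  exact Module.Flat.of_linearEquiv (LinearEquiv.extendScalarsOfSurjective Ideal.Quotient.mk_surjective
    (TensorProduct.quotTensorEquivQuotSMul M (RingHom.ker (algebraMap B C)))).symm

/-- The stalk congruence maps maximal ideals to maximal ideals. -/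
theorem map_maximalIdeal_specializes {Y : Scheme.{u}} {a b : Y} (h : a = b) :
    (maximalIdeal (Y.presheaf.stalk b)).map (Y.presheaf.stalkSpecializes (specializes_of_eq h)).hom =
      maximalIdeal (Y.presheaf.stalk a) := by
  subst h
  rw [show Y.presheaf.stalkSpecializes (specializes_of_eq (rfl : a = a)) = 𝟙 _ from
    TopCat.Presheaf.stalkSpecializes_refl _ a]
  exact Ideal.map_id _

/-- The stalk map of a closed point with field of sections has kernel the maximal ideal. -/
theorem ker_stalkMap_point {Y : Scheme.{u}} {k : Type u} [Field k] (t : Spec (CommRingCat.of k) ⟶ Y)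
    [IsClosedImmersion t] (d : Spec (CommRingCat.of k)) :
    RingHom.ker (t.stalkMap d).hom = maximalIdeal (Y.presheaf.stalk (t d)) := by
  refine le_antisymm (IsLocalRing.le_maximalIdeal (RingHom.ker_ne_top _)) fun a ha => ?_
  rcases FlatDvr.eq_zero_or_isUnit_stalk_field k d ((t.stalkMap d).hom a) with h | h
  · exact h
  · exact (ha (isUnit_of_map_unit _ a h)).elim

variable {k : Type u} [Field k] {X : Scheme.{u}} [X.Over (Spec (CommRingCat.of k))]
  {T : Scheme.{u}} {q : T ⟶ Spec (CommRingCat.of k)}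

/-- The projection of `X ×_k T` to `T`. -/
abbrev toBase (q : T ⟶ Spec (CommRingCat.of k)) : Pic13.prodK k X q ⟶ T :=
  pullback.snd (X ↘ Spec (CommRingCat.of k)) q

theorem isClosedImmersion_point [IsSeparated q] {t : Spec (CommRingCat.of k) ⟶ T} (ht : t ≫ q = 𝟙 _) :
    IsClosedImmersion t := by
  haveI : IsClosedImmersion (t ≫ q) := by rw [ht]; infer_instance
  exact IsClosedImmersion.of_comp t q

/-- The fibre over a rational point. -/
theorem isPullback_slice (t : Spec (CommRingCat.of k) ⟶ T) (ht : t ≫ q = 𝟙 _) :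
    IsPullback (Pic13.sliceAt k X q t ht) (X ↘ Spec (CommRingCat.of k)) (toBase (X := X) q) t := by
  refine IsPullback.of_right (h₁₂ := pullback.fst (X ↘ Spec (CommRingCat.of k)) q)
    (v₁₃ := X ↘ Spec (CommRingCat.of k)) (h₂₂ := q) ?_ (sliceAt_snd k X q t ht) ?_
  · rw [sliceAt_fst, ht]
    exact IsPullback.of_horiz_isIso ⟨by rw [Category.id_comp, Category.comp_id]⟩
  · exact IsPullback.of_hasPullback _ _

theorem exists_slice_point (t : Spec (CommRingCat.of k) ⟶ T) (ht : t ≫ q = 𝟙 _) (w : Pic13.prodK k X q)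
    {p : Spec (CommRingCat.of k)} (hw : toBase q w = t p) : ∃ x : X, Pic13.sliceAt k X q t ht x = w := by
  have hsq := isPullback_slice (X := X) t ht
  obtain ⟨a, ha, -⟩ := Scheme.Pullback.exists_preimage_pullback (f := toBase (X := X) q) (g := t) w p hw
  refine ⟨hsq.isoPullback.inv a, ?_⟩
  rw [← Scheme.Hom.comp_apply, hsq.isoPullback_inv_fst]
  exact ha

/-- The points where a module is free of rank one nearby. -/
def invLocus {Y : Scheme.{u}} (F : Y.Modules) : Y.Opens :=
  sSup {U : Y.Opens | Nonempty (F.restrict U.ι ≅ FlatMod.freeMod (U : Scheme.{u}) 1)}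

theorem mem_invLocus_of_free {Y : Scheme.{u}} {F : Y.Modules} (hF : CohB1.IsFP F) {w : Y}
    [Module.Free (Y.presheaf.stalk w) (F.presheaf.stalk w)]
    (h1 : Module.finrank (Y.presheaf.stalk w) (F.presheaf.stalk w) = 1) : w ∈ invLocus F := by
  obtain ⟨U, n, hwU, ⟨e⟩⟩ := QCoh.exists_free_nhd_of_free_stalk hF w
  obtain ⟨_, ⟨V, hV, rfl⟩, hxV, hle⟩ :=
    Y.isBasis_affineOpens.exists_subset_of_mem_open (show w ∈ U from hwU) U.2
  obtain ⟨l⟩ := QCoh.exists_linearEquiv_of_freeIso (QCoh.freeChart hV hle e)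
  have hn := QCoh.finrank_stalk_of_freeChart hV (QCoh.isQCoh_of_isFP hF) ((QCoh.chartEquiv hV F).trans l) hxV
  obtain rfl : n = 1 := hn.symm.trans h1
  exact Opens.mem_sSup.2 ⟨U, ⟨e⟩, hwU⟩

theorem isInvertible_pullback_of_invLocus {Y Y' : Scheme.{u}} {F : Y.Modules} (g : Y' ⟶ Y)
    (hg : ∀ y, g y ∈ invLocus F) : PicF.IsInvertible ((Scheme.Modules.pullback g).obj F) := by
  let W := invLocus F
  have hr : FlatMod.IsFinLocFreeOfRank 1 (F.restrict W.ι) :=
    ConsPropLib.isFinLocFreeOfRank_of_cover
      (J := {U : Y.Opens // Nonempty (F.restrict U.ι ≅ FlatMod.freeMod (U : Scheme.{u}) 1)})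
      (fun U => Y.homOfLE (show U.1 ≤ W from le_sSup U.2))
      (fun x => by
        obtain ⟨U, hU, hxU⟩ := Opens.mem_sSup.1 x.2
        refine ⟨⟨U, hU⟩, ⟨x.1, hxU⟩, ?_⟩
        apply W.ι.isOpenEmbedding.injective
        rw [← Scheme.Hom.comp_apply, Scheme.homOfLE_ι]
        rfl)
      fun U => fun x => ⟨⊤, trivial, ⟨(Scheme.Modules.restrictFunctor _).mapIso
        (QCoh.restrictRestrict F _ W.ι ≪≫
          (Scheme.Modules.restrictFunctorCongr (Scheme.homOfLE_ι Y (show U.1 ≤ W from le_sSup U.2))).app F ≪≫ U.2.some) ≪≫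
        QCoh.freeModRestrict _ 1⟩⟩
  have hi : PicF.IsInvertible (F.restrict W.ι) := fun x =>
    let ⟨U, hx, ⟨e⟩⟩ := hr x
    ⟨U, hx, ⟨e ≪≫ coproductUniqueIso _⟩⟩
  let g' : Y' ⟶ W := IsOpenImmersion.lift W.ι g (by
    rw [Scheme.Opens.range_ι]; rintro _ ⟨y, rfl⟩; exact hg y)
  have h : PicF.IsInvertible ((Scheme.Modules.pullback g').obj ((Scheme.Modules.pullback W.ι).obj F)) :=
    PicClLib.isInvertible_pullback g'
      (H23.PicMul.isInvertible_of_iso ((Scheme.Modules.restrictFunctorIsoPullback W.ι).app F) hi)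
  exact H23.PicMul.isInvertible_of_iso ((Scheme.Modules.pullbackComp g' W.ι).app F ≪≫
    (Scheme.Modules.pullbackCongr (IsOpenImmersion.lift_fac _ _ _)).app F) h

variable [LocallyOfFiniteType (X ↘ Spec (CommRingCat.of k))] [QuasiCompact (X ↘ Spec (CommRingCat.of k))]
  [LocallyOfFiniteType q] [QuasiCompact q]

/-- A flat family is invertible along an invertible fibre. -/
theorem mem_invLocus_of_fibre [IsSeparated q] {F : (Pic13.prodK k X q).Modules} (hF : Coh.IsCoh F)
    (t : Spec (CommRingCat.of k) ⟶ T) (ht : t ≫ q = 𝟙 _) (hinv : PicF.IsInvertible (Pic13.fibreMod k X q t ht F))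
    (x : X) (hfl : FlatMod.IsFlatOverAt (toBase q) F (Pic13.sliceAt k X q t ht x)) :
    Pic13.sliceAt k X q t ht x ∈ invLocus F := by
  haveI := isNoetherian_prodK k X q
  haveI := isClosedImmersion_point ht
  let s := Pic13.sliceAt k X q t ht
  let π := toBase (X := X) q
  have hsq := isPullback_slice (X := X) t ht
  haveI : IsClosedImmersion s := MorphismProperty.of_isPullback hsq.flip ‹IsClosedImmersion t›
  let w := s x
  have hfp : CohB1.IsFP F := QCoh.isCoh_iff_isFP.1 hF
  let a := hsq.isoPullback.hom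
  have ha : a ≫ pullback.fst π t = s := hsq.isoPullback_hom_fst
  have hker : RingHom.ker (s.stalkMap x).hom =
      (maximalIdeal (T.presheaf.stalk (π w))).map (π.stalkMap w).hom := by
    have key : ∀ (s' : X ⟶ Pic13.prodK k X q), a ≫ pullback.fst π t = s' → RingHom.ker (s'.stalkMap x).hom =
        (maximalIdeal (T.presheaf.stalk (π (s' x)))).map (π.stalkMap (s' x)).hom := by
      rintro _ rfl
      rw [H23.GysinSq.ker_stalkMap_iso_comp a, H23.GysinPb.ker_stalkMap_fst, ker_stalkMap_point,
        H23.GysinPb.baseMap, CommRingCat.hom_comp, ← Ideal.map_map,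
        map_maximalIdeal_specializes (H23.GysinPb.apply_fst_eq π t (a x))]
      rfl
    exact key s ha
  have hinv' : PicF.IsInvertible ((Scheme.Modules.pullback s).obj F) := hinv
  obtain ⟨hlf, hrk⟩ := ConsPropLib.isFinLocFreeOfRank_iff.1 (Groth.Agent.InvEnd.isFinLocFreeOfRank_one hinv')
  letI : Algebra ((Pic13.prodK k X q).presheaf.stalk w) (X.presheaf.stalk x) := (s.stalkMap x).hom.toAlgebra
  let e₀ : ((Scheme.Modules.pullback s).obj F).presheaf.stalk x ≃ₗ[X.presheaf.stalk x]
      (X.presheaf.stalk x) ⊗[(Pic13.prodK k X q).presheaf.stalk w] (F.presheaf.stalk w) :=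
    ((KFlatLib.stalkPullbackIso s x).app F).toLinearEquiv
  haveI := QCoh.free_stalk_of_isFinLocFree hlf x
  haveI hfree : Module.Free (X.presheaf.stalk x)
      ((X.presheaf.stalk x) ⊗[(Pic13.prodK k X q).presheaf.stalk w] (F.presheaf.stalk w)) :=
    Module.Free.of_equiv e₀
  have h2 := flat_quot_of_free_baseChange (M := F.presheaf.stalk w) (C := X.presheaf.stalk x)
    (s.stalkMap_surjective x) hker
  haveI : LocallyOfFinitePresentation π := by
    haveI : IsLocallyNoetherian T := LocallyOfFiniteType.isLocallyNoetherian q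
    infer_instance
  haveI : QuasiSeparated π := inferInstance
  obtain ⟨U, n, hwU, ⟨e⟩⟩ := S1393.result π F hF.1 hfp w hfl h2
  obtain ⟨_, ⟨V, hV, rfl⟩, hxV, hle⟩ :=
    (Pic13.prodK k X q).isBasis_affineOpens.exists_subset_of_mem_open (show w ∈ U from hwU) U.2
  obtain ⟨l⟩ := QCoh.exists_linearEquiv_of_freeIso (QCoh.freeChart hV hle e)
  let L := (QCoh.chartEquiv hV F).trans l
  have hn := QCoh.finrank_stalk_of_freeChart hV hF.1 L hxV
  haveI : Module.Free ((Pic13.prodK k X q).presheaf.stalk w) (F.presheaf.stalk w) := by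
    letI := QCoh.stalkAlg (X := Pic13.prodK k X q) hxV
    letI := QCoh.stalkModule F hxV
    haveI := QCoh.isScalarTower_stalk F hxV
    haveI := QCoh.isLocalization_stalk' hV hxV
    haveI := QCoh.isLocalizedModule_germLin hF.1 hV hxV
    haveI : Module.Free _ Γ(F, V) := Module.Free.of_equiv L.symm
    exact Module.free_of_isLocalizedModule (hV.primeIdealOf ⟨w, hxV⟩).asIdeal.primeCompl (QCoh.germLin F hxV)
  refine mem_invLocus_of_free hfp ?_
  have h := e₀.finrank_eq
  rw [hrk x, Module.finrank_baseChange] at h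
  exact h.symm

end Groth.Agent.Pic13Lib
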