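import Groth.Agent.Pic13Lib.BddReg
import Groth.Agent.Pic13Lib.FibreInv
import Groth.Agent.Pic13Lib.ConstSemi
import Groth.Agent.Pic13Lib.TauNum
import Groth.Agent.Pic13Lib.EulerIff
import Groth.Agent.S12111
import Groth.Agent.S1455
import Mathlib.AlgebraicGeometry.AlgClosed.Basic

/-!
# Bounded families are uniformly regular with finitely many Hilbert polynomials
-/

set_option autoImplicit false
set_option linter.style.haveILetI false
set_option linter.unusedSectionVars false
set_option backward.isDefEq.respectTransparency false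
set_option backward.isDefEq.respectTransparency.types false
set_option maxHeartbeats 1000000
set_option synthInstance.maxHeartbeats 200000

universe u

open CategoryTheory CategoryTheory.Limits AlgebraicGeometry TopologicalSpace Opposite
open Groth.Agent.H23.PicMul

attribute [local instance] HasDerivedCategory.standard

noncomputable section

namespace Groth.Agent.Pic13Lib

open Groth.Agent

variable {k : Type u} [Field k] [IsAlgClosed k] {n : ℕ} {X : Scheme.{u}} [X.Over (Spec (CommRingCat.of k))]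
  (j : X ⟶ CohB1.ProjSpace n k) [IsClosedImmersion j]
  (hj : j ≫ CohB1.ProjSpace.toSpec n k = X ↘ Spec (CommRingCat.of k))

include hj in
theorem eulerLE_twistOn {F : X.Modules} (hF : Coh.IsCoh F) (d : ℤ) {N : ℕ} (hN : n < N) :
    FGA.eulerCharLE k X (Pic13.twistOn k j F d) n = Curv2.euler k X (Pic13.twistOn k j F d) ∧
      Curv2.euler k X (Pic13.twistOn k j F d) =
        ∑ p ∈ Finset.range N, (-1 : ℤ) ^ p * (Module.finrank k (Coh.HH X (Pic13.twistOn k j F d) p) : ℤ) := by
  have hv : ∀ i, n < i → Subsingleton (Coh.HH X (Pic13.twistOn k j F d) i) := fun i hi =>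
    subsingleton_of_lt j hj hF d hi
  refine ⟨?_, Euler.euler_eq_sum k _ N fun i hi => hv i (by omega)⟩
  rw [Euler.euler_eq_sum k (Pic13.twistOn k j F d) (n + 1) fun i hi => hv i (by omega)]
  rfl

include hj in
/-- The Euler characteristics of all twists form a polynomial of bounded degree. -/
theorem exists_poly_int {F : X.Modules} (hF : Coh.IsCoh F) {D : ℕ} (hD : topologicalKrullDim X ≤ D) :
    ∃ P : Polynomial ℚ, P.natDegree ≤ D ∧
      ∀ d : ℤ, (Curv2.euler k X (Pic13.twistOn k j F d) : ℚ) = P.eval (d : ℚ) := by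
  haveI := isProper j hj
  haveI := isNoetherian j
  have hp : ∀ (G : X.Modules) (m : ℕ),
      Nonempty (HilbPoly.pw (hyp j 1) G m ≅ Pic13.twistOn k j G (m : ℤ)) := fun G m => by
    have hpow : ∀ d : ℕ, PicF.cl (hyp j 1) ^ d = PicF.cl (hyp j (d : ℤ)) := fun d => by
      induction d with
      | zero => rw [pow_zero, Nat.cast_zero, cl_hyp_zero]
      | succ d ih => rw [pow_succ, ih, cl_hyp_add, Nat.cast_succ]
    refine cl_eq_iff.1 ?_
    rw [cl_twistOn, HilbPoly.pw, cl_tensor, cl_tensorPow, hpow]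
  have key : ∀ G : X.Modules, Coh.IsCoh G → ∃ P : Polynomial ℚ, P.natDegree ≤ D ∧
      ∀ m : ℕ, (Curv2.euler k X (Pic13.twistOn k j G (m : ℤ)) : ℚ) = P.eval (m : ℚ) := fun G hG => by
    obtain ⟨P, h1, h2, -⟩ := HilbPoly.exists_poly (HilbPoly.additive_euler k) (isInvertible_hyp j 1) hG (d := D)
      ((topologicalKrullDim_subspace_le _ _).trans hD)
    refine ⟨P, h2, fun m => ?_⟩
    rw [← h1 m, (HilbPoly.additive_euler k).iso _ _ (hp G m)]
  obtain ⟨P, hPd, hP⟩ := key F hF
  refine ⟨P, hPd, fun d => ?_⟩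
  rcases le_or_gt 0 d with hd | hd
  · obtain ⟨m, rfl⟩ := Int.eq_ofNat_of_zero_le hd
    exact_mod_cast hP m
  obtain ⟨Q, -, hQ⟩ := key _ (isCoh_twistOn j hF d)
  have hag : ∀ m : ℕ, d.natAbs ≤ m → Q.eval (m : ℚ) = P.eval ((m : ℚ) + d) := fun m hm => by
    obtain ⟨m', hm'⟩ := Int.eq_ofNat_of_zero_le (show 0 ≤ (m : ℤ) + d by omega)
    rw [← hQ m, (HilbPoly.additive_euler k).iso _ _ (twistOn_twistOn j F d m), add_comm d, hm', hP m']
    congr 1
    exact_mod_cast hm'.symm
  have hPQ : Q = P.comp (Polynomial.X + Polynomial.C (d : ℚ)) := by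
    refine Polynomial.eq_of_infinite_eval_eq _ _ (Set.Infinite.mono (fun x hx => ?_)
      ((Set.Ici_infinite d.natAbs).image (f := fun m : ℕ => (m : ℚ)) (Nat.cast_injective.injOn)))
    obtain ⟨m, hm, rfl⟩ := hx
    show Q.eval (m : ℚ) = _
    rw [hag m hm, Polynomial.eval_comp, Polynomial.eval_add, Polynomial.eval_X, Polynomial.eval_C]
  have h0 := hQ 0
  rw [hPQ, Polynomial.eval_comp, Polynomial.eval_add, Polynomial.eval_X, Polynomial.eval_C,
    (HilbPoly.additive_euler k).iso _ _ (twistOn_twistOn j F d ((0 : ℕ) : ℤ))] at h0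
  simpa using h0

/-- Two polynomials of degree at most `D` agreeing at `0, …, D` are equal. -/
theorem poly_eq_of_eval {P Q : Polynomial ℚ} {D : ℕ} (hP : P.natDegree ≤ D) (hQ : Q.natDegree ≤ D)
    (h : ∀ i : ℕ, i ≤ D → P.eval (i : ℚ) = Q.eval (i : ℚ)) : P = Q := by
  refine Polynomial.eq_of_natDegree_lt_card_of_eval_eq P Q (f := fun i : Fin (D + 1) => ((i : ℕ) : ℚ))
    (fun a b hab => Fin.ext (Nat.cast_injective (R := ℚ) hab)) (fun i => h i (Nat.lt_succ_iff.1 i.2)) ?_
  rw [Fintype.card_fin]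
  omega

include hj in
/-- A flat family: uniform regularity and finitely many Hilbert polynomials. -/
theorem exists_bounds_flat {T V : Scheme.{u}} (q : T ⟶ Spec (CommRingCat.of k)) (jV : V ⟶ T)
    [LocallyOfFiniteType q] [QuasiCompact q] [LocallyOfFiniteType jV] [CompactSpace V]
    {F : (Pic13.prodK k X q).Modules} (hF : Coh.IsCoh F)
    (hfl : FlatMod.IsFlatOver (pullback.snd (toBase (X := X) q) jV)
      ((Scheme.Modules.pullback (pullback.fst (toBase (X := X) q) jV)).obj F)) :
    ∃ (m : ℤ) (s : Finset (Polynomial ℚ)), ∀ (t : Spec (CommRingCat.of k) ⟶ T) (ht : t ≫ q = 𝟙 _)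
      (t' : Spec (CommRingCat.of k) ⟶ V), t' ≫ jV = t → Coh.IsCoh (Pic13.fibreMod k X q t ht F) →
      Pic13.IsMRegular k j (Pic13.fibreMod k X q t ht F) m ∧
        ∃ φ ∈ s, ∀ d : ℤ, (FGA.eulerCharLE k X (Pic13.twistOn k j (Pic13.fibreMod k X q t ht F) d) n : ℚ) =
          φ.eval (d : ℚ) := by
  classical
  haveI := isProper j hj
  haveI := isNoetherian j
  haveI := isNoetherian_prodK k X q
  haveI : IsLocallyNoetherian T := LocallyOfFiniteType.isLocallyNoetherian q
  haveI : IsLocallyNoetherian V := LocallyOfFiniteType.isLocallyNoetherian jV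
  haveI : IsNoetherian V := { __ := ‹IsLocallyNoetherian V›, __ := ‹CompactSpace V› }
  haveI : IsProper (toBase (X := X) q) := inferInstanceAs (IsProper (pullback.snd _ q))
  let W := Limits.pullback (toBase (X := X) q) jV
  let π : W ⟶ V := pullback.snd (toBase (X := X) q) jV
  haveI : IsProper π := inferInstanceAs (IsProper (pullback.snd (toBase (X := X) q) jV))
  haveI : IsLocallyNoetherian W := LocallyOfFiniteType.isLocallyNoetherian π
  let pr : W ⟶ X := pullback.fst (toBase (X := X) q) jV ≫ pullback.fst (X ↘ Spec (CommRingCat.of k)) q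
  let G : ℤ → W.Modules := fun d => CohB1.tensorMod
    ((Scheme.Modules.pullback (pullback.fst (toBase (X := X) q) jV)).obj F)
    ((Scheme.Modules.pullback pr).obj (hyp j d))
  have hGi : ∀ d, PicF.IsInvertible ((Scheme.Modules.pullback pr).obj (hyp j d)) := fun d =>
    PicClLib.isInvertible_pullback pr (isInvertible_hyp j d)
  haveI : CompactSpace W := QuasiCompact.compactSpace_of_compactSpace π
  haveI : IsNoetherian W := { __ := ‹IsLocallyNoetherian W›, __ := ‹CompactSpace W› }
  have hGc : ∀ d, Coh.IsCoh (G d) := fun d =>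
    AmpleVan.isCoh_tensor (ZClosLib.isCoh_pullback _ hF) (AmpleVan.isCoh_invertible (hGi d))
  have hGf : ∀ d, FlatMod.IsFlatOver π (G d) := fun d => isFlatOver_tensor π hfl (hGi d)
  have hrank : ∀ (t : Spec (CommRingCat.of k) ⟶ T) (ht : t ≫ q = 𝟙 _) (t' : Spec (CommRingCat.of k) ⟶ V),
      t' ≫ jV = t → ∀ (d : ℤ) (p : ℕ), CohIII.fiberRank π (G d) p (t' (IsLocalRing.closedPoint k)) =
        Module.finrank k (Coh.HH X (Pic13.twistOn k j (Pic13.fibreMod k X q t ht F) d) p) := by
    intro t ht t' htt d p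
    let g : X ⟶ W := pullback.lift (Pic13.sliceAt k X q t ht) ((X ↘ Spec (CommRingCat.of k)) ≫ t')
      (by rw [sliceAt_snd, Category.assoc, htt])
    have hg1 : g ≫ pullback.fst (toBase (X := X) q) jV = Pic13.sliceAt k X q t ht := pullback.lift_fst _ _ _
    have hg2 : g ≫ π = (X ↘ Spec (CommRingCat.of k)) ≫ t' := pullback.lift_snd _ _ _
    have hpb : IsPullback g (X ↘ Spec (CommRingCat.of k)) π t' :=
      IsPullback.of_right (by rw [hg1, htt]; exact isPullback_slice t ht) hg2
        (IsPullback.of_hasPullback (toBase (X := X) q) jV)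
    rw [fiberRank_eq_finrank π g t' hpb (hGc d).1 p]
    refine HilbPoly.finrank_HH_iso k ?_ p
    refine (cl_eq_iff.1 ?_).some
    obtain ⟨e⟩ := H23.PicMul.pull g ((Scheme.Modules.pullback (pullback.fst (toBase (X := X) q) jV)).obj F)
      ((Scheme.Modules.pullback pr).obj (hyp j d))
    refine (cl_eq_iff.2 ⟨e⟩).trans ?_
    rw [cl_twistOn, cl_tensor]
    refine congrArg₂ (· * ·) (cl_eq_iff.2 ⟨(Scheme.Modules.pullbackComp g _).app F ≪≫
      (Scheme.Modules.pullbackCongr hg1).app F⟩) (cl_eq_iff.2 ⟨(Scheme.Modules.pullbackComp g pr).app _ ≪≫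
      (Scheme.Modules.pullbackCongr (show g ≫ pr = 𝟙 X from by
        rw [← Category.assoc, hg1, sliceAt_fst])).app _ ≪≫ (Scheme.Modules.pullbackId X).app _⟩)
  obtain ⟨D, hD⟩ := exists_dim_le (X ↘ Spec (CommRingCat.of k))
  choose d₀ hd₀ using fun (d : Fin (D + 1)) (y : V) => exists_eventually_euler_fibre π (hGc (d : ℕ)) (hGf _) y
  have local_ : ∀ z : V, IsClosed ({z} : Set V) → ∃ O : V.Opens, z ∈ O ∧ ∃ (m : ℤ) (φ : Polynomial ℚ),
      ∀ (t : Spec (CommRingCat.of k) ⟶ T) (ht : t ≫ q = 𝟙 _) (t' : Spec (CommRingCat.of k) ⟶ V),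
        t' ≫ jV = t → t' (IsLocalRing.closedPoint k) ∈ O → Coh.IsCoh (Pic13.fibreMod k X q t ht F) →
        Pic13.IsMRegular k j (Pic13.fibreMod k X q t ht F) m ∧ ∀ d : ℤ,
          (FGA.eulerCharLE k X (Pic13.twistOn k j (Pic13.fibreMod k X q t ht F) d) n : ℚ) = φ.eval (d : ℚ) := by
    intro z hz
    let qV := jV ≫ q
    haveI : LocallyOfFiniteType qV := inferInstanceAs (LocallyOfFiniteType (jV ≫ q))
    let z' := pointOfClosedPoint qV z hz
    have hz1 : z' ≫ jV ≫ q = 𝟙 _ := pointOfClosedPoint_comp qV z hz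
    have hz2 : z' (IsLocalRing.closedPoint k) = z := pointOfClosedPoint_apply qV z hz _
    have hz3 : (z' ≫ jV) ≫ q = 𝟙 _ := (Category.assoc _ _ _).trans hz1
    let L₀ := Pic13.fibreMod k X q (z' ≫ jV) hz3 F
    have hL₀ : Coh.IsCoh L₀ := ZClosLib.isCoh_pullback _ hF
    obtain ⟨m₀, hm₀⟩ := exists_vanishing j hj hL₀
    let m := m₀ + n
    obtain ⟨φ, hφd, hφ⟩ := exists_poly_int j hj hL₀ hD
    have h1 : ∀ q' : Fin n, ∀ᶠ w in nhds z, CohIII.fiberRank π (G (m - ((q' : ℕ) + 1 : ℕ))) ((q' : ℕ) + 1) w = 0 :=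
      fun q' => by
      refine eventually_fiberRank_eq_zero π (hGc _) (hGf _) _ z ?_
      rw [← hz2, hrank _ hz3 z' rfl]
      haveI := hm₀ (m - ((q' : ℕ) + 1 : ℕ)) (by have := q'.2; push_cast; omega) ((q' : ℕ) + 1) (Nat.succ_pos _)
      exact Module.finrank_zero_of_subsingleton
    have h2 := Filter.eventually_all.2 fun d : Fin (D + 1) => hd₀ d z
    obtain ⟨O, hOs, hO, hzO⟩ := mem_nhds_iff.1 ((Filter.eventually_all.2 h1).and h2)
    refine ⟨⟨O, hO⟩, hzO, m, φ, fun t ht t' htt hmem hcoh => ?_⟩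
    obtain ⟨hr, he⟩ := hOs hmem
    refine ⟨fun q' hq' => ?_, fun d => ?_⟩
    · rcases le_or_gt q' n with hle | hlt
      · have hq0 := hr ⟨q' - 1, by omega⟩
        simp only [show q' - 1 + 1 = q' by omega] at hq0
        rw [hrank t ht t' htt] at hq0
        haveI := finite_HH j hj (isCoh_twistOn j hcoh (m - q')) q'
        exact Module.finrank_zero_iff.1 hq0
      · exact subsingleton_of_lt j hj hcoh _ hlt
    · obtain ⟨ψ, hψd, hψ⟩ := exists_poly_int j hj hcoh hD
      obtain rfl : ψ = φ := poly_eq_of_eval hψd hφd fun i hi => by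
        have hN := he ⟨i, Nat.lt_succ_iff.2 hi⟩ (max (d₀ ⟨i, Nat.lt_succ_iff.2 hi⟩ z) (n + 1)) (le_max_left _ _)
        simp only [← hz2] at hN
        simp only [hrank t ht t' htt, hrank _ hz3 z' rfl] at hN
        rw [← (eulerLE_twistOn j hj hcoh _ (lt_of_lt_of_le (Nat.lt_succ_self n) (le_max_right _ _))).2,
          ← (eulerLE_twistOn j hj hL₀ _ (lt_of_lt_of_le (Nat.lt_succ_self n) (le_max_right _ _))).2] at hN
        have a := hψ (i : ℤ)
        have b := hφ (i : ℤ)
        push_cast at a b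
        rw [← a, ← b, hN]
      rw [(eulerLE_twistOn j hj hcoh d (Nat.lt_succ_self n)).1]
      exact hψ d
  choose O hO m φ hmφ using local_
  have hcov : ∀ y : V, ∃ z : {z : V // IsClosed ({z} : Set V)}, y ∈ O z.1 z.2 := fun y => by
    obtain ⟨z, hyz, hzc⟩ := IsClosed.exists_closed_singleton (isClosed_closure (s := ({y} : Set V)))
      ⟨y, subset_closure rfl⟩
    exact ⟨⟨z, hzc⟩, (specializes_iff_mem_closure.2 hyz).mem_open (O z hzc).2 (hO z hzc)⟩
  obtain ⟨sz, hsz⟩ := isCompact_univ.elim_finite_subcover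
    (fun z : {z : V // IsClosed ({z} : Set V)} => (O z.1 z.2 : Set V)) (fun z => (O z.1 z.2).2)
    fun y _ => Set.mem_iUnion.2 (hcov y)
  refine ⟨∑ z ∈ sz, |m z.1 z.2|, sz.image fun z => φ z.1 z.2, fun t ht t' htt hcoh => ?_⟩
  obtain ⟨z, hzs, hzm⟩ := Set.mem_iUnion₂.1 (hsz (Set.mem_univ (t' (IsLocalRing.closedPoint k))))
  obtain ⟨h1, h2⟩ := hmφ z.1 z.2 t ht t' htt hzm hcoh
  refine ⟨(S12111.result k n j _ hcoh _ h1 _ ?_).1, _, Finset.mem_image_of_mem _ hzs, h2⟩
  exact (le_abs_self _).trans (Finset.single_le_sum (f := fun z : {z : V // IsClosed ({z} : Set V)} => |m z.1 z.2|)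
    (fun _ _ => abs_nonneg _) hzs)

include hj in
/-- Bounded families are uniformly regular and have finitely many Hilbert polynomials. -/
theorem exists_bounds_of_isBounded {P : X.Modules → Prop} (hP : ∀ F, P F → Coh.IsCoh F)
    (hb : Pic13.IsBounded k X P) :
    ∃ (m : ℤ) (s : Finset (Polynomial ℚ)), ∀ L, P L → Pic13.IsMRegular k j L m ∧
      ∃ φ ∈ s, ∀ d : ℤ, (FGA.eulerCharLE k X (Pic13.twistOn k j L d) n : ℚ) = φ.eval (d : ℚ) := by
  classical
  obtain ⟨T, q, hq, hq', F, hF, hb⟩ := hb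
  haveI := isProper j hj
  haveI := hq
  haveI := hq'
  haveI : IsLocallyNoetherian T := LocallyOfFiniteType.isLocallyNoetherian q
  haveI : CompactSpace T := QuasiCompact.compactSpace_of_compactSpace q
  haveI : IsNoetherian T := { __ := ‹IsLocallyNoetherian T›, __ := ‹CompactSpace T› }
  haveI := isNoetherian_prodK k X q
  haveI : IsProper (toBase (X := X) q) := inferInstanceAs (IsProper (pullback.snd _ q))
  obtain ⟨r, I, hmono, hlast, h0, -, hflat⟩ :=
    S1455.result (toBase (X := X) q) F hF.1 (QCoh.isCoh_iff_isFP.1 hF)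
  let jV := fun i : Fin r =>
    ((I i.castSucc).subschemeι ⁻¹ᵁ (I i.succ).support.compl).ι ≫ (I i.castSucc).subschemeι
  haveI : ∀ i : Fin r, CompactSpace ((I i.castSucc).subschemeι ⁻¹ᵁ (I i.succ).support.compl : Scheme.{u}) :=
    fun i => by
    haveI : IsLocallyNoetherian (I i.castSucc).subscheme :=
      LocallyOfFiniteType.isLocallyNoetherian (I i.castSucc).subschemeι
    haveI : CompactSpace (I i.castSucc).subscheme :=
      QuasiCompact.compactSpace_of_compactSpace (I i.castSucc).subschemeι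
    haveI : IsNoetherian (I i.castSucc).subscheme :=
      { __ := ‹IsLocallyNoetherian (I i.castSucc).subscheme›, __ := ‹CompactSpace (I i.castSucc).subscheme› }
    exact isCompact_iff_compactSpace.1 (NoetherianSpace.isCompact _)
  choose m s hms using fun i : Fin r => exists_bounds_flat j hj q (jV i) hF (hflat i)
  refine ⟨∑ i, |m i|, Finset.univ.biUnion s, fun L hL => ?_⟩
  obtain ⟨t, ht, ⟨e⟩⟩ := hb L hL
  let x := t (IsLocalRing.closedPoint k)
  have hex : ∃ i : Fin r, x ∈ (I i.castSucc).support ∧ x ∉ (I i.succ).support := by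
    by_contra hne
    push Not at hne
    have hall : ∀ i : Fin (r + 1), x ∈ (I i).support := fun i => by
      induction i using Fin.induction with
      | zero => exact h0.ge (Set.mem_univ x)
      | succ i ih => exact hne i ih
    have := hall (Fin.last r)
    rw [hlast] at this
    rw [Scheme.IdealSheafData.support_top] at this
    exact Set.notMem_empty x this
  obtain ⟨i, hi, hi'⟩ := hex
  obtain ⟨t', htt⟩ := H23.RedSub.exists_lift t (jV i) (by
    rintro _ ⟨p, rfl⟩
    rw [Subsingleton.elim p (IsLocalRing.closedPoint k)]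
    have hi2 : x ∈ Set.range (I i.castSucc).subschemeι := by
      rw [Scheme.IdealSheafData.range_subschemeι]
      exact hi
    obtain ⟨z, hz⟩ := hi2
    refine ⟨⟨z, show (I i.castSucc).subschemeι z ∈ ((I i.succ).support : Set T)ᶜ from hz ▸ hi'⟩, ?_⟩
    exact hz)
  have hcL : Coh.IsCoh (Pic13.fibreMod k X q t ht F) := SheafHomX.isCoh_of_iso e.symm (hP L hL)
  obtain ⟨h1, φ, hφ, h2⟩ := hms i t ht t' htt hcL
  have hLc := hP L hL
  have h1' : Pic13.IsMRegular k j L (m i) := fun q' hq' =>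
    QCoh.subsingleton_HH_of_iso (twistOn_congr j e _).some q' (h1 q' hq')
  refine ⟨(S12111.result k n j L hLc _ h1' _ ((le_abs_self _).trans
    (Finset.single_le_sum (f := fun i => |m i|) (fun _ _ => abs_nonneg _) (Finset.mem_univ i)))).1,
    φ, Finset.mem_biUnion.2 ⟨i, Finset.mem_univ i, hφ⟩, fun d => ?_⟩
  rw [← h2 d]
  exact_mod_cast Finset.sum_congr rfl fun q' _ => by
    rw [HilbPoly.finrank_HH_iso k (twistOn_congr j e d).some q']

end Groth.Agent.Pic13Lib
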