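import Groth.Agent.Pic13Lib.NumCore
import Groth.Agent.AmpleVan.ThickPush
import Groth.Agent.S1647

/-!
# Numerically trivial modules on projective schemes pulled back to any proper scheme
-/

set_option linter.style.haveILetI false
set_option linter.unusedSectionVars false
set_option backward.isDefEq.respectTransparency false
set_option backward.isDefEq.respectTransparency.types false
set_option maxHeartbeats 1000000
set_option synthInstance.maxHeartbeats 200000

universe u

open CategoryTheory CategoryTheory.Limits AlgebraicGeometry TopologicalSpace Opposite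
open Groth.Agent.H23.PicMul

attribute [local instance] HasDerivedCategory.standard

noncomputable section

namespace Groth.Agent.Pic13Lib

open Groth.Agent

/-- Global generation is preserved by pullback. -/
theorem isGloballyGenerated_pullback {X Y : Scheme.{u}} (g : Y ⟶ X) {M : X.Modules}
    (h : Curv2.IsGloballyGenerated M) : Curv2.IsGloballyGenerated ((Scheme.Modules.pullback g).obj M) := by
  obtain ⟨ι, p, hp⟩ := h
  haveI := hp
  haveI : PreservesColimitsOfSize.{0, 0} (Scheme.Modules.pullback g) :=
    (Scheme.Modules.pullbackPushforwardAdjunction g).leftAdjoint_preservesColimits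
  let f : (SheafOfModules.free ι : Y.Modules) ≅ (Scheme.Modules.pullback g).obj (SheafOfModules.free ι) :=
    (SheafOfModules.pullbackObjFreeIso g.toRingCatSheafHom ι).symm
  exact ⟨ι, f.hom ≫ (Scheme.Modules.pullback g).map p, inferInstance⟩

/-- A globally generated invertible module on a curve has nonnegative degree. -/
theorem deg_nonneg_of_isGloballyGenerated {E : Type u} [Field E] {C : Scheme.{u}}
    [C.Over (Spec (CommRingCat.of E))] [IsIntegral C] [IsProper (C ↘ Spec (CommRingCat.of E))]
    (hdim : topologicalKrullDim C = 1) {L : C.Modules} (hL : PicF.IsInvertible L)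
    (h : Curv2.IsGloballyGenerated L) : 0 ≤ Curv2.deg E C L 1 := by
  obtain ⟨ι, p, hp⟩ := h
  haveI := hp
  by_cases hall : ∀ a : ι, SheafOfModules.ιFree a ≫ p = 0
  · exfalso
    have hp0 : p = 0 := Cofan.IsColimit.hom_ext (SheafOfModules.isColimitFreeCofan ι) _ _ fun a =>
      (hall a).trans comp_zero.symm
    have hz : IsZero L := by
      rw [IsZero.iff_id_eq_zero, ← cancel_epi p, hp0, zero_comp, zero_comp]
    obtain ⟨U, hU, e, he⟩ := InvX.exists_frame hL (genericPoint C)
    have h0 : e = 0 := by
      have h1 := congrArg (fun φ => Scheme.Modules.Hom.app φ U e) ((IsZero.iff_id_eq_zero L).1 hz)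
      exact h1
    have h1 : (1 : Γ(C, U)) = 0 := he.coord_unique le_rfl (by rw [h0, AModX.res_self, smul_zero, smul_zero])
    haveI : Nonempty U := ⟨⟨_, hU⟩⟩
    exact one_ne_zero h1
  · push Not at hall
    obtain ⟨a, ha⟩ := hall
    exact S1518.result E C hdim L hL (SheafOfModules.ιFree a ≫ p) ha

variable {k : Type u} [Field k] {n : ℕ} {X : Scheme.{u}} [X.Over (Spec (CommRingCat.of k))]
  [IsProper (X ↘ Spec (CommRingCat.of k))] (j : X ⟶ CohB1.ProjSpace n k) [IsClosedImmersion j]
  (hj : j ≫ CohB1.ProjSpace.toSpec n k = X ↘ Spec (CommRingCat.of k))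

include hj in
/-- A large twist of every numerically trivial module is globally generated. -/
theorem exists_isGloballyGenerated_twist :
    ∃ m : ℤ, ∀ L : X.Modules, NumTriv k L → Curv2.IsGloballyGenerated (Pic13.twistOn k j L m) := by
  haveI := isNoetherian j
  obtain ⟨m₀, hm₀⟩ := (good_of_isCoh j hj (M := Coh.structureModule X) QCoh.isCoh_structureModule').van
  refine ⟨m₀ + n, fun L hL => ?_⟩
  obtain ⟨u⟩ : Nonempty (CohB1.tensorMod (Coh.structureModule X) L ≅ L) :=
    cl_eq_iff.1 (by rw [cl_tensor, ← one_def, one_mul])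
  have hc : Coh.IsCoh (CohB1.tensorMod (Coh.structureModule X) L) :=
    AmpleVan.isCoh_tensor QCoh.isCoh_structureModule' (AmpleVan.isCoh_invertible hL.1)
  let M := CohB1.tensorMod (Coh.structureModule X) L
  obtain ⟨ι, p, hp⟩ := S1647.result k n _ (isCoh_push j hc) (m₀ + n) fun q hq hqn =>
    (subsingleton_twistOn_iff j hj hc _ q).1 (hm₀ L hL q hq _ (by omega))
  haveI := hp
  obtain ⟨e⟩ := push_twistOn j M (m₀ + n)
  obtain ⟨e'⟩ := twistOn_congr j u (m₀ + n)
  haveI := AmpleVan.isIso_counit j (isCoh_twistOn j hc (m₀ + n)).1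
  obtain ⟨ι', p', hp'⟩ := isGloballyGenerated_pullback j
    (M := (Scheme.Modules.pushforward j).obj (Pic13.twistOn k j M (m₀ + n))) ⟨ι, p ≫ e.hom, inferInstance⟩
  haveI := hp'
  exact ⟨ι', p' ≫ (Scheme.Modules.pullbackPushforwardAdjunction j).counit.app _ ≫ e'.hom, inferInstance⟩

include hj in
/-- The pullback of a numerically trivial module on a projective scheme along any morphism. -/
theorem NumTriv.pullback_of_projective {E : Type u} [Field E] {Y : Scheme.{u}}
    [Y.Over (Spec (CommRingCat.of E))] [IsProper (Y ↘ Spec (CommRingCat.of E))] (g : Y ⟶ X)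
    {L : X.Modules} (hL : NumTriv k L) : NumTriv E ((Scheme.Modules.pullback g).obj L) := by
  refine ⟨PicClLib.isInvertible_pullback g hL.1, (isNumEquivZero_iff (PicClLib.isInvertible_pullback g hL.1)).2
    fun T => ?_⟩
  obtain ⟨m, hm⟩ := exists_isGloballyGenerated_twist j hj
  let φ : X.Modules → ℤ := fun M => degOn E T ((Scheme.Modules.pullback g).obj M)
  have hφ : ∀ M M', PicF.IsInvertible M → PicF.IsInvertible M' → φ (CohB1.tensorMod M M') = φ M + φ M' :=
    fun M M' h h' => (degOn_congr T (H23.PicMul.pull g M M').some).trans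
      (degOn_tensor T (PicClLib.isInvertible_pullback g h) (PicClLib.isInvertible_pullback g h'))
  have hpos : ∀ P, NumTriv k P → 0 ≤ φ P + φ (hyp j m) := fun P hP => by
    rw [← hφ P _ hP.1 (isInvertible_hyp j m)]
    exact deg_nonneg_of_isGloballyGenerated T.dim
      (PicClLib.isInvertible_pullback T.c (PicClLib.isInvertible_pullback g
        (H23.PicMul.isInvertible_tensor hP.1 (isInvertible_hyp j m))))
      (isGloballyGenerated_pullback T.c (isGloballyGenerated_pullback g (hm P hP)))
  have hpow : ∀ (P : X.Modules), NumTriv k P → ∀ t : ℕ, 0 ≤ (t : ℤ) * φ P + φ (hyp j m) := fun P hP t => by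
    suffices h : ∃ Q, NumTriv k Q ∧ φ Q = t * φ P by
      obtain ⟨Q, hQ, hQe⟩ := h
      rw [← hQe]
      exact hpos Q hQ
    induction t with
    | zero =>
      refine ⟨_, numTriv_structure, ?_⟩
      obtain ⟨e⟩ := PicClLib.nonempty_pullback_structureModule g
      simpa using (degOn_congr T e).trans (degOn_structure T)
    | succ t ih =>
      obtain ⟨Q, hQ, hQe⟩ := ih
      exact ⟨_, hQ.tensor hP, by rw [hφ Q P hQ.1 hP.1, hQe]; push_cast; ring⟩
  obtain ⟨D, hD, ⟨e⟩⟩ := hL.exists_inverse
  have h0 : φ L + φ D = 0 := by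
    rw [← hφ L D hL.1 hD.1]
    obtain ⟨e'⟩ := PicClLib.nonempty_pullback_structureModule g
    exact (degOn_congr T ((Scheme.Modules.pullback g).mapIso e ≪≫ e')).trans (degOn_structure T)
  have hD' : φ D = -φ L := by omega
  show φ L = 0
  have a := hpow L hL ((φ (hyp j m)).toNat + 1)
  have b := hpow D hD ((φ (hyp j m)).toNat + 1)
  rw [hD'] at b
  have c := Int.self_le_toNat (φ (hyp j m))
  push_cast at a b
  rcases lt_trichotomy (φ L) 0 with h | h | h
  · nlinarith
  · exact h
  · nlinarith

end Groth.Agent.Pic13Lib
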