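import Groth.Agent.Pic13Lib.Twist

/-!
# Regularity descends from a section of `O(1)` on a closed subscheme of projective space
-/

set_option linter.style.haveILetI false
set_option linter.unusedSectionVars false
set_option backward.isDefEq.respectTransparency false
set_option backward.isDefEq.respectTransparency.types false
set_option maxHeartbeats 1000000
set_option synthInstance.maxHeartbeats 200000

universe u

open CategoryTheory CategoryTheory.Limits AlgebraicGeometry TopologicalSpace Opposite

attribute [local instance] HasDerivedCategory.standard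

noncomputable section

namespace Groth.Agent.Pic13Lib

open Groth.Agent

variable {k : Type u} [Field k] {n : ℕ} {X : Scheme.{u}} [X.Over (Spec (CommRingCat.of k))]
  (j : X ⟶ CohB1.ProjSpace n k) [IsClosedImmersion j]
  (hj : j ≫ CohB1.ProjSpace.toSpec n k = X ↘ Spec (CommRingCat.of k))

/-- All higher cohomology vanishes from the twist `m` on. -/
def Vanish (F : X.Modules) (m : ℤ) : Prop :=
  ∀ q : ℕ, 1 ≤ q → ∀ d : ℤ, m ≤ d → Subsingleton (Coh.HH X (Pic13.twistOn k j F d) q)

theorem Vanish.mono {F : X.Modules} {m m' : ℤ} (h : Vanish j F m) (hm : m ≤ m') : Vanish j F m' :=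
  fun q hq d hd => h q hq d (hm.trans hd)

/-- The pushed forward short exact sequence. -/
theorem shortExact_push {S : ShortComplex X.Modules} (hS : S.ShortExact) :
    (S.map (Scheme.Modules.pushforward j)).ShortExact := by
  haveI : PreservesFiniteColimits (Scheme.Modules.pushforward j) :=
    ⟨fun J _ _ => KFlatLib.preservesColimitsOfShape_push j J⟩
  exact hS.map_of_exact _

include hj in
theorem exists_setup {F G : X.Modules} (hF : Coh.IsCoh F) (hG : Coh.IsCoh G)
    (ι : Pic13.twistOn k j F (-1) ⟶ F) (π : F ⟶ G) (w : ι ≫ π = 0)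
    (hS : (ShortComplex.mk ι π w).ShortExact) {m : ℤ}
    (hm : ∀ q, 1 ≤ q → q ≤ n → Subsingleton (Coh.HH X (Pic13.twistOn k j G (m - q)) q)) :
    Nonempty (RegDescent.Setup (k := k) (n := n) ((Scheme.Modules.pushforward j).obj F)
      ((Scheme.Modules.pushforward j).obj G) m) := by
  obtain ⟨e⟩ := push_twistOn j F (-1)
  let P := Scheme.Modules.pushforward j
  have hw : (e.hom ≫ P.map ι) ≫ P.map π = 0 := by
    rw [Category.assoc, ← Functor.map_comp, w, Functor.map_zero, comp_zero]
  have hex : (ShortComplex.mk (e.hom ≫ P.map ι) (P.map π) hw).ShortExact := by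
    refine ShortComplex.shortExact_of_iso (S₁ := (ShortComplex.mk ι π w).map P)
      (ShortComplex.isoMk (S₁ := (ShortComplex.mk ι π w).map P)
        (S₂ := ShortComplex.mk (e.hom ≫ P.map ι) (P.map π) hw) e.symm (Iso.refl _) (Iso.refl _) ?_ ?_)
      (shortExact_push j hS)
    · exact (e.inv_hom_id_assoc (P.map ι)).trans (Category.comp_id _).symm
    · exact (Category.id_comp _).trans (Category.comp_id _).symm
  haveI := isProper j hj
  refine ⟨⟨e.hom ≫ P.map ι, P.map π, hw, hex, isCoh_push j hF, isCoh_push j hG, fun q hq hqn => ?_, fun d => ?_⟩⟩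
  · exact (subsingleton_twistOn_iff j hj hG (m - q) q).1 (hm q hq hqn)
  · haveI := S0002.result k X _ (isCoh_twistOn j hF d) 1
    exact Module.Finite.equiv (exists_twistEquiv j hj hF d 1).some

include hj in
/-- Vanishing in degrees at least two from a quotient by a twist. -/
theorem subsingleton_high_of_seq {F G : X.Modules} (hF : Coh.IsCoh F) (hG : Coh.IsCoh G)
    (ι : Pic13.twistOn k j F (-1) ⟶ F) (π : F ⟶ G) (w : ι ≫ π = 0)
    (hS : (ShortComplex.mk ι π w).ShortExact) {m : ℤ}
    (hm : ∀ q, 1 ≤ q → q ≤ n → Subsingleton (Coh.HH X (Pic13.twistOn k j G (m - q)) q))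
    (q : ℕ) (hq : 2 ≤ q) (d : ℤ) (hd : m - q ≤ d) :
    Subsingleton (Coh.HH X (Pic13.twistOn k j F d) q) :=
  (subsingleton_twistOn_iff j hj hF d q).2
    (RegDescent.subsingleton_high (exists_setup j hj hF hG ι π w hS hm).some q hq d hd)

include hj in
/-- Vanishing in degree one, with the bound by the dimension of the first group. -/
theorem subsingleton_one_of_seq {F G : X.Modules} (hF : Coh.IsCoh F) (hG : Coh.IsCoh G)
    (ι : Pic13.twistOn k j F (-1) ⟶ F) (π : F ⟶ G) (w : ι ≫ π = 0)
    (hS : (ShortComplex.mk ι π w).ShortExact) {m : ℤ}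
    (hm : ∀ q, 1 ≤ q → q ≤ n → Subsingleton (Coh.HH X (Pic13.twistOn k j G (m - q)) q))
    (d : ℤ) (hd : (m - 1) + (Module.finrank k (Coh.HH X (Pic13.twistOn k j F (m - 1)) 1) : ℤ) ≤ d) :
    Subsingleton (Coh.HH X (Pic13.twistOn k j F d) 1) := by
  refine (subsingleton_twistOn_iff j hj hF d 1).2
    (RegDescent.subsingleton_one (exists_setup j hj hF hG ι π w hS hm).some d ?_)
  show (m - 1) + (Module.finrank k (Coh.HH (CohB1.ProjSpace n k)
    ((RegEpi.twF (m - 1)).obj ((Scheme.Modules.pushforward j).obj F)) 1) : ℤ) ≤ d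
  rwa [← (exists_twistEquiv j hj hF (m - 1) 1).some.finrank_eq]

include hj in
/-- The dimension of the first group decreases. -/
theorem finrank_one_le_of_seq {F G : X.Modules} (hF : Coh.IsCoh F) (hG : Coh.IsCoh G)
    (ι : Pic13.twistOn k j F (-1) ⟶ F) (π : F ⟶ G) (w : ι ≫ π = 0)
    (hS : (ShortComplex.mk ι π w).ShortExact) {m : ℤ}
    (hm : ∀ q, 1 ≤ q → q ≤ n → Subsingleton (Coh.HH X (Pic13.twistOn k j G (m - q)) q))
    (d : ℤ) (hd : m - 1 ≤ d) :
    Module.finrank k (Coh.HH X (Pic13.twistOn k j F d) 1) ≤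
      Module.finrank k (Coh.HH X (Pic13.twistOn k j F (d - 1)) 1) := by
  rw [(exists_twistEquiv j hj hF d 1).some.finrank_eq, (exists_twistEquiv j hj hF (d - 1) 1).some.finrank_eq]
  exact RegDescent.h1_le (exists_setup j hj hF hG ι π w hS hm).some d hd

end Groth.Agent.Pic13Lib
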