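import Groth.Agent.Pic13Lib.HilbDeg
import Groth.Agent.Pic13Lib.NonVanish
import Groth.Agent.Pic13Lib.CurveSec
import Groth.Agent.IntNum47.NumInv
import Groth.Agent.CycLib.DivPushAll
import Groth.Agent.FlatDimHx.Basic
import Groth.Agent.HilbPoly.Pos
import Groth.Agent.Lib.CurveRR

/-!
# The degree of an effective divisor
-/

set_option autoImplicit false
set_option linter.style.haveILetI false
set_option linter.unusedSectionVars false
set_option backward.isDefEq.respectTransparency false
set_option backward.isDefEq.respectTransparency.types false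
set_option maxHeartbeats 1000000
set_option synthInstance.maxHeartbeats 200000

universe u

open CategoryTheory CategoryTheory.Limits AlgebraicGeometry TopologicalSpace Opposite
open Groth.Agent.H23.PicMul

attribute [local instance] HasDerivedCategory.standard

noncomputable section

namespace Groth.Agent.Pic13Lib

open Groth.Agent Groth.Agent.HilbPoly Groth.Agent.IntNum47

variable {X : Scheme.{u}}

/-- Krull: a point off the generating locus generalises to one of codimension at most one. -/
theorem exists_point_codim_le_one [IsLocallyNoetherian X] {N : X.Modules} (hN : PicF.IsInvertible N)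
    (s : Coh.structureModule X ⟶ N) {x : X} (hx : x ∉ CohB1.genLocus N s) :
    ∃ ζ : X, ζ ∉ CohB1.genLocus N s ∧ Order.coheight ζ ≤ 1 := by
  obtain ⟨W, hxW, e, he⟩ := InvX.exists_frame hN x
  obtain ⟨g, hg⟩ := he.exists_coord le_rfl (AModX.res N (le_top : W ≤ ⊤) (InvX.one s))
  rw [AModX.res_self] at hg
  have hgm : X.presheaf.germ W x hxW g ∈ IsLocalRing.maximalIdeal (X.presheaf.stalk x) := by
    refine (IsLocalRing.mem_maximalIdeal _).2 fun hu => hx ?_
    exact ((InvX.genLocus_inf s he hg).ge ((X.mem_basicOpen g x hxW).2 hu)).1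
  obtain ⟨p, hp, -⟩ := Ideal.exists_minimalPrimes_le ((Ideal.span_singleton_le_iff_mem _).2 hgm)
  haveI := hp.1.1
  let Q : PrimeSpectrum (X.presheaf.stalk x) := ⟨p, hp.1.1⟩
  let ζ := X.fromSpecStalk x Q
  have hsp : ζ ⤳ x := CDiv6.fromSpecStalk_specializes Q
  have hζW : ζ ∈ W := hsp.mem_open W.2 hxW
  refine ⟨ζ, fun hh => ?_, ?_⟩
  · have hu : IsUnit (X.presheaf.germ W ζ hζW g) :=
      (X.mem_basicOpen g ζ hζW).1 ((InvX.genLocus_inf s he hg).le ⟨hh, hζW⟩)
    have hgp : X.presheaf.germ W x hxW g ∈ (CDiv6.primeOf hsp).asIdeal := by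
      rw [show CDiv6.primeOf hsp = Q from CDiv6.primeOf_fromSpecStalk Q]
      exact hp.1.2 (Ideal.subset_span rfl)
    refine (CDiv6.mem_primeOf hsp _).1 hgp ?_
    erw [TopCat.Presheaf.germ_stalkSpecializes_apply]
    exact hu
  · rw [← CDiv6.height_primeOf hsp, show CDiv6.primeOf hsp = Q from CDiv6.primeOf_fromSpecStalk Q]
    exact Ideal.height_le_one_of_isPrincipal_of_mem_minimalPrimes _ p hp

variable (k : Type u) [Field k] [X.Over (Spec (CommRingCat.of k))]

/-- A point of codimension at most one in a variety has a closure of codimension at most one. -/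
theorem le_dim_closure_of_coheight_le_one [IsIntegral X] [LocallyOfFiniteType (X ↘ Spec (CommRingCat.of k))] {s : ℕ}
    (hdim : topologicalKrullDim X = (s + 1 : ℕ)) {ζ : X} (h : Order.coheight ζ ≤ 1) :
    (s : WithBot ℕ∞) ≤ topologicalKrullDim ↥(closure ({ζ} : Set X)) := by
  let c := X ↘ Spec (CommRingCat.of k)
  haveI : IsLocallyNoetherian X := LocallyOfFiniteType.isLocallyNoetherian c
  haveI : Subsingleton ↥(Spec (CommRingCat.of k)) := FibDim.subsingleton_spec_field k
  have hd := CycLib.isDimFun_of_deltaCompat c (CycLib.isSetup_spec_field k) (CycLib.deltaCompat_rd c)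
  have h1 := CycLib.ringKrullDim_stalk_eq hd ζ
  rw [ringKrullDim_stalk_eq_coheight] at h1
  have h2 : ((((FibDim.rd c (genericPoint X) : ℤ) - FibDim.rd c ζ).toNat : ℕ) : WithBot ℕ∞) ≤ 1 :=
    h1 ▸ (WithBot.coe_le_coe.2 h)
  have hη : FibDim.rd c (genericPoint X) = s + 1 := by
    have h := FlatDimHx.dim_irreducible k c
    rw [hdim] at h
    exact_mod_cast h.symm
  rw [FibDim.topologicalKrullDim_closure c ζ]
  rw [hη] at h2
  have h3 : (((s + 1 : ℕ) : ℤ) - FibDim.rd c ζ).toNat ≤ 1 := by exact_mod_cast h2
  exact_mod_cast (by omega : s ≤ FibDim.rd c ζ)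

variable [IsProper (X ↘ Spec (CommRingCat.of k))]

/-- Inverting the twisting module changes iterated differences by a sign. -/
theorem iterD_inverse {H H' : X.Modules} (hH : PicF.IsInvertible H) (hH' : PicF.IsInvertible H')
    (e : CohB1.tensorMod H H' ≅ Coh.structureModule X) : ∀ (r : ℕ) (pre : List X.Modules),
    (∀ A ∈ pre, PicF.IsInvertible A) → ∀ F : X.Modules, Coh.IsCoh F → DimLT F (pre.length + r + 1) →
    iterD (pre ++ List.replicate r H') (Curv2.euler k X) F =
      (-1) ^ r * iterD (pre ++ List.replicate r H) (Curv2.euler k X) F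
  | 0, pre, _, F, _, _ => by simp
  | r + 1, pre, hpre, F, hF, hd => by
    have hl : ∀ A ∈ pre ++ List.replicate r H', PicF.IsInvertible A := fun A hA =>
      (List.mem_append.1 hA).elim (hpre A) fun h => (List.eq_of_mem_replicate h) ▸ hH'
    have h1 := iterD_tensor_one k hH hH' hF hl (r := pre.length + r) (by simp)
      (lt_of_lt_of_le hd (Nat.cast_le.2 (by omega)))
    rw [iterD_congr_head (isoInv_euler k) e, iterD_structure (isoInv_euler k)] at h1
    have h2 : iterD (pre ++ List.replicate (r + 1) H') (Curv2.euler k X) F =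
        iterD (H' :: (pre ++ List.replicate r H')) (Curv2.euler k X) F :=
      iterD_perm (isoInv_euler k) (by rw [List.replicate_succ]; exact List.perm_middle) F
    have h3 := iterD_inverse hH hH' e r (H :: pre) (List.forall_mem_cons.2 ⟨hH, hpre⟩) F hF
      (by rwa [show (H :: pre).length + r + 1 = pre.length + (r + 1) + 1 by simp; omega])
    have h4 : iterD (pre ++ List.replicate (r + 1) H) (Curv2.euler k X) F =
        iterD (H :: (pre ++ List.replicate r H)) (Curv2.euler k X) F :=
      iterD_perm (isoInv_euler k) (by rw [List.replicate_succ]; exact List.perm_middle) F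
    rw [h2, h4, pow_succ]
    have h5 : iterD (H :: (pre ++ List.replicate r H')) (Curv2.euler k X) F =
        (-1) ^ r * iterD (H :: (pre ++ List.replicate r H)) (Curv2.euler k X) F := h3
    rw [h5] at h1
    linarith

/-- Intersection numbers of an ample class are positive on supports of top dimension. -/
theorem intNum_pos {H H' : X.Modules} (hH : CohB1.IsAmple H) (e : CohB1.tensorMod H H' ≅ Coh.structureModule X)
    {d : ℕ} (hd : topologicalKrullDim X ≤ d) {r : ℕ} {F : X.Modules} (hF : Coh.IsCoh F)
    (hr : topologicalKrullDim ↥(CohB1.support F) = (r : WithBot ℕ∞)) :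
    0 < FGA.intNum k X d (fun _ : Fin r => H') F := by
  haveI := CurveCohLib.isNoetherian_of_proper (k := k) (X := X)
  have hH' := IntNum47.isInvertible_of_inverse hH.1 e
  have hdl : DimLT F (([] : List X.Modules).length + r + 1) := by
    rw [List.length_nil, zero_add]; exact lt_succ_of_le hr.le
  have h := (mult_nonneg_and_pos k hH r F hF hr.le).2 hr
  rw [intNum_eq k hd (fun _ => hH') hF, List.ofFn_const]
  have h' := iterD_inverse k hH.1 hH' e r [] (by simp) F hF hdl
  simp only [List.nil_append] at h'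
  rw [h', ← mul_assoc, ← pow_add, ← two_mul, pow_mul, neg_one_sq, one_pow, one_mul]
  exact h

/-- An invertible module with a section and non-positive degree is trivial. -/
theorem isIso_of_intNum_nonpos [IsIntegral X] {s : ℕ} (hdim : topologicalKrullDim X = (s + 1 : ℕ))
    {H H' : X.Modules} (hH : CohB1.IsAmple H) (e : CohB1.tensorMod H H' ≅ Coh.structureModule X)
    {L L' : X.Modules} (hL : PicF.IsInvertible L) (eL : CohB1.tensorMod L L' ≅ Coh.structureModule X)
    (hdeg : FGA.intNum k X (s + 1) (Fin.cons L' (fun _ : Fin s => H')) (Coh.structureModule X) ≤ 0)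
    (σ : Coh.structureModule X ⟶ L) (hσ : σ ≠ 0) : IsIso σ := by
  haveI := CurveCohLib.isNoetherian_of_proper (k := k) (X := X)
  have hd := hdim.le
  refine isIso_of_genLocus_eq_top σ ?_
  by_contra hne
  obtain ⟨x, hx⟩ : ∃ x, x ∉ CohB1.genLocus L σ := by
    by_contra hall
    push Not at hall
    exact hne (eq_top_iff.2 fun x _ => hall x)
  obtain ⟨ζ, hζ, hζ1⟩ := exists_point_codim_le_one hL σ hx
  obtain ⟨⟨y, hy⟩⟩ := genLocus_nonempty hL hσ
  obtain ⟨U, hU, hyU⟩ : ∃ U : X.Opens, IsIso ((Scheme.Modules.restrictFunctor U.ι).map σ) ∧ y ∈ U :=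
    Opens.mem_sSup.1 hy
  haveI : IsIso ((Scheme.Modules.restrictFunctor U.ι).map σ) := hU
  have hηU : genericPoint X ∈ U := ((genericPoint_spec X).specializes (Set.mem_univ y)).mem_open U.2 hyU
  let O := Coh.structureModule X
  have hO : Coh.IsCoh O := QCoh.isCoh_structureModule'
  haveI := isIso_restrict_mulHom σ O (U := U)
  haveI : Mono (resUnit U O) := by
    haveI := mono_resUnit_push (𝟙 X) (U := U) hηU
    let θ : (Coh.push (𝟙 X)).obj O ≅ O := (Scheme.Modules.pushforwardId X).app O
    have hn : resUnit U O = θ.inv ≫ resUnit U ((Coh.push (𝟙 X)).obj O) ≫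
        (Scheme.Modules.pushforward U.ι).map ((Scheme.Modules.restrictFunctor U.ι).map θ.hom) := by
      rw [Iso.eq_inv_comp]
      exact (Scheme.Modules.restrictAdjunction U.ι).unit.naturality θ.hom
    rw [hn]
    infer_instance
  let P := CohB1.tensorMod O L
  haveI : Mono (mulHom σ O) := by
    haveI : Mono (mulHom σ O ≫ resUnit U P) := by
      have hn : mulHom σ O ≫ resUnit U P = resUnit U O ≫
          (Scheme.Modules.pushforward U.ι).map ((Scheme.Modules.restrictFunctor U.ι).map (mulHom σ O)) :=
        (Scheme.Modules.restrictAdjunction U.ι).unit.naturality (mulHom σ O)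
      rw [hn]
      exact mono_comp _ _
    exact mono_of_mono _ (resUnit U P)
  have hLc := AmpleVan.isCoh_invertible hL
  have hP : Coh.IsCoh P := AmpleVan.isCoh_tensor hO hLc
  let C := cokernel (mulHom σ O)
  have hC : Coh.IsCoh C := QCoh.isCoh_cokernel hO.1 hP _
  have hCcl := QCoh.isClosed_support_of_isFT hC.1 hC.2
  have hζC : ζ ∈ CohB1.support C := by
    refine mem_support_cokernel_mulHom hO hL σ ?_ hζ
    obtain ⟨W, hW, hζW⟩ := QCoh.exists_affine_mem ζ
    refine (QCoh.mem_support_iff QCoh.isQCoh_structureModule hW hζW).2 ⟨(1 : Γ(X, W)), fun a ha h0 => ?_⟩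
    change a * 1 = 0 at h0
    rw [mul_one] at h0
    subst h0
    rw [Scheme.basicOpen_zero] at ha
    exact ha
  have hηC : genericPoint X ∉ CohB1.support C :=
    notMem_support_of_isZero_restrict (isZero_restrict_cokernel U _) hηU
  have hCd : topologicalKrullDim ↥(CohB1.support C) = (s : WithBot ℕ∞) := by
    refine le_antisymm (le_of_lt_succ (dim_lt_closure (x := genericPoint X)
      (hdim ▸ topologicalKrullDim_subspace_le _ _) hCcl ?_ hηC)) ?_
    · rw [(genericPoint_spec X).def]; exact Set.subset_univ _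
    · exact (le_dim_closure_of_coheight_le_one k hdim hζ1).trans
        (H23.TopDim.dim_le_dim_of_subset (hCcl.closure_subset_iff.2 (Set.singleton_subset_iff.2 hζC)))
  have hH' := IntNum47.isInvertible_of_inverse hH.1 e
  have hL' := IntNum47.isInvertible_of_inverse hL eL
  let M : Fin s → X.Modules := fun _ => H'
  have hM : ∀ i, PicF.IsInvertible (M i) := fun _ => hH'
  have hpos : 0 < FGA.intNum k X (s + 1) M C := intNum_pos k hH e hd hC hCd
  have hadd : FGA.intNum k X (s + 1) M P = FGA.intNum k X (s + 1) M O + FGA.intNum k X (s + 1) M C :=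
    intNum_add k hd hM (S := ShortComplex.mk (mulHom σ O) (cokernel.π _) (cokernel.condition _))
      (.mk' (ShortComplex.exact_of_g_is_cokernel _ (cokernelIsCokernel _)) ‹_› inferInstance) hO hP hC
  let Mc : Fin (s + 1) → X.Modules := Fin.cons L' M
  have hMc : ∀ i, PicF.IsInvertible (Mc i) := Fin.forall_fin_succ.2 ⟨hL', hM⟩
  have hdlt : DimLT O (s + 2) := lt_succ_of_le ((topologicalKrullDim_subspace_le _ _).trans hd)
  have t1 := intNum_twist k hd (r := s + 1) (M := Mc) hMc hL hO hdlt
  have t2 := intNum_cons k hd hL' (r := s) (M := M) hM hP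
  obtain ⟨θ⟩ : Nonempty ((AmpleVan.tw L').obj P ≅ O) := cl_eq_iff.1 (by
    show PicF.cl (CohB1.tensorMod (CohB1.tensorMod O L) L') = _
    rw [cl_tensor, cl_tensor, ← H23.PicMul.one_def, one_mul, ← cl_tensor]
    exact cl_eq_iff.2 ⟨eL⟩)
  have t3 := intNum_congr_iso k hd (r := s) (M := M) hM
    (F := (AmpleVan.tw L').obj P) (G := O) (AmpleVan.isCoh_tensor hP (AmpleVan.isCoh_invertible hL')) hO θ
  change FGA.intNum k X (s + 1) Mc P = FGA.intNum k X (s + 1) Mc O at t1
  change FGA.intNum k X (s + 1) Mc P = _ at t2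
  change FGA.intNum k X (s + 1) Mc O ≤ 0 at hdeg
  linarith

end Groth.Agent.Pic13Lib
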