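import Groth.Agent.QCoh.RpushModel
import Groth.Agent.QCoh.BcT
import Groth.Agent.FlatCxLib.Rank
import Groth.Agent.FlatCxLib.Structure
import Groth.Agent.KFlatLib.Scheme.RpushQCoh

/-!
# The Euler characteristic of the fibres of a flat family is locally constant
-/

set_option linter.style.haveILetI false
set_option linter.unusedSectionVars false
set_option backward.isDefEq.respectTransparency false
set_option backward.isDefEq.respectTransparency.types false
set_option maxHeartbeats 1000000
set_option synthInstance.maxHeartbeats 200000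

universe u

open CategoryTheory CategoryTheory.Limits AlgebraicGeometry TopologicalSpace Opposite

noncomputable section

namespace Groth.Agent.Pic13Lib

open Groth.Agent Groth.Agent.FlatCxLib

section Cx

variable {A : Type u} [CommRing A] (P : ChainComplex (ModuleCat.{u} A) ℤ)

theorem dRank_eq_zero_of_T (q : ℤ) (h : ∀ N : ModuleCat.{u} A, IsZero (CohIII.T P q N))
    (x : PrimeSpectrum A) : CohIII.dRank P q x = 0 := by
  let φ := algebraMap A x.asIdeal.ResidueField
  obtain ⟨e⟩ := QCoh.nonempty_bcT_iso P φ q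
  let K := ModuleCat.of x.asIdeal.ResidueField x.asIdeal.ResidueField
  have h1 : IsZero ((forget₂ (ModuleCat.{u} x.asIdeal.ResidueField) AddCommGrpCat.{u}).obj
      ((CohIII.TFun (CohIII.bcCx φ P) q).obj K)) :=
    (Functor.map_isZero (forget₂ (ModuleCat.{u} A) AddCommGrpCat.{u})
      (h ((ModuleCat.restrictScalars φ).obj K))).of_iso (e.app K)
  haveI : Subsingleton ((CohIII.TFun (CohIII.bcCx φ P) q).obj K) := AddCommGrpCat.subsingleton_of_isZero h1
  have h2 : IsZero ((CohIII.bcCx φ P).homology q) :=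
    (ModuleCat.isZero_of_subsingleton ((CohIII.TFun (CohIII.bcCx φ P) q).obj K)).of_iso
      (tUnitIso (P := CohIII.bcCx φ P) q).symm
  haveI := ModuleCat.subsingleton_of_isZero h2
  exact Module.finrank_zero_of_subsingleton

theorem dRank_eq_zero_of_isZero (hfin : ∀ i, Module.Finite A (P.X i)) (q : ℤ) (h : IsZero (P.X q)) (x : PrimeSpectrum A) :
    CohIII.dRank P q x = 0 := by
  haveI : Subsingleton ((CohIII.bcCx (algebraMap A x.asIdeal.ResidueField) P).X q) :=
    ModuleCat.subsingleton_of_isZero ((ModuleCat.extendScalars (algebraMap A x.asIdeal.ResidueField)).map_isZero h)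
  haveI : Subsingleton ((CohIII.bcCx (algebraMap A x.asIdeal.ResidueField) P).sc q).X₂ := this
  have h2 : IsZero ((CohIII.bcCx (algebraMap A x.asIdeal.ResidueField) P).homology q) :=
    ShortComplex.isZero_homology_of_isZero_X₂ _ (ModuleCat.isZero_of_subsingleton _)
  haveI := ModuleCat.subsingleton_of_isZero h2
  exact Module.finrank_zero_of_subsingleton

/-- Two upper semicontinuous functions with locally constant sum. -/
theorem eventually_eq_of_add {T : Type*} [TopologicalSpace T] {a b : T → ℕ} (ha : UpperSemicontinuous a)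
    (hb : UpperSemicontinuous b) {x : T} (h : ∀ᶠ y in nhds x, a y + b y = a x + b x) :
    ∀ᶠ y in nhds x, a y = a x := by
  filter_upwards [ha x _ (Nat.lt_succ_self _), hb x _ (Nat.lt_succ_self _), h] with y h1 h2 h3
  omega

variable {P}

/-- The alternating sum of the fibre ranks of the homology is locally constant. -/
theorem eventually_sum_dRank (hfin : ∀ i, Module.Finite A (P.X i)) (hfree : ∀ i, Module.Free A (P.X i))
    {c : ℤ} (hc : ∀ i, i < c → IsZero (P.X i))
    (hT : ∀ q : ℤ, 0 < q → ∀ N : ModuleCat.{u} A, IsZero (CohIII.T P q N)) {d : ℕ} (hd : -(d : ℤ) < c)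
    (x : PrimeSpectrum A) :
    ∀ᶠ y in nhds x, ∑ p ∈ Finset.range d, (-1 : ℤ) ^ p * (CohIII.dRank P (-(p : ℤ)) y : ℤ) =
      ∑ p ∈ Finset.range d, (-1 : ℤ) ^ p * (CohIII.dRank P (-(p : ℤ)) x : ℤ) := by
  haveI := fun i => hfin i
  haveI := fun i => hfree i
  have hrk : ∀ i, ∀ᶠ y in nhds x, fibreRank (P.X i) y = fibreRank (P.X i) x := fun i => by
    haveI : Module.FinitePresentation A (P.X i) := Module.finitePresentation_of_projective A (P.X i)
    have h := (isLocallyConstant_fibreRank (A := A) (P.X i)).eventually_eq x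
    exact h
  let C : ℤ → PrimeSpectrum A → ℕ := fun i => fibreRank (Coker P i (i - 1))
  have hC : ∀ i, UpperSemicontinuous (C i) := fun i => upperSemicontinuous_fibreRank _
  have hadd : ∀ i y, CohIII.dRank P i y + fibreRank (P.X (i - 1)) y = C (i + 1) y + C i y := fun i y => by
    have h := dRank_add P hfin (show i + 1 = i + 1 from rfl) (show i - 1 + 1 = i by lia) y
    have e : ∀ j, j = i → fibreRank (Coker P (i + 1) j) y = fibreRank (Coker P (i + 1) i) y := by
      rintro j rfl; rfl
    simp only [C]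
    rw [e (i + 1 - 1) (by lia)]
    exact h
  have h1 : ∀ᶠ y in nhds x, C 1 y = C 1 x := by
    refine eventually_eq_of_add (hC 1) (hC 2) ?_
    filter_upwards [hrk 0] with y hy
    have a := hadd 1 y
    have b := hadd 1 x
    rw [dRank_eq_zero_of_T P 1 (hT 1 one_pos)] at a b
    have e : fibreRank (P.X (1 - 1)) y = fibreRank (P.X (1 - 1)) x := by
      rw [show (1 : ℤ) - 1 = 0 from rfl]; exact hy
    rw [show (1 : ℤ) + 1 = 2 from rfl] at a b
    omega
  have hlow : ∀ y, C (1 - (d : ℤ)) y = fibreRank (P.X (-(d : ℤ))) y ∧ fibreRank (P.X (-(d : ℤ))) y = 0 := by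
    intro y
    haveI : Subsingleton (P.X (-(d : ℤ))) := ModuleCat.subsingleton_of_isZero (hc _ hd)
    have h0 : ∀ (M : Type u) [AddCommGroup M] [Module A M] [Subsingleton M], fibreRank (A := A) M y = 0 :=
      fun M _ _ _ => by
        haveI : Subsingleton (TensorProduct A y.asIdeal.ResidueField M) :=
          subsingleton_of_forall_eq 0 fun t => by
            induction t using TensorProduct.induction_on with
            | zero => rfl
            | tmul a m => rw [Subsingleton.elim m 0, TensorProduct.tmul_zero]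
            | add a b ha hb => rw [ha, hb, add_zero]
        exact Module.finrank_zero_of_subsingleton
    haveI : Subsingleton (P.X (1 - (d : ℤ) - 1)) := by
      rw [show 1 - (d : ℤ) - 1 = -(d : ℤ) by ring]; infer_instance
    exact ⟨(h0 (Coker P (1 - (d : ℤ)) (1 - (d : ℤ) - 1))).trans (h0 _).symm, h0 _⟩
  have key : ∀ (e : ℕ) (y : PrimeSpectrum A),
      ∑ p ∈ Finset.range e, (-1 : ℤ) ^ p * (CohIII.dRank P (-(p : ℤ)) y : ℤ) =
        (C 1 y : ℤ) - (-1) ^ e * (C (1 - (e : ℤ)) y : ℤ) -
          ∑ p ∈ Finset.range e, (-1 : ℤ) ^ p * (fibreRank (P.X (-(p : ℤ) - 1)) y : ℤ) := by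
    intro e y
    induction e with
    | zero => simp
    | succ e ih =>
      rw [Finset.sum_range_succ, Finset.sum_range_succ, ih]
      have h := hadd (-(e : ℤ)) y
      rw [show -(e : ℤ) + 1 = 1 - (e : ℤ) by ring] at h
      rw [show (1 : ℤ) - ((e + 1 : ℕ) : ℤ) = -(e : ℤ) by push_cast; ring, pow_succ]
      have h' : (CohIII.dRank P (-(e : ℤ)) y : ℤ) = (C (1 - (e : ℤ)) y : ℤ) + C (-(e : ℤ)) y -
          fibreRank (P.X (-(e : ℤ) - 1)) y := by omega
      rw [h']
      ring
  have hall : ∀ᶠ y in nhds x, ∀ p ∈ Finset.range d,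
      fibreRank (P.X (-(p : ℤ) - 1)) y = fibreRank (P.X (-(p : ℤ) - 1)) x :=
    (Finset.eventually_all _).2 fun p _ => hrk _
  filter_upwards [h1, hall] with y hy hy'
  rw [key, key, hy, (hlow y).1, (hlow y).2, (hlow x).1, (hlow x).2,
    Finset.sum_congr rfl fun p hp => by rw [hy' p hp]]

end Cx

variable {X S : Scheme.{u}} (f : X ⟶ S) [IsProper f] [IsLocallyNoetherian S]

/-- The Euler characteristic of the fibres, with the sum long enough, is locally constant. -/
theorem exists_eventually_euler_fibre {M : X.Modules} (hM : Coh.IsCoh M) (hfl : FlatMod.IsFlatOver f M) (y : S) :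
    ∃ d₀ : ℕ, ∀ᶠ z in nhds y, ∀ d, d₀ ≤ d →
      ∑ p ∈ Finset.range d, (-1 : ℤ) ^ p * (CohIII.fiberRank f M p z : ℤ) =
        ∑ p ∈ Finset.range d, (-1 : ℤ) ^ p * (CohIII.fiberRank f M p y : ℤ) := by
  haveI : HasInjectiveResolutions X.Modules := KFlatLib.hasInjectiveResolutions_modules
  obtain ⟨_, ⟨V, hV, rfl⟩, hyV, -⟩ :=
    S.isBasis_affineOpens.exists_subset_of_mem_open (Set.mem_univ y) isOpen_univ
  obtain ⟨P, hfin, hfree, ⟨c, hc⟩, hT, -, hfib⟩ := QCoh.exists_isLocalModel hM hfl hV
  refine ⟨(1 - c).toNat, ?_⟩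
  have h := eventually_sum_dRank hfin hfree hc hT (d := (1 - c).toNat) (by omega) (hV.primeIdealOf ⟨y, hyV⟩)
  have hcont : Continuous fun z : V => hV.primeIdealOf z := by
    show Continuous fun z : V => hV.isoSpec.hom z
    exact hV.isoSpec.hom.continuous
  have h2 := (hcont.tendsto (⟨y, hyV⟩ : V)).eventually h
  rw [nhds_subtype_eq_comap, Filter.eventually_comap] at h2
  filter_upwards [h2, V.2.mem_nhds hyV] with z hz hzV
  intro d hd
  have hz' := hz ⟨z, hzV⟩ rfl
  have hvan : ∀ w (hw : w ∈ V), ∑ p ∈ Finset.range d, (-1 : ℤ) ^ p * (CohIII.fiberRank f M p w : ℤ) =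
      ∑ p ∈ Finset.range (1 - c).toNat, (-1 : ℤ) ^ p * (CohIII.dRank P (-(p : ℤ)) (hV.primeIdealOf ⟨w, hw⟩) : ℤ) :=
    fun w hw => by
      rw [Finset.sum_congr rfl fun p _ => by rw [(hfib p w hw).1]]
      refine (Finset.sum_subset (Finset.range_mono hd) fun p _ hp => ?_).symm
      rw [dRank_eq_zero_of_isZero P hfin _ (hc _ (by simp at hp; omega)), Nat.cast_zero, mul_zero]
  rw [hvan z hzV, hvan y hyV, hz']

end Groth.Agent.Pic13Lib
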