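import Groth.Agent.Pic13Lib.NumSeq
import Groth.Agent.HilbPoly.Pos
import Groth.Agent.AmpleVan.Iter
import Groth.Agent.AssPtX.Noeth
import Groth.Agent.AssPtX.Basic
import Mathlib.LinearAlgebra.Eigenspace.Triangularizable

/-!
# Multiplication by two sections avoiding the associated points
-/

set_option autoImplicit false
set_option linter.style.haveILetI false
set_option linter.unusedSectionVars false
set_option backward.isDefEq.respectTransparency false
set_option backward.isDefEq.respectTransparency.types false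
set_option maxHeartbeats 1000000
set_option synthInstance.maxHeartbeats 200000

universe u

open CategoryTheory CategoryTheory.Limits AlgebraicGeometry TopologicalSpace Opposite
open Groth.Agent.H23.PicMul

attribute [local instance] HasDerivedCategory.standard

noncomputable section

namespace Groth.Agent.Pic13Lib

open Groth.Agent Groth.Agent.AmpleVan InvX
open Groth.Agent.PnCoh.Finite (mapLin)

variable {X : Scheme.{u}} {F N : X.Modules}

theorem map_tmul_right {M N N' : X.Modules} (φ : N ⟶ N') {U : X.Opens} (a : Γ(M, U)) (b : Γ(N, U)) :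
    ((DCoh.tensorBi.obj M).map φ).app U (tmul a b) = tmul a (φ.app U b) := by
  have h := KFlatLib.unitShP_naturality
    (MonoidalCategory.whiskerLeft (DCoh.toP.obj M) (DCoh.toP.map φ))
  exact congr(($h).app (op U) (KFlatLib.tm a b)).symm

/-- The two multiplications by a section agree. -/
theorem mulHom_ofSect (σ : Γ(N, ⊤)) (M : X.Modules) :
    HilbPoly.mulHom (InvX.ofSect σ) M = mulSec σ M := by
  refine QCoh.hom_ext_app fun U t => ?_
  show ((DCoh.tensorBi.obj M).map (InvX.ofSect σ)).app U ((twUnit.inv.app M).app U t) = _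
  rw [unit_inv_app, map_tmul_right]
  show tmul t _ = tmul t (AModX.res N (le_top : U ≤ ⊤) σ)
  refine congrArg (tmul t) ?_
  refine (InvX.app_eq_smul (InvX.ofSect σ) (1 : Γ(X, U))).trans ?_
  rw [one_smul, InvX.one_ofSect]

/-- Multiplication by a section generating at the associated points is injective. -/
theorem mono_mulSec (hF : Coh.IsQCoh F) (σ : Γ(N, ⊤))
    (h : ∀ x : X, Curv2.IsAssPoint F x → ∃ V : X.Opens, x ∈ V ∧ IsFrame (AModX.res N (le_top : V ≤ ⊤) σ)) :
    Mono (mulSec σ F) := by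
  refine QCoh.mono_of_app_injective _ fun U => (injective_iff_map_eq_zero _).2 fun s hs => ?_
  refine AssPtX.eq_zero_of_germ hF s fun y hy hya => ?_
  obtain ⟨V, hyV, hV⟩ := h y (AssPtX.isAssPoint_iff.2 hya)
  haveI : IsIso ((Scheme.Modules.restrictFunctor V.ι).map (InvX.ofSect σ)) :=
    (InvX.isIso_restrict_iff _ V).2 (by rw [InvX.one_ofSect]; exact hV)
  haveI := HilbPoly.isIso_restrict_mulHom (InvX.ofSect σ) F (U := V)
  rw [mulHom_ofSect] at *
  haveI : IsIso ((Scheme.Modules.restrictFunctor V.ι).map (mulSec σ F)) := by assumption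
  have hiso := Scheme.Modules.Hom.isIso_iff_isIso_app.1
    (inferInstance : IsIso ((Scheme.Modules.restrictFunctor V.ι).map (mulSec σ F))) (V.ι ⁻¹ᵁ U)
  have hinj : Function.Injective ((mulSec σ F).app (V.ι ''ᵁ (V.ι ⁻¹ᵁ U))) :=
    ((ConcreteCategory.isIso_iff_bijective _).1 hiso).1
  have hle : V.ι ''ᵁ (V.ι ⁻¹ᵁ U) ≤ U := V.ι.image_preimage_le U
  have hyW : y ∈ V.ι ''ᵁ (V.ι ⁻¹ᵁ U) := by
    rw [V.ι.image_preimage_eq_opensRange_inf, Scheme.Opens.opensRange_ι]; exact ⟨hyV, hy⟩
  have hres : AModX.res F hle s = 0 := hinj (by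
    rw [map_zero, AModX.app_res, show (mulSec σ F).app U s = 0 from hs]
    exact map_zero _)
  rw [← germ_res' hle hyW s, hres, map_zero]

/-- Multiplication by a global function. -/
def scalarEnd (M : X.Modules) (r : Coh.Γtop X) : M ⟶ M :=
  ⟨PresheafOfModules.homMk (Coh.smulAb M r).hom (fun U a m => by
    exact smul_comm (show Γ(X, U.unop) from Coh.resTop X U r) (show Γ(X, U.unop) from a)
      (show Γ(M, U.unop) from m))⟩

theorem scalarEnd_app (M : X.Modules) (r : Coh.Γtop X) (U : X.Opens) (m : Γ(M, U)) :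
    (scalarEnd M r).app U m = AModX.resR (le_top : U ≤ ⊤) (show Γ(X, ⊤) from r) • m := rfl

/-- `F ⊗ g`. -/
def tmapR (F : X.Modules) {A B : X.Modules} (g : A ⟶ B) : CohB1.tensorMod F A ⟶ CohB1.tensorMod F B :=
  (DCoh.tensorBi.obj F).map g

/-- `g ⊗ D`. -/
def tmapL (D : X.Modules) {A B : X.Modules} (g : A ⟶ B) : CohB1.tensorMod A D ⟶ CohB1.tensorMod B D :=
  (tw D).map g

theorem tmapR_app (F : X.Modules) {A B : X.Modules} (g : A ⟶ B) {U : X.Opens} (m : Γ(F, U)) (b : Γ(A, U)) :
    (tmapR F g).app U (tmul m b) = tmul m (g.app U b) := map_tmul_right g m b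

theorem tmapL_app (D : X.Modules) {A B : X.Modules} (g : A ⟶ B) {U : X.Opens} (a : Γ(A, U)) (d : Γ(D, U)) :
    (tmapL D g).app U (tmul a d) = tmul (g.app U a) d := map_tmul_left g a d

theorem mono_tmapR (F : X.Modules) {A B : X.Modules} (g : A ⟶ B) [IsIso g] : Mono (tmapR F g) := by
  unfold tmapR; infer_instance

theorem mono_tmapL {D : X.Modules} (hD : PicF.IsInvertible D) {A B : X.Modules} (g : A ⟶ B) [Mono g] :
    Mono (tmapL D g) := by
  haveI := AmpleVan.isEquivalence_tw hD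
  unfold tmapL; infer_instance

/-- The reassociation. -/
def reassoc (F N D : X.Modules) :
    CohB1.tensorMod (CohB1.tensorMod F N) D ⟶ CohB1.tensorMod F (CohB1.tensorMod N D) :=
  (assocT F N D).hom

/-- The map `F ⊗ D ⟶ F ⊗ E` given by a section of `N` and `N ⊗ D ≅ E`. -/
def cutMap (F : X.Modules) {N D E : X.Modules} (ε : CohB1.tensorMod N D ≅ E) (σ : Γ(N, ⊤)) :
    CohB1.tensorMod F D ⟶ CohB1.tensorMod F E :=
  tmapL D (mulSec σ F) ≫ reassoc F N D ≫ tmapR F ε.hom

theorem mono_cutMap {D : X.Modules} (hD : PicF.IsInvertible D) {E : X.Modules} (ε : CohB1.tensorMod N D ≅ E)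
    (σ : Γ(N, ⊤)) [Mono (mulSec σ F)] : Mono (cutMap F ε σ) := by
  haveI := mono_tmapL hD (mulSec σ F)
  haveI := mono_tmapR F ε.hom
  haveI : Mono (reassoc F N D) := inferInstanceAs (Mono (assocT F N D).hom)
  unfold cutMap
  exact mono_comp _ _

theorem cutMap_app {N D E : X.Modules} (ε : CohB1.tensorMod N D ≅ E) (σ : Γ(N, ⊤)) {U : X.Opens}
    (m : Γ(F, U)) (d : Γ(D, U)) : (cutMap F ε σ).app U (tmul m d) =
      tmul m (ε.hom.app U (tmul (AModX.res N (le_top : U ≤ ⊤) σ) d)) := by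
  show (tmapR F ε.hom).app U ((reassoc F N D).app U ((tmapL D (mulSec σ F)).app U (tmul m d))) = _
  rw [tmapL_app]
  refine (congrArg ((tmapR F ε.hom).app U) (?_ : _ = tmul m (tmul (AModX.res N (le_top : U ≤ ⊤) σ) d))).trans
    (tmapR_app F ε.hom m _)
  rw [mulSec_app]
  exact assoc_tmul m _ d

theorem tmul_add_right' {M N : X.Modules} {U : X.Opens} (a : Γ(M, U)) (b b' : Γ(N, U)) :
    tmul a (b + b') = tmul a b + tmul a b' :=
  (congrArg _ (KFlatLib.tm_add_right a b b')).trans (map_add _ _ _)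

/-- The cut map is linear in the section. -/
theorem cutMap_add_smul {N D E : X.Modules} (ε : CohB1.tensorMod N D ≅ E) (σ τ : Γ(N, ⊤)) (r : Coh.Γtop X) :
    cutMap F ε (σ + (show Γ(X, ⊤) from r) • τ) =
      cutMap F ε σ + cutMap F ε τ ≫ scalarEnd _ r := by
  refine hom_ext_tmul fun U m d => ?_
  refine (cutMap_app ε _ m d).trans ?_
  show _ = (cutMap F ε σ).app U (tmul m d) + (scalarEnd _ r).app U ((cutMap F ε τ).app U (tmul m d))
  have hr : AModX.res N (le_top : U ≤ ⊤) (σ + (show Γ(X, ⊤) from r) • τ) =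
      AModX.res N le_top σ + AModX.resR (le_top : U ≤ ⊤) (show Γ(X, ⊤) from r) • AModX.res N le_top τ :=
    (map_add (AModX.res N (le_top : U ≤ ⊤)) _ _).trans (congrArg _ (AModX.res_smul _ _ _))
  refine Eq.trans ?_ (congrArg₂ (· + ·) (cutMap_app ε σ m d).symm
    ((scalarEnd_app _ r U _).trans (congrArg (AModX.resR (le_top : U ≤ ⊤) (show Γ(X, ⊤) from r) • ·)
      (cutMap_app ε τ m d))).symm)
  rw [hr, tmul_add_left, tmul_smul_left]
  refine (congrArg (tmul m) (map_add (ε.hom.app U).hom _ _)).trans ((tmul_add_right' m _ _).trans (congrArg _ ?_))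
  rw [Scheme.Modules.Hom.app_smul, tmul_smul_right]

variable (k : Type u) [Field k] [IsAlgClosed k] [X.Over (Spec (CommRingCat.of k))]
  [IsProper (X ↘ Spec (CommRingCat.of k))]

theorem mapLin_scalarEnd (M : X.Modules) (c : k) (x : Coh.HH X M 0) :
    mapLin k (scalarEnd M (Coh.toGlobal (X ↘ Spec (CommRingCat.of k)) c)) 0 x = c • x := by
  show Sheaf.H.map ((QCoh.toAbFunctor X).map (scalarEnd M _)) 0 x = Sheaf.H.map (Coh.smulAb M _) 0 x
  rfl

/-- A section generating at the associated points does not increase the sections. -/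
theorem finrank_le_of_section (hF : Coh.IsCoh F) {D E : X.Modules} (hD : PicF.IsInvertible D)
    (hE : PicF.IsInvertible E) (ε : CohB1.tensorMod N D ≅ E) (τ : Γ(N, ⊤))
    (hτ : ∀ x : X, Curv2.IsAssPoint F x → ∃ V : X.Opens, x ∈ V ∧ IsFrame (AModX.res N (le_top : V ≤ ⊤) τ)) :
    Module.finrank k (Coh.HH X (CohB1.tensorMod F D) 0) ≤ Module.finrank k (Coh.HH X (CohB1.tensorMod F E) 0) := by
  haveI := CurveCohLib.isNoetherian_of_proper (k := k) (X := X)
  haveI : Module.Finite k (Coh.HH X (CohB1.tensorMod F E) 0) :=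
    S0002.result k X _ (AmpleVan.isCoh_tensor hF (AmpleVan.isCoh_invertible hE)) 0
  haveI := mono_mulSec hF.1 τ hτ
  haveI : Mono (cutMap F ε τ) := mono_cutMap hD ε τ
  exact LinearMap.finrank_le_finrank_of_injective (LinearMap.ker_eq_bot.1 (Euler.ker_mapLin_f_zero k
    (S := ShortComplex.mk (cutMap F ε τ) (cokernel.π _) (cokernel.condition _))
    (.mk' (ShortComplex.exact_of_g_is_cokernel _ (cokernelIsCokernel _)) inferInstance inferInstance)))

/-- Two sections whose pencil avoids the associated points make the sections drop. -/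
theorem finrank_add_one_le_of_pencil (hF : Coh.IsCoh F) (hN : PicF.IsInvertible N) {D E : X.Modules}
    (hD : PicF.IsInvertible D) (ε : CohB1.tensorMod N D ≅ E) (σ τ : Γ(N, ⊤))
    (hτ : ∀ x : X, Curv2.IsAssPoint F x → ∃ V : X.Opens, x ∈ V ∧ IsFrame (AModX.res N (le_top : V ≤ ⊤) τ))
    (hpen : ∀ c : k, ∀ x : X, Curv2.IsAssPoint F x → ∃ V : X.Opens, x ∈ V ∧
      IsFrame (AModX.res N (le_top : V ≤ ⊤)
        (σ + (show Γ(X, ⊤) from Coh.toGlobal (X ↘ Spec (CommRingCat.of k)) c) • τ)))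
    (h0 : 1 ≤ Module.finrank k (Coh.HH X (CohB1.tensorMod F E) 0)) :
    Module.finrank k (Coh.HH X (CohB1.tensorMod F D) 0) + 1 ≤
      Module.finrank k (Coh.HH X (CohB1.tensorMod F E) 0) := by
  haveI := CurveCohLib.isNoetherian_of_proper (k := k) (X := X)
  have hE : PicF.IsInvertible E := H23.PicMul.isInvertible_of_iso ε (H23.PicMul.isInvertible_tensor hN hD)
  have hA : Coh.IsCoh (CohB1.tensorMod F D) := AmpleVan.isCoh_tensor hF (AmpleVan.isCoh_invertible hD)
  have hB : Coh.IsCoh (CohB1.tensorMod F E) := AmpleVan.isCoh_tensor hF (AmpleVan.isCoh_invertible hE)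
  haveI : Module.Finite k (Coh.HH X (CohB1.tensorMod F D) 0) := S0002.result k X _ hA 0
  haveI : Module.Finite k (Coh.HH X (CohB1.tensorMod F E) 0) := S0002.result k X _ hB 0
  haveI := AmpleVan.isEquivalence_tw hD
  have hinj : ∀ ρ : Γ(N, ⊤), (∀ x : X, Curv2.IsAssPoint F x →
      ∃ V : X.Opens, x ∈ V ∧ IsFrame (AModX.res N (le_top : V ≤ ⊤) ρ)) →
      Function.Injective (mapLin k (cutMap F ε ρ) 0) := fun ρ hρ => by
    haveI := mono_mulSec hF.1 ρ hρ
    haveI : Mono (cutMap F ε ρ) := mono_cutMap hD ε ρ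
    exact LinearMap.ker_eq_bot.1 (Euler.ker_mapLin_f_zero k
      (S := ShortComplex.mk (cutMap F ε ρ) (cokernel.π _) (cokernel.condition _))
      (.mk' (ShortComplex.exact_of_g_is_cokernel _ (cokernelIsCokernel _)) inferInstance inferInstance))
  have hle := LinearMap.finrank_le_finrank_of_injective (hinj τ hτ)
  by_contra hlt
  have heq : Module.finrank k (Coh.HH X (CohB1.tensorMod F D) 0) =
      Module.finrank k (Coh.HH X (CohB1.tensorMod F E) 0) := by omega
  let μ := LinearEquiv.ofBijective (mapLin k (cutMap F ε τ) 0)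
    ⟨hinj τ hτ, (LinearMap.injective_iff_surjective_of_finrank_eq_finrank heq).1 (hinj τ hτ)⟩
  haveI : Nontrivial (Coh.HH X (CohB1.tensorMod F D) 0) :=
    Module.nontrivial_of_finrank_pos (R := k) (by omega)
  obtain ⟨c, hc⟩ := Module.End.exists_eigenvalue (μ.symm.toLinearMap ∘ₗ mapLin k (cutMap F ε σ) 0)
  obtain ⟨v, hv⟩ := hc.exists_hasEigenvector
  have h1 : mapLin k (cutMap F ε σ) 0 v = c • mapLin k (cutMap F ε τ) 0 v := by
    have h := congrArg μ hv.apply_eq_smul
    rw [map_smul] at h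
    simp only [LinearMap.comp_apply, LinearEquiv.coe_coe, LinearEquiv.apply_symm_apply] at h
    exact h
  refine hv.2 (hinj _ (hpen (-c)) ?_)
  rw [map_zero, cutMap_add_smul]
  show Sheaf.H.map ((QCoh.toAbFunctor X).map (cutMap F ε σ + cutMap F ε τ ≫ scalarEnd _ _)) 0 v = 0
  rw [Functor.map_add, Functor.map_comp, Sheaf.H.map_add_apply, Sheaf.H.map_comp_apply]
  show mapLin k (cutMap F ε σ) 0 v +
    mapLin k (scalarEnd _ (Coh.toGlobal (X ↘ Spec (CommRingCat.of k)) (-c))) 0 (mapLin k (cutMap F ε τ) 0 v) = 0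
  rw [h1, mapLin_scalarEnd, neg_smul, add_neg_cancel]

end Groth.Agent.Pic13Lib
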