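import Groth.Agent.Pic13Lib.EulerIff
import Groth.Agent.Pic13Lib.ProjNum
import Groth.Agent.Pic13Lib.JointEmb
import Groth.Agent.CurveBC.Coh
import Groth.Agent.H23.RedSub
import Groth.Agent.QCoh.RpushStalk

/-!
# Numerical triviality and extensions of the ground field
-/

set_option linter.style.haveILetI false
set_option linter.unusedSectionVars false
set_option backward.isDefEq.respectTransparency false
set_option backward.isDefEq.respectTransparency.types false
set_option maxHeartbeats 1000000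
set_option synthInstance.maxHeartbeats 200000

universe u

open CategoryTheory CategoryTheory.Limits AlgebraicGeometry TopologicalSpace Opposite
open Groth.Agent.H23.PicMul

attribute [local instance] HasDerivedCategory.standard

noncomputable section

namespace Groth.Agent.Pic13Lib

open Groth.Agent

/-- Isomorphisms over an open pull back. -/
theorem isIso_fst_restrict {Z Z' Y : Scheme.{u}} (g : Y ⟶ Z) (π : Z' ⟶ Z) (U : Z.Opens) [IsIso (π ∣_ U)] :
    IsIso (pullback.fst g π ∣_ g ⁻¹ᵁ U) := by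
  let π₁ := pullback.fst g π
  have h1 : IsPullback ((π₁ ⁻¹ᵁ (g ⁻¹ᵁ U)).ι ≫ pullback.snd g π) (π₁ ∣_ g ⁻¹ᵁ U) π ((g ⁻¹ᵁ U).ι ≫ g) :=
    (isPullback_morphismRestrict π₁ (g ⁻¹ᵁ U)).flip.paste_horiz (IsPullback.of_hasPullback g π).flip
  rw [← morphismRestrict_ι g U] at h1
  have h2 : IsPullback (π ⁻¹ᵁ U).ι (π ∣_ U) π U.ι := (isPullback_morphismRestrict π U).flip
  have hw : ((π₁ ⁻¹ᵁ (g ⁻¹ᵁ U)).ι ≫ pullback.snd g π) ≫ π = ((π₁ ∣_ g ⁻¹ᵁ U) ≫ (g ∣_ U)) ≫ U.ι :=
    h1.w.trans (Category.assoc _ _ _).symm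
  have h3 : IsPullback (h2.lift _ _ hw) (π₁ ∣_ g ⁻¹ᵁ U) (π ∣_ U) (g ∣_ U) :=
    IsPullback.of_right (by rw [h2.lift_fst]; exact h1) (h2.lift_snd _ _ hw) h2
  exact MorphismProperty.of_isPullback (P := MorphismProperty.isomorphisms Scheme.{u}) h3
    (inferInstance : IsIso (π ∣_ U))

variable {k : Type u} [Field k] {X : Scheme.{u}} [X.Over (Spec (CommRingCat.of k))]
  [IsProper (X ↘ Spec (CommRingCat.of k))] {E : Type u} [Field E] [Algebra k E] {X' : Scheme.{u}}
  [X'.Over (Spec (CommRingCat.of E))] [IsProper (X' ↘ Spec (CommRingCat.of E))] (g : X' ⟶ X)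
  (hpb : IsPullback g (X' ↘ Spec (CommRingCat.of E)) (X ↘ Spec (CommRingCat.of k))
    (Spec.map (CommRingCat.ofHom (algebraMap k E))))

include hpb

/-- Numerical triviality ascends to a field extension. -/
theorem NumTriv.baseChange {L : X.Modules} (hL : NumTriv k L) :
    NumTriv E ((Scheme.Modules.pullback g).obj L) := by
  haveI : IsLocallyNoetherian X' := LocallyOfFiniteType.isLocallyNoetherian (X' ↘ Spec (CommRingCat.of E))
  haveI : CompactSpace X' := QuasiCompact.compactSpace_of_compactSpace (X' ↘ Spec (CommRingCat.of E))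
  haveI : IsNoetherian X' := { __ := ‹IsLocallyNoetherian X'›, __ := ‹CompactSpace X'› }
  have hLi := PicClLib.isInvertible_pullback g hL.1
  refine ⟨hLi, (isNumEquivZero_iff_euler hLi).2 fun F hF d hd => ?_⟩
  rw [eulerLE_eq_euler hd (AmpleVan.isCoh_tensor hF (AmpleVan.isCoh_invertible hLi)).1,
    eulerLE_eq_euler hd hF.1]
  refine sub_eq_zero.1 (dEuler_eq_zero_of_gen hLi Set.univ (fun η _ _ Z₁ i₁ _ _ _ => ?_) hF (Set.subset_univ _))
  letI : Z₁.Over (Spec (CommRingCat.of E)) := ⟨i₁ ≫ X' ↘ Spec (CommRingCat.of E)⟩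
  haveI : IsProper (Z₁ ↘ Spec (CommRingCat.of E)) := inferInstanceAs (IsProper (i₁ ≫ X' ↘ Spec (CommRingCat.of E)))
  obtain ⟨Z, i, hi, hZ, hr, -⟩ := ConsPropLib.exists_integral_closure (g (i₁ (genericPoint Z₁)))
  letI : Z.Over (Spec (CommRingCat.of k)) := ⟨i ≫ X ↘ Spec (CommRingCat.of k)⟩
  haveI : IsProper (Z ↘ Spec (CommRingCat.of k)) := inferInstanceAs (IsProper (i ≫ X ↘ Spec (CommRingCat.of k)))
  obtain ⟨g₀, hg₀⟩ := H23.RedSub.exists_lift_closed (i₁ ≫ g) i (by
    rintro _ ⟨z, rfl⟩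
    rw [hr]
    exact ((genericPoint_specializes z).map (i₁ ≫ g).continuous).mem_closure)
  have hgen : g₀ (genericPoint Z₁) = genericPoint Z := by
    refine i.isClosedEmbedding.injective ?_
    have h1 : i (g₀ (genericPoint Z₁)) = g (i₁ (genericPoint Z₁)) := by
      rw [← Scheme.Hom.comp_apply, hg₀]
      rfl
    have h2 : i (genericPoint Z) = g (i₁ (genericPoint Z₁)) :=
      (inseparable_iff_closure_eq.2 ((QCoh.range_eq_closure i).symm.trans hr)).eq
    exact h1.trans h2.symm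
  have hLZ := hL.pullback i rfl
  obtain ⟨N, Z', π, p, -, hp, hpf, hπ, U, hU, hiso⟩ :=
    PnCoh.Chow.chow_integral (Z ↘ Spec (CommRingCat.of k))
  haveI := hp; haveI := hπ; haveI := hiso
  letI : Z'.Over (Spec (CommRingCat.of k)) := ⟨π ≫ Z ↘ Spec (CommRingCat.of k)⟩
  haveI : IsProper (Z' ↘ Spec (CommRingCat.of k)) := inferInstanceAs (IsProper (π ≫ Z ↘ Spec (CommRingCat.of k)))
  have hLZ' := hLZ.pullback π rfl
  let π₁ := pullback.fst g₀ π
  let pr := pullback.snd g₀ π
  let q := π₁ ≫ Z₁ ↘ Spec (CommRingCat.of E)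
  let ψ := pr ≫ p
  letI : (Limits.pullback g₀ π).Over (Spec (CommRingCat.of E)) := ⟨q⟩
  haveI : IsProper ((Limits.pullback g₀ π) ↘ Spec (CommRingCat.of E)) :=
    inferInstanceAs (IsProper (π₁ ≫ Z₁ ↘ Spec (CommRingCat.of E)))
  haveI : IsProper q := inferInstanceAs (IsProper (π₁ ≫ Z₁ ↘ Spec (CommRingCat.of E)))
  have hjoint : ∀ {T : Scheme.{u}} (a b : T ⟶ Limits.pullback g₀ π), a ≫ ψ = b ≫ ψ → a ≫ q = b ≫ q → a = b :=
    fun {T} a b h1 h2 => by
      have hs : a ≫ pr = b ≫ pr := by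
        rw [← cancel_mono p, Category.assoc, Category.assoc]; exact h1
      refine pullback.hom_ext ?_ hs
      rw [← cancel_mono i₁]
      refine hpb.hom_ext ?_ ?_
      · simp only [Category.assoc]
        rw [← hg₀]
        have hc : π₁ ≫ g₀ = pr ≫ π := pullback.condition
        rw [reassoc_of% hc, reassoc_of% hs]
      · simp only [Category.assoc]
        exact h2
  have hc : ψ ≫ CohB1.ProjSpace.toSpec N k = q ≫ Spec.map (CommRingCat.ofHom (algebraMap k E)) := by
    have hcd : π₁ ≫ g₀ = pr ≫ π := pullback.condition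
    show (pr ≫ p) ≫ _ = (π₁ ≫ i₁ ≫ X' ↘ Spec (CommRingCat.of E)) ≫ _
    rw [Category.assoc, hpf, Category.assoc, Category.assoc, ← hpb.w, ← Category.assoc i₁ g, ← hg₀,
      Category.assoc, reassoc_of% hcd]
    rfl
  let p₁ := PnCoh.Chow.relMap ψ q
  haveI : IsClosedImmersion p₁ := isClosedImmersion_relMap_of_joint ψ q hjoint (algebraMap k E) hc
  have hp₁ : p₁ ≫ CohB1.ProjSpace.toSpec N E = π₁ ≫ Z₁ ↘ Spec (CommRingCat.of E) := PnCoh.Chow.relMap_toSpec ψ q
  have hgenU : genericPoint Z₁ ∈ g₀ ⁻¹ᵁ U := by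
    show g₀ (genericPoint Z₁) ∈ U
    rw [hgen]
    exact ((genericPoint_spec Z).mem_open_set_iff U.2).2 (by obtain ⟨u⟩ := hU; exact ⟨u.1, trivial, u.2⟩)
  haveI : Nonempty (g₀ ⁻¹ᵁ U).toScheme := ⟨⟨_, hgenU⟩⟩
  haveI : IsIso (π₁ ∣_ g₀ ⁻¹ᵁ U) := isIso_fst_restrict g₀ π U
  refine exists_chow_module π₁ p₁ hp₁ (g₀ ⁻¹ᵁ U) (PicClLib.isInvertible_pullback i₁ hLi) ?_
  let e : (Scheme.Modules.pullback π₁).obj ((Scheme.Modules.pullback i₁).obj ((Scheme.Modules.pullback g).obj L)) ≅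
      (Scheme.Modules.pullback pr).obj ((Scheme.Modules.pullback π).obj ((Scheme.Modules.pullback i).obj L)) :=
    (Scheme.Modules.pullback π₁).mapIso ((Scheme.Modules.pullbackComp i₁ g).app L ≪≫
      (Scheme.Modules.pullbackCongr hg₀.symm).app L ≪≫ ((Scheme.Modules.pullbackComp g₀ i).app L).symm) ≪≫
    (Scheme.Modules.pullbackComp π₁ g₀).app _ ≪≫
    (Scheme.Modules.pullbackCongr pullback.condition).app _ ≪≫
    ((Scheme.Modules.pullbackComp pr π).app _).symm
  exact (hLZ'.pullback_of_projective p hpf pr).of_iso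
    (PicClLib.isInvertible_pullback π₁ (PicClLib.isInvertible_pullback i₁ hLi)) e.symm

/-- Numerical triviality descends along a field extension. -/
theorem numTriv_of_baseChange {L : X.Modules} (hL : PicF.IsInvertible L)
    (h : Pic13.IsNumEquivZero E X' ((Scheme.Modules.pullback g).obj L)) : Pic13.IsNumEquivZero k X L := by
  haveI : IsLocallyNoetherian X := LocallyOfFiniteType.isLocallyNoetherian (X ↘ Spec (CommRingCat.of k))
  haveI : CompactSpace X := QuasiCompact.compactSpace_of_compactSpace (X ↘ Spec (CommRingCat.of k))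
  haveI : X.IsSeparated := ⟨by
    rw [← terminal.comp_from (X ↘ Spec (CommRingCat.of k))]
    exact MorphismProperty.comp_mem @IsSeparated _ _ inferInstance inferInstance⟩
  haveI : IsLocallyNoetherian X' := LocallyOfFiniteType.isLocallyNoetherian (X' ↘ Spec (CommRingCat.of E))
  refine (isNumEquivZero_iff_euler hL).2 fun F hF d hd => ?_
  have hFL : Coh.IsCoh (CohB1.tensorMod F L) := AmpleVan.isCoh_tensor hF (AmpleVan.isCoh_invertible hL)
  rw [eulerLE_eq_euler hd hFL.1, eulerLE_eq_euler hd hF.1, ← CurveBC.euler_eq k E g hpb _ hFL.1,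
    ← CurveBC.euler_eq k E g hpb _ hF.1]
  have hFg : Coh.IsCoh ((Scheme.Modules.pullback g).obj F) := ⟨QCoh.isQCoh_pullback g hF.1, QCoh.isFT_pullback g hF.1 hF.2⟩
  rw [(HilbPoly.additive_euler E).iso _ _ (H23.PicMul.pull g F L)]
  exact sub_eq_zero.1 (dEuler_eq_zero ⟨PicClLib.isInvertible_pullback g hL, h⟩ hFg)

end Groth.Agent.Pic13Lib
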