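import Groth.Agent.Algz7.PullbackFormal
import Groth.Agent.QCoh.Support
import Groth.Agent.AmpleVan.Tw
import Groth.Agent.AmpleVan.Vanish
import Groth.Prelude.Def_KLin
import Groth.Prelude.Def_Pic13

/-!
# Bounded families: cokernels of the maps between two fixed modules, and operations
-/

set_option autoImplicit false
set_option linter.style.haveILetI false
set_option linter.unusedSectionVars false
set_option backward.isDefEq.respectTransparency false
set_option backward.isDefEq.respectTransparency.types false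
set_option maxHeartbeats 1000000
set_option synthInstance.maxHeartbeats 200000

universe u

open CategoryTheory CategoryTheory.Limits AlgebraicGeometry TopologicalSpace Opposite

attribute [local instance] HasDerivedCategory.standard

noncomputable section

namespace Groth.Agent.Pic13Lib

open Groth.Agent

theorem toGlobal_spec_map {X : Scheme.{u}} {A B : Type u} [CommRing A] [CommRing B] (f : X ⟶ Spec (CommRingCat.of B))
    (φ : A →+* B) (a : A) :
    Coh.toGlobal (f ≫ Spec.map (CommRingCat.ofHom φ)) a = Coh.toGlobal f (φ a) := by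
  show (f ≫ Spec.map (CommRingCat.ofHom φ)).appTop ((Scheme.ΓSpecIso (CommRingCat.of A)).inv a) =
    f.appTop ((Scheme.ΓSpecIso (CommRingCat.of B)).inv (φ a))
  rw [Scheme.Hom.comp_appTop, CommRingCat.comp_apply]
  exact congrArg _ congr($(Scheme.ΓSpecIso_inv_naturality (CommRingCat.ofHom φ)) a).symm

theorem pullback_smulMod' {R : Type u} [CommRing R] {X P : Scheme.{u}} [P.Over (Spec (CommRingCat.of R))]
    (s : X ⟶ P) (M : P.Modules) (a : R) :
    (Scheme.Modules.pullback s).map (Formal.smulMod R M a) =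
      Formal.smulModΓ ((Scheme.Modules.pullback s).obj M) (Coh.toGlobal (s ≫ P ↘ Spec (CommRingCat.of R)) a) := by
  letI : X.Over (Spec (CommRingCat.of R)) := ⟨s ≫ P ↘ Spec (CommRingCat.of R)⟩
  exact Algz7.pullback_smulMod s rfl M a

variable (k : Type u) [Field k] (X : Scheme.{u}) [X.Over (Spec (CommRingCat.of k))]

/-- Fibres of a cokernel are cokernels of the fibres. -/
def cokernelFibreIso {P : Scheme.{u}} (s : X ⟶ P) {A B : P.Modules} (Φ : A ⟶ B) :
    (Scheme.Modules.pullback s).obj (cokernel Φ) ≅ cokernel ((Scheme.Modules.pullback s).map Φ) :=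
  haveI : PreservesColimitsOfSize.{0, 0} (Scheme.Modules.pullback s) :=
    (Scheme.Modules.pullbackPushforwardAdjunction s).leftAdjoint_preservesColimits
  PreservesCokernel.iso (Scheme.Modules.pullback s) Φ

theorem sliceAt_fst {T : Scheme.{u}} (q : T ⟶ Spec (CommRingCat.of k)) (t : Spec (CommRingCat.of k) ⟶ T)
    (ht : t ≫ q = 𝟙 _) :
    Pic13.sliceAt k X q t ht ≫ pullback.fst (X ↘ Spec (CommRingCat.of k)) q = 𝟙 X :=
  pullback.lift_fst _ _ _

theorem sliceAt_snd {T : Scheme.{u}} (q : T ⟶ Spec (CommRingCat.of k)) (t : Spec (CommRingCat.of k) ⟶ T)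
    (ht : t ≫ q = 𝟙 _) :
    Pic13.sliceAt k X q t ht ≫ pullback.snd (X ↘ Spec (CommRingCat.of k)) q =
      (X ↘ Spec (CommRingCat.of k)) ≫ t :=
  pullback.lift_snd _ _ _

/-- The pullback from `X` to `X ×_k T`, restricted to a slice, is the identity. -/
def fibreFstIso {T : Scheme.{u}} (q : T ⟶ Spec (CommRingCat.of k)) (t : Spec (CommRingCat.of k) ⟶ T)
    (ht : t ≫ q = 𝟙 _) :
    Scheme.Modules.pullback (pullback.fst (X ↘ Spec (CommRingCat.of k)) q) ⋙
      Scheme.Modules.pullback (Pic13.sliceAt k X q t ht) ≅ 𝟭 X.Modules :=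
  Scheme.Modules.pullbackComp (Pic13.sliceAt k X q t ht) (pullback.fst (X ↘ Spec (CommRingCat.of k)) q) ≪≫
    Scheme.Modules.pullbackCongr (sliceAt_fst k X q t ht) ≪≫ Scheme.Modules.pullbackId X

theorem isNoetherian_prodK [LocallyOfFiniteType (X ↘ Spec (CommRingCat.of k))]
    [QuasiCompact (X ↘ Spec (CommRingCat.of k))] {T : Scheme.{u}} (q : T ⟶ Spec (CommRingCat.of k))
    [LocallyOfFiniteType q] [QuasiCompact q] : IsNoetherian (Pic13.prodK k X q) := by
  haveI : IsLocallyNoetherian (Pic13.prodK k X q) := LocallyOfFiniteType.isLocallyNoetherian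
    (pullback.snd (X ↘ Spec (CommRingCat.of k)) q ≫ q)
  haveI : CompactSpace (Pic13.prodK k X q) := QuasiCompact.compactSpace_of_compactSpace
    (pullback.snd (X ↘ Spec (CommRingCat.of k)) q ≫ q)
  exact { __ := ‹IsLocallyNoetherian (Pic13.prodK k X q)›, __ := ‹CompactSpace (Pic13.prodK k X q)› }

variable [LocallyOfFiniteType (X ↘ Spec (CommRingCat.of k))] [QuasiCompact (X ↘ Spec (CommRingCat.of k))]

/-- The cokernels of the maps between two fixed coherent modules form a bounded family. -/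
theorem isBounded_coker {A B : X.Modules} (hA : Coh.IsCoh A) (hB : Coh.IsCoh B) [Module.Finite k (A ⟶ B)] :
    Pic13.IsBounded k X (fun F => ∃ φ : A ⟶ B, Nonempty (cokernel φ ≅ F)) := by
  classical
  obtain ⟨r, f, hf⟩ := Module.Finite.exists_fin (R := k) (M := A ⟶ B)
  let R := MvPolynomial (ULift.{u} (Fin r)) k
  let q : Spec (CommRingCat.of R) ⟶ Spec (CommRingCat.of k) :=
    Spec.map (CommRingCat.ofHom (MvPolynomial.C : k →+* R))
  haveI : LocallyOfFiniteType q := by
    rw [HasRingHomProperty.Spec_iff (P := @LocallyOfFiniteType)]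
    exact RingHom.finiteType_algebraMap.2 (inferInstance : Algebra.FiniteType k R)
  let P := Pic13.prodK k X q
  letI : P.Over (Spec (CommRingCat.of R)) := ⟨pullback.snd (X ↘ Spec (CommRingCat.of k)) q⟩
  let pr : P ⟶ X := pullback.fst (X ↘ Spec (CommRingCat.of k)) q
  let g : Fin r → ((Scheme.Modules.pullback pr).obj A ⟶ (Scheme.Modules.pullback pr).obj B) := fun j =>
    (Scheme.Modules.pullback pr).map (f j) ≫ Formal.smulMod R _ (MvPolynomial.X ⟨j⟩)
  haveI := isNoetherian_prodK k X q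
  refine ⟨_, q, inferInstance, inferInstance, cokernel (∑ j, g j),
    QCoh.isCoh_cokernel (ZClosLib.isCoh_pullback pr hA).1 (ZClosLib.isCoh_pullback pr hB) _, ?_⟩
  rintro F ⟨φ, ⟨e⟩⟩
  obtain ⟨c, hc⟩ := (Submodule.mem_span_range_iff_exists_fun k).1 (hf ▸ Submodule.mem_top : φ ∈ Submodule.span k (Set.range f))
  let ev : R →+* k := MvPolynomial.eval fun i => c i.down
  let t : Spec (CommRingCat.of k) ⟶ Spec (CommRingCat.of R) := Spec.map (CommRingCat.ofHom ev)
  have ht : t ≫ q = 𝟙 _ := by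
    rw [← Spec.map_comp, ← Spec.map_id]
    congr 1
    ext a
    exact MvPolynomial.eval_C a
  let s := Pic13.sliceAt k X q t ht
  have hev : ∀ j : Fin r, Coh.toGlobal (s ≫ P ↘ Spec (CommRingCat.of R)) (MvPolynomial.X ⟨j⟩ : R) =
      Coh.toGlobal (X ↘ Spec (CommRingCat.of k)) (c j) := fun j => by
    refine (congrArg (fun h => Coh.toGlobal h (MvPolynomial.X ⟨j⟩ : R)) (sliceAt_snd k X q t ht)).trans ?_
    rw [toGlobal_spec_map]
    exact congrArg _ (MvPolynomial.eval_X _)
  let η := fibreFstIso k X q t ht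
  have hΦ : (Scheme.Modules.pullback s).map (∑ j, g j) ≫ η.hom.app B = η.hom.app A ≫ φ := by
    rw [Functor.map_sum, Preadditive.sum_comp, ← hc, Preadditive.comp_sum]
    refine Finset.sum_congr rfl fun j _ => ?_
    rw [Functor.map_comp, Category.assoc, pullback_smulMod' s, hev, ← KLin.comp_smulModΓ]
    refine ((Category.assoc _ _ _).symm.trans (congrArg (fun h => h ≫ Formal.smulModΓ B _) (η.hom.naturality (f j)))).trans ?_
    rw [Category.assoc, KLin.comp_smulModΓ]
    rfl
  exact ⟨t, ht, ⟨cokernelFibreIso X s _ ≪≫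
    cokernel.mapIso _ φ (η.app A) (η.app B) hΦ ≪≫ e⟩⟩

/-- A bounded family stays bounded after twisting by a fixed invertible module. -/
theorem isBounded_tensor {P : X.Modules → Prop} (hP : Pic13.IsBounded k X P) {N : X.Modules}
    (hN : PicF.IsInvertible N) :
    Pic13.IsBounded k X (fun G => ∃ F, P F ∧ Nonempty (CohB1.tensorMod F N ≅ G)) := by
  obtain ⟨T, q, hq, hq', F, hF, h⟩ := hP
  let pr := pullback.fst (X ↘ Spec (CommRingCat.of k)) q
  haveI := isNoetherian_prodK k X q
  refine ⟨T, q, hq, hq', CohB1.tensorMod F ((Scheme.Modules.pullback pr).obj N),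
    AmpleVan.isCoh_tensor hF (AmpleVan.isCoh_invertible (PicClLib.isInvertible_pullback pr hN)), ?_⟩
  rintro G ⟨F₀, hF₀, ⟨e⟩⟩
  obtain ⟨t, ht, ⟨e₁⟩⟩ := h F₀ hF₀
  obtain ⟨p⟩ := H23.PicMul.pull (Pic13.sliceAt k X q t ht) F ((Scheme.Modules.pullback pr).obj N)
  refine ⟨t, ht, ⟨p ≪≫ ?_ ≪≫ e⟩⟩
  exact ((DCoh.tensorBi (X := X)).mapIso e₁).app _ ≪≫
    ((DCoh.tensorBi (X := X)).obj F₀).mapIso ((fibreFstIso k X q t ht).app N)

theorem isBounded_mono {P Q : X.Modules → Prop} (h : ∀ F, Q F → P F) (hP : Pic13.IsBounded k X P) :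
    Pic13.IsBounded k X Q := by
  obtain ⟨T, q, hq, hq', F, hF, hh⟩ := hP
  exact ⟨T, q, hq, hq', F, hF, fun L hL => hh L (h L hL)⟩

end Groth.Agent.Pic13Lib
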