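import Groth.Agent.Lib.RegEpiPn
import Groth.Agent.Lib.RegDescent
import Groth.Agent.PnCoh.Chow.RelEmb

/-!
# Uniform presentations of regular sheaves on projective space
-/

set_option autoImplicit false
set_option linter.style.haveILetI false
set_option linter.unusedSectionVars false
set_option backward.isDefEq.respectTransparency false
set_option backward.isDefEq.respectTransparency.types false
set_option maxHeartbeats 1000000
set_option synthInstance.maxHeartbeats 200000

universe u

open CategoryTheory CategoryTheory.Limits AlgebraicGeometry TopologicalSpace Opposite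
open Groth.Agent.PnCoh.Finite Groth.Agent.ProjRegular Groth.Agent.RegEpi

attribute [local instance] HasDerivedCategory.standard

noncomputable section

namespace Groth.Agent.Pic13Lib

open Groth.Agent

section Gen

variable {k : Type u} [Field k] {X : Scheme.{u}} [X.Over (Spec (CommRingCat.of k))]

theorem finite_hom_structure (G : X.Modules) [Module.Finite k (Coh.HH X G 0)] :
    Module.Finite k (Coh.structureModule X ⟶ G) :=
  Module.Finite.equiv (LinearEquiv.ofBijective _ (evalOneLin_bijective k G)).symm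

/-- At most `N` sections generate `H⁰`, and the module if it is globally generated. -/
theorem exists_sigma_hom_le (G : X.Modules) [Module.Finite k (Coh.HH X G 0)] {N : ℕ}
    (hN : Module.finrank k (Coh.structureModule X ⟶ G) ≤ N) :
    ∃ ψ : (∐ fun _ : Fin N => Coh.structureModule X) ⟶ G,
      Function.Surjective (Canon.HHlin k ψ 0) ∧ (Curv2.IsGloballyGenerated G → Epi ψ) := by
  classical
  haveI := finite_hom_structure (k := k) G
  obtain ⟨b, ψ, hs, hg⟩ := exists_sigma_hom k G
  let β := Module.finBasis k (Coh.structureModule X ⟶ G)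
  let w : Fin N → (Coh.structureModule X ⟶ G) := fun i => if h : i.1 < _ then β ⟨i.1, h⟩ else 0
  have hw : Submodule.span k (Set.range w) = ⊤ := by
    refine top_le_iff.1 (β.span_eq.ge.trans (Submodule.span_mono ?_))
    rintro _ ⟨i, rfl⟩
    exact ⟨⟨i.1, lt_of_lt_of_le i.2 hN⟩, dif_pos i.2⟩
  have h1 : ∀ φ : Coh.structureModule X ⟶ G, ∃ σ : Coh.structureModule X ⟶ ∐ fun _ : Fin N => Coh.structureModule X,
      σ ≫ Sigma.desc w = φ := fun φ => by
    obtain ⟨c, hc⟩ := Submodule.mem_span_range_iff_exists_fun k |>.1 (hw ▸ Submodule.mem_top : φ ∈ Submodule.span k (Set.range w))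
    refine ⟨∑ i, c i • Sigma.ι (fun _ : Fin N => Coh.structureModule X) i, ?_⟩
    rw [Preadditive.sum_comp, ← hc]
    exact Finset.sum_congr rfl fun i _ => by rw [Linear.smul_comp, Sigma.ι_desc]
  choose σ hσ using h1
  have hfac : (Sigma.desc fun a => σ (Sigma.ι (fun _ : Fin b => Coh.structureModule X) a ≫ ψ)) ≫ Sigma.desc w = ψ :=
    Sigma.hom_ext _ _ fun a => by rw [← Category.assoc, Sigma.ι_desc, hσ]
  refine ⟨Sigma.desc w, fun x => ?_, fun hG => ?_⟩
  · obtain ⟨y, rfl⟩ := hs x
    refine ⟨Canon.HHlin k (Sigma.desc fun a => σ (Sigma.ι (fun _ : Fin b => Coh.structureModule X) a ≫ ψ)) 0 y, ?_⟩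
    rw [PnDual.HHlin_comp, hfac]
  · haveI := hg hG
    exact epi_of_epi_fac hfac

theorem finite_hom_sigma {M : X.Modules} [Module.Finite k (Coh.structureModule X ⟶ M)] (b : ℕ) :
    Module.Finite k ((∐ fun _ : Fin b => Coh.structureModule X) ⟶ M) := by
  let l : ((∐ fun _ : Fin b => Coh.structureModule X) ⟶ M) →ₗ[k] (Fin b → (Coh.structureModule X ⟶ M)) :=
    LinearMap.pi fun a => Linear.leftComp k M (Sigma.ι (fun _ : Fin b => Coh.structureModule X) a)
  exact Module.Finite.of_injective l fun φ φ' h => Sigma.hom_ext _ _ fun a => congrFun h a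

theorem finrank_hom_le_of_mono {M M' : X.Modules} (f : M ⟶ M') [Mono f]
    [Module.Finite k (Coh.structureModule X ⟶ M')] :
    Module.finrank k (Coh.structureModule X ⟶ M) ≤ Module.finrank k (Coh.structureModule X ⟶ M') :=
  LinearMap.finrank_le_finrank_of_injective (f := Linear.rightComp k (Coh.structureModule X) f)
    fun _ _ h => (cancel_mono f).1 h

theorem finrank_hom_structure (G : X.Modules) :
    Module.finrank k (Coh.structureModule X ⟶ G) = Module.finrank k (Coh.HH X G 0) :=
  (LinearEquiv.ofBijective _ (evalOneLin_bijective k G)).finrank_eq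

end Gen

section Pn

variable {k : Type u} [Field k] {n : ℕ}

local notation "ℙn" => Proj (CohB1.polyGrading n k)
local notation "Ptw" => Twist.twist (CohB1.polyGrading n k)

variable [(Proj (CohB1.polyGrading n k)).Over (Spec (CommRingCat.of k))] [IsProper ((Proj (CohB1.polyGrading n k)) ↘ Spec (CommRingCat.of k))]

theorem finite_HH_pn {G : (Proj (CohB1.polyGrading n k)).Modules} (hG : Coh.IsCoh G) (q : ℕ) : Module.Finite k (Coh.HH ℙn G q) :=
  S0002.result k ℙn G hG q

/-- The evaluation kernel of a `0`-regular sheaf is `1`-regular. -/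
theorem reg0_kernel {G : (Proj (CohB1.polyGrading n k)).Modules} (hR : Reg0 (𝒜 := CohB1.polyGrading n k) G) {b : ℕ}
    (ψ : (∐ fun _ : Fin b => Coh.structureModule ℙn) ⟶ G) [Epi ψ]
    (hs : Function.Surjective (Canon.HHlin k ψ 0)) :
    Reg0 (𝒜 := CohB1.polyGrading n k) ((twF 1).obj (kernel ψ)) := by
  intro i hi
  obtain ⟨ec⟩ := twF_twF_iso (kernel ψ) 1 (-(i : ℤ)) (1 - (i : ℤ)) (by ring)
  refine QCoh.subsingleton_HH_of_iso ec.symm i ?_
  let S : ShortComplex (Proj (CohB1.polyGrading n k)).Modules :=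
    ShortComplex.mk (kernel.ι ψ) ψ (kernel.condition ψ)
  have hS : S.ShortExact :=
    { exact := ShortComplex.exact_of_f_is_kernel _ (kernelIsKernel ψ) }
  rcases Nat.lt_or_ge i 2 with h2 | h2
  · obtain rfl : i = 1 := by omega
    obtain ⟨e0⟩ := twF_zero_iso (k := k) (n := n) (kernel ψ)
    rw [show (1 : ℤ) - (1 : ℕ) = 0 by norm_num]
    refine QCoh.subsingleton_HH_of_iso e0.symm 1 ?_
    refine subsingleton_of_forall_eq 0 fun x => ?_
    obtain ⟨φ⟩ := RegEpi.unitIso (k := k) (n := n)
    have h1 : Subsingleton (Coh.HH ℙn (∐ fun _ : Fin b => Coh.structureModule ℙn) 1) :=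
      subsingleton_HH_sigma _ 1 fun _ =>
        QCoh.subsingleton_HH_of_iso φ.symm 1 (S0844.result k n 0 1 (fun h => by omega) (fun h => by omega))
    obtain ⟨y, rfl⟩ := (PnDual.HHlin_f_eq_zero_iff (k := k) hS 0 x).1 (h1.elim _ _)
    obtain ⟨z, rfl⟩ := hs y
    exact LinearMap.mem_ker.1 (LinearMap.mem_ker.2 ((QCoh.Ab.connecting_eq_zero_iff
      (X := (Proj (CohB1.polyGrading n k)).toPresheafedSpace.carrier) (QCoh.toAb_shortExact hS) 0 _).2 ⟨z, rfl⟩))
  · have hS' := shortExact_twistBy (coords k n) coords_mem coords_cover (1 - (i : ℤ)) hS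
    obtain ⟨q, rfl⟩ : ∃ q, i = q + 1 := ⟨i - 1, by omega⟩
    refine subsingleton_of_forall_eq 0 fun x => ?_
    obtain ⟨e1⟩ := twF_sigma_unit_iso (k := k) (n := n) b (1 - ((q + 1 : ℕ) : ℤ))
    have h1 : Subsingleton (Coh.HH ℙn ((twF (1 - ((q + 1 : ℕ) : ℤ))).obj S.X₂) (q + 1)) :=
      QCoh.subsingleton_HH_of_iso e1.symm (q + 1)
        (subsingleton_HH_sigma_twist b _ _ (fun h => by omega) (fun h => by omega))
    obtain ⟨y, rfl⟩ := (PnDual.HHlin_f_eq_zero_iff (k := k) hS' q x).1 (h1.elim _ _)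
    have h3 := hR q (by omega)
    have hy : y = 0 := by
      have : Subsingleton (Coh.HH ℙn ((twF (1 - ((q + 1 : ℕ) : ℤ))).obj G) q) := by
        rw [show (1 : ℤ) - ((q + 1 : ℕ) : ℤ) = -(q : ℤ) by push_cast; ring]
        exact h3
      exact this.elim _ _
    rw [hy, map_zero]

theorem epi_of_reg0 {G : (Proj (CohB1.polyGrading n k)).Modules} (hG : Coh.IsCoh G) (hR : Reg0 (𝒜 := CohB1.polyGrading n k) G) :
    Curv2.IsGloballyGenerated G :=
  ProjRegular.isGloballyGenerated coords_mem coords_cover coords_noetherian (good_of_isCoh coords_mem hG) hR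

/-- `0`-regular sheaves with at most `N` sections are cokernels of maps between two fixed sums. -/
theorem exists_uniform_presentation (N : ℕ) :
    ∃ D : ℕ, ∀ G : (Proj (CohB1.polyGrading n k)).Modules, Coh.IsCoh G → Reg0 (𝒜 := CohB1.polyGrading n k) G →
      Module.finrank k (Coh.HH ℙn G 0) ≤ N →
      ∃ ψ : (∐ fun _ : Fin D => Coh.structureModule ℙn) ⟶
          (twF 1).obj (∐ fun _ : Fin N => Coh.structureModule ℙn),
        Nonempty (cokernel ψ ≅ (twF 1).obj G) := by
  haveI : IsNoetherian ℙn := Proj16.isNoetherian_proj _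
  let T := (twF (k := k) (n := n) 1).obj (∐ fun _ : Fin N => Coh.structureModule ℙn)
  have hT : Coh.IsCoh T := by
    obtain ⟨e⟩ := twF_sigma_unit_iso (k := k) (n := n) N 1
    exact SheafHomX.isCoh_of_iso e.symm (isCoh_sigma_twist N 1)
  haveI := finite_HH_pn hT 0
  haveI := finite_hom_structure (k := k) T
  refine ⟨Module.finrank k (Coh.structureModule ℙn ⟶ T), fun G hG hR hN => ?_⟩
  haveI := finite_HH_pn hG 0
  obtain ⟨ψ, hs, hepi⟩ := exists_sigma_hom_le G ((finrank_hom_structure G).trans_le hN)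
  haveI : Epi ψ := hepi (epi_of_reg0 hG hR)
  let K := (twF (k := k) (n := n) 1).obj (kernel ψ)
  let κ : K ⟶ T := (twF 1).map (kernel.ι ψ)
  haveI : Mono κ := inferInstanceAs (Mono ((twF 1).map (kernel.ι ψ)))
  have hO : Coh.IsCoh (∐ fun _ : Fin N => Coh.structureModule ℙn) := by
    obtain ⟨e⟩ := RegEpi.unitIso (k := k) (n := n)
    exact SheafHomX.isCoh_of_iso (Sigma.mapIso fun _ => e).symm (isCoh_sigma_twist N 0)
  have hK : Coh.IsCoh K := ProjRegular.isCoh_twistBy (QCoh.isCoh_kernel hO hG ψ) 1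
  haveI := finite_HH_pn hK 0
  obtain ⟨χ, -, hχ⟩ := exists_sigma_hom_le K (N := Module.finrank k (Coh.structureModule ℙn ⟶ T))
    (finrank_hom_le_of_mono κ)
  haveI : Epi χ := hχ (epi_of_reg0 hK (reg0_kernel hR ψ hs))
  let S : ShortComplex (Proj (CohB1.polyGrading n k)).Modules := ShortComplex.mk (kernel.ι ψ) ψ (kernel.condition ψ)
  have hS : S.ShortExact := { exact := ShortComplex.exact_of_f_is_kernel _ (kernelIsKernel ψ) }
  have hS1 := shortExact_twistBy (coords k n) coords_mem coords_cover 1 hS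
  haveI := hS1.epi_g
  exact ⟨χ ≫ κ, ⟨cokernelEpiComp χ κ ≪≫
    (cokernelIsCokernel κ).coconePointUniqueUpToIso hS1.gIsCokernel⟩⟩

end Pn

end Groth.Agent.Pic13Lib
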