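import Groth.Agent.Pic13Lib.BddPn
import Groth.Agent.Pic13Lib.BddFam
import Groth.Agent.Pic13Lib.NumCore
import Groth.Agent.S3224
import Groth.Agent.AmpleVan.ThickPush

/-!
# Boundedness of regular sheaves with bounded sections, and of numerically trivial modules
-/

set_option autoImplicit false
set_option linter.style.haveILetI false
set_option linter.unusedSectionVars false
set_option backward.isDefEq.respectTransparency false
set_option backward.isDefEq.respectTransparency.types false
set_option maxHeartbeats 1000000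
set_option synthInstance.maxHeartbeats 200000

universe u

open CategoryTheory CategoryTheory.Limits AlgebraicGeometry TopologicalSpace Opposite
open Groth.Agent.H23.PicMul
open Groth.Agent.PnCoh.Finite Groth.Agent.ProjRegular

attribute [local instance] HasDerivedCategory.standard

noncomputable section

namespace Groth.Agent.Pic13Lib

open Groth.Agent

variable {k : Type u} [Field k] {n : ℕ} {X : Scheme.{u}} [X.Over (Spec (CommRingCat.of k))]
  (j : X ⟶ CohB1.ProjSpace n k) [IsClosedImmersion j]
  (hj : j ≫ CohB1.ProjSpace.toSpec n k = X ↘ Spec (CommRingCat.of k))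

include hj in
/-- The finite dimensionality of `Hom(O^D, B)`. -/
theorem finite_hom_free {B : X.Modules} (hB : Coh.IsCoh B) (D : ℕ) :
    Module.Finite k ((∐ fun _ : Fin D => Coh.structureModule X) ⟶ B) := by
  haveI := finite_HH j hj hB 0
  haveI := finite_hom_structure (k := k) B
  exact finite_hom_sigma D

include hj in
/-- Regular sheaves with boundedly many sections form a bounded family. -/
theorem isBounded_mRegular_le (m : ℤ) (N : ℕ) :
    Pic13.IsBounded k X (fun F => Coh.IsCoh F ∧ Pic13.IsMRegular k j F m ∧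
      Module.finrank k (Coh.HH X (Pic13.twistOn k j F m) 0) ≤ N) := by
  haveI := isProper j hj
  haveI := isNoetherian j
  letI : (Proj (CohB1.polyGrading n k)).Over (Spec (CommRingCat.of k)) := ⟨CohB1.ProjSpace.toSpec n k⟩
  haveI : IsProper ((Proj (CohB1.polyGrading n k)) ↘ Spec (CommRingCat.of k)) := PnCoh.Chow.isProper_toSpec n k
  obtain ⟨D, hD⟩ := exists_uniform_presentation (k := k) (n := n) N
  let B : X.Modules := (Scheme.Modules.pullback j).obj
    ((RegEpi.twF 1).obj (∐ fun _ : Fin N => Coh.structureModule (Proj (CohB1.polyGrading n k))))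
  have hB : Coh.IsCoh B := by
    obtain ⟨e⟩ := RegEpi.twF_sigma_unit_iso (k := k) (n := n) N 1
    exact ZClosLib.isCoh_pullback j (SheafHomX.isCoh_of_iso e.symm (RegEpi.isCoh_sigma_twist N 1))
  have hA : Coh.IsCoh (∐ fun _ : Fin D => Coh.structureModule X) := by
    haveI := Abelian.hasFiniteBiproducts (C := X.Modules)
    exact SheafHomX.isCoh_of_iso (biproduct.isoCoproduct _ ≪≫
      (Sigma.whiskerEquiv (f := fun _ : Fin D => Coh.structureModule X) (g := fun _ : ULift.{u} (Fin D) => Coh.structureModule X)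
        Equiv.ulift.symm fun _ => Iso.refl _).symm)
      (QCoh.isCoh_biproduct (fun _ : ULift.{u} (Fin D) => Coh.structureModule X) fun _ => QCoh.isCoh_structureModule')
  haveI := finite_hom_free j hj hB D
  refine isBounded_mono k X ?_ (isBounded_tensor k X (isBounded_coker k X hA hB) (isInvertible_hyp j (-(m + 1))))
  rintro F ⟨hF, hm, hN⟩
  let G := (RegEpi.twF (k := k) (n := n) m).obj ((Scheme.Modules.pushforward j).obj F)
  have hG : Coh.IsCoh G := ProjRegular.isCoh_twistBy (isCoh_push j hF) m
  have hR : Reg0 (𝒜 := CohB1.polyGrading n k) G :=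
    ProjRegular.reg0_of_isMRegular (isCoh_push j hF) fun q hq _ =>
      (subsingleton_twistOn_iff j hj hF (m - q) q).1 (hm q hq)
  have hN' : Module.finrank k (Coh.HH (Proj (CohB1.polyGrading n k)) G 0) ≤ N :=
    ((exists_twistEquiv j hj hF m 0).some.finrank_eq).symm.trans_le hN
  obtain ⟨ψ, ⟨e⟩⟩ := hD G hG hR hN'
  obtain ⟨e₁⟩ := RegEpi.twF_twF_iso ((Scheme.Modules.pushforward j).obj F) m 1 (m + 1) rfl
  obtain ⟨e₂⟩ := push_twistOn j F (m + 1)
  haveI := AmpleVan.isIso_counit j (isCoh_twistOn j hF (m + 1)).1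
  haveI : PreservesColimitsOfSize.{0, 0} (Scheme.Modules.pullback j) :=
    (Scheme.Modules.pullbackPushforwardAdjunction j).leftAdjoint_preservesColimits
  let P := Scheme.Modules.pullback j
  let f : P.obj (∐ fun _ : Fin D => Coh.structureModule (Proj (CohB1.polyGrading n k))) ≅
      ∐ fun _ : Fin D => Coh.structureModule X :=
    PreservesCoproduct.iso P _ ≪≫ Sigma.mapIso fun _ => (PicClLib.nonempty_pullback_structureModule j).some
  let φ : (∐ fun _ : Fin D => Coh.structureModule X) ⟶ B := f.inv ≫ P.map ψ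
  let c : cokernel φ ≅ Pic13.twistOn k j F (m + 1) :=
    cokernelEpiComp f.inv (P.map ψ) ≪≫ (PreservesCokernel.iso P ψ).symm ≪≫ P.mapIso (e ≪≫ e₁ ≪≫ e₂) ≪≫
      asIso ((Scheme.Modules.pullbackPushforwardAdjunction j).counit.app (Pic13.twistOn k j F (m + 1)))
  refine ⟨_, ⟨φ, ⟨c⟩⟩, cl_eq_iff.1 ?_⟩
  rw [cl_tensor, cl_twistOn, mul_assoc, cl_hyp_add, add_neg_cancel, cl_hyp_zero, mul_one]

include hj in
/-- A uniformly regular family with uniformly many sections. -/
theorem exists_regular_numTriv [IsProper (X ↘ Spec (CommRingCat.of k))] :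
    ∃ (m : ℤ) (N : ℕ), ∀ L : X.Modules, NumTriv k L → Coh.IsCoh L ∧ Pic13.IsMRegular k j L m ∧
      Module.finrank k (Coh.HH X (Pic13.twistOn k j L m) 0) ≤ N := by
  haveI := isNoetherian j
  have hO : Coh.IsCoh (Coh.structureModule X) := QCoh.isCoh_structureModule'
  obtain ⟨m₀, hv⟩ := (good_of_isCoh j hj hO).van
  obtain ⟨B, hB⟩ := (good_of_isCoh j hj hO).sec (m₀ + n)
  refine ⟨m₀ + n, B, fun L hL => ?_⟩
  have hLc : Coh.IsCoh L := AmpleVan.isCoh_invertible hL.1
  have hu : Nonempty (CohB1.tensorMod (Coh.structureModule X) L ≅ L) :=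
    cl_eq_iff.1 (by rw [cl_tensor, ← one_def, one_mul])
  refine ⟨hLc, fun q hq => ?_, ?_⟩
  · rcases le_or_gt q n with hqn | hqn
    · exact QCoh.subsingleton_HH_of_iso (twistOn_congr j hu.some (m₀ + n - q)).some q
        (hv L hL q hq (m₀ + n - q) (by omega))
    · exact subsingleton_of_lt j hj hLc _ hqn
  · exact (hh_congr (twistOn_congr j hu.some (m₀ + n)) 0).symm.trans_le (hB L hL)

include hj in
/-- The numerically trivial invertible modules form a bounded family. -/
theorem isBounded_numTriv [IsProper (X ↘ Spec (CommRingCat.of k))] :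
    Pic13.IsBounded k X (fun L => NumTriv k L) := by
  obtain ⟨m, N, h⟩ := exists_regular_numTriv j hj
  exact isBounded_mono k X h (isBounded_mRegular_le j hj m N)

end Groth.Agent.Pic13Lib
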