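import Groth.Agent.SurfInt.Inter
import Groth.Agent.SurfInt.Restrict
import Groth.Agent.NonPureLib.FinPart
import Groth.Agent.AmpleX.Generated
import Groth.Agent.H23.PicInv
import Groth.Agent.CDivEq.Basic
import Groth.Agent.Lib.InvEnd
import Groth.Agent.S8914

/-!
# Effective Cartier divisors in the multiples of an ample class inside a given ideal
-/

set_option autoImplicit false
set_option linter.style.haveILetI false
set_option linter.unusedSectionVars false
set_option backward.isDefEq.respectTransparency false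
set_option backward.isDefEq.respectTransparency.types false

universe u

open CategoryTheory CategoryTheory.Limits AlgebraicGeometry TopologicalSpace Opposite IsLocalRing

noncomputable section

namespace Groth.Agent.Pic13Lib

open Groth.Agent Groth.Agent.H23.PicMul
open Groth.Agent.CDivEq (stk)

variable {X : Scheme.{u}}

theorem free_hom_ext {ι : Type u} {M : X.Modules} {f g : (SheafOfModules.free ι : X.Modules) ⟶ M}
    (h : ∀ i, (SheafOfModules.ιFree i : Coh.structureModule X ⟶ _) ≫ f =
      (SheafOfModules.ιFree i : Coh.structureModule X ⟶ _) ≫ g) : f = g :=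
  Cofan.IsColimit.hom_ext (SheafOfModules.isColimitFreeCofan (R := X.ringCatSheaf) ι) f g h

/-- An ideal whose inclusion into a bigger one is an epimorphism is equal to it. -/
theorem eq_of_epi_inclMap [IsLocallyNoetherian X] {I J : X.IdealSheafData} (h : I ≤ J)
    [Epi (SurfInt.inclMap h)] : I = J := le_antisymm h fun U a ha => by
  obtain ⟨k, rfl⟩ := OmegaLib.exists_of_mem J U a ha
  obtain ⟨b, rfl⟩ := QCoh.app_surjective_of_epi (SurfInt.isCoh_idealMod I).1 (SurfInt.isCoh_idealMod J).1
    (SurfInt.inclMap h) U.2 k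
  rw [SurfInt.idealSect_inclMap]
  exact OmegaLib.idealSect_mem I U b

theorem stk_mono {I J : X.IdealSheafData} (h : I ≤ J) (U : X.affineOpens) {x : X} (hx : x ∈ U.1) :
    stk I U hx ≤ stk J U hx := Ideal.map_mono (h U)

/-- If a member of a class generates an ideal at a point: the key step. -/
theorem exists_member [IsIntegral X] [IsNoetherian X] [X.IsSeparated] {H : X.Modules} (hH : CohB1.IsAmple H)
    (J : X.IdealSheafData) {η : X} (U : X.affineOpens) (hη : η ∈ U.1) {g : X.presheaf.stalk η}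
    (hg : g ≠ 0) (hJ : stk J U hη = Ideal.span {g}) :
    ∃ n₀ : ℕ, ∀ n, n₀ ≤ n → ∃ F : X.IdealSheafData, BlowUp.IsEffCartierIdeal F ∧ F ≤ J ∧
      stk F U hη = stk J U hη ∧
      PicF.cl (ClSub.idealMod F) * PicF.cl (CohB1.tensorPow H n) = 1 := by
  have hJc := SurfInt.isCoh_idealMod J
  obtain ⟨n₀, hn₀⟩ := AmpleX.eventually_isGloballyGenerated hH hJc.1 hJc.2
  refine ⟨n₀, fun n hn => ?_⟩
  obtain ⟨ι, p, hp⟩ := hn₀ n hn
  haveI := hp
  have hP := InvX.isInvertible_tensorPow hH.1 n
  obtain ⟨A, hA, ⟨eA⟩⟩ := H23.PicInv.exists_inverse hP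
  haveI := AmpleVan.isEquivalence_tw hA
  let τ := AmpleVan.tw A
  let e : τ.obj (CohB1.tensorMod (ClSub.idealMod J) (CohB1.tensorPow H n)) ≅ ClSub.idealMod J :=
    SurfInt.tAssoc _ _ _ ≪≫ SurfInt.tMapR _ eA ≪≫ SurfInt.tUnit _
  let φ : ι → (A ⟶ ClSub.idealMod J) := fun i =>
    (SurfInt.tUnitL A).inv ≫ τ.map ((SheafOfModules.ιFree i : Coh.structureModule X ⟶ _) ≫ p) ≫ e.hom
  haveI hJm : Mono (ClSub.idealModι J) := inferInstanceAs (Mono (kernel.ι _))
  let ι' := {i : ι // φ i ≠ 0}
  have hmono : ∀ i : ι', Mono (φ i.1 ≫ ClSub.idealModι J) := fun i =>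
    InvEnd.mono_of_ne_zero hA InvX.isInvertible_structureModule _ fun h =>
      i.2 ((cancel_mono (ClSub.idealModι J)).1 (h.trans zero_comp.symm))
  have hdata : ∀ i : ι', ∃ (F : X.IdealSheafData) (a : A ≅ ClSub.idealMod F),
      a.hom ≫ ClSub.idealModι F = φ i.1 ≫ ClSub.idealModι J := fun i =>
    haveI := hmono i
    NonPureLib.exists_idealMod_iso (AmpleVan.isCoh_invertible hA) (φ i.1 ≫ ClSub.idealModι J)
  choose F a ha using hdata
  have hFJ : ∀ i, F i ≤ J := fun i V b hb => by
    obtain ⟨k, rfl⟩ := OmegaLib.exists_of_mem (F i) V b hb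
    have h := congr($(ha i).app V.1 ((a i).inv.app V.1 k))
    have h1 : (a i).hom.app V.1 ((a i).inv.app V.1 k) = k := congr($((a i).inv_hom_id).app V.1 k)
    change (ClSub.idealModι (F i)).app V.1 ((a i).hom.app V.1 ((a i).inv.app V.1 k)) = _ at h
    rw [h1] at h
    rw [show OmegaSh.idealSect (F i) V.1 k = _ from h]
    exact OmegaLib.idealSect_mem J V _
  let S := ⨆ i, F i
  have hSJ : S ≤ J := iSup_le hFJ
  have hfac : ∀ i : ι', φ i.1 = (a i).hom ≫ SurfInt.inclMap (le_iSup F i) ≫ SurfInt.inclMap hSJ := fun i => by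
    refine (cancel_mono (ClSub.idealModι J)).1 ?_
    simp only [Category.assoc, SurfInt.inclMap_ι]
    exact (ha i).symm
  haveI : Epi (SurfInt.inclMap hSJ) := by
    refine Preadditive.epi_of_cancel_zero _ fun {T} q hq => ?_
    obtain ⟨q', hq'⟩ := τ.map_surjective (e.hom ≫ q ≫ (τ.objObjPreimageIso T).inv)
    have hz : ∀ i, φ i ≫ q = 0 := fun i => by
      by_cases h : φ i = 0
      · rw [h, zero_comp]
      · rw [hfac ⟨i, h⟩]
        simp only [Category.assoc, hq, comp_zero]
    have hpq : p ≫ q' = 0 := free_hom_ext fun i => by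
      rw [comp_zero]
      refine τ.map_injective ((cancel_epi (SurfInt.tUnitL A).inv).1 ?_)
      rw [← Category.assoc (SheafOfModules.ιFree i : Coh.structureModule X ⟶ _) p q', τ.map_comp, hq',
        τ.map_zero, comp_zero]
      have h := congrArg (· ≫ (τ.objObjPreimageIso T).inv) (hz i)
      simp only [zero_comp, φ, Category.assoc] at h
      exact h
    have hq'0 : q' = 0 := (cancel_epi p).1 (hpq.trans comp_zero.symm)
    rw [hq'0, τ.map_zero] at hq'
    exact (cancel_mono (τ.objObjPreimageIso T).inv).1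
      ((cancel_epi e.hom).1 (hq'.symm.trans (by rw [zero_comp, comp_zero])))
  have hSeq : S = J := eq_of_epi_inclMap hSJ
  -- some member generates at `η`
  have hex : ∃ i, stk (F i) U hη = stk J U hη := by
    by_contra hc
    push Not at hc
    have hsmall : ∀ i, stk (F i) U hη ≤ maximalIdeal _ * stk J U hη := fun i b hb => by
      obtain ⟨c, hc'⟩ := Ideal.mem_span_singleton'.1 (hJ ▸ stk_mono (hFJ i) U hη hb)
      refine hc' ▸ Ideal.mul_mem_mul ((IsLocalRing.mem_maximalIdeal _).2 fun hu => hc i ?_)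
        (hJ ▸ Ideal.mem_span_singleton_self g)
      refine le_antisymm (stk_mono (hFJ i) U hη) ?_
      rw [hJ, Ideal.span_singleton_le_iff_mem]
      obtain ⟨w, hw⟩ := hu
      have hg' : g = ↑w⁻¹ * b := by rw [← hc', ← hw, ← mul_assoc, Units.inv_mul, one_mul]
      rw [hg']
      exact Ideal.mul_mem_left _ _ hb
    have h1 : stk J U hη ≤ maximalIdeal _ * stk J U hη := by
      conv_lhs => rw [← hSeq]
      rw [CDivEq.stk, Scheme.IdealSheafData.ideal_iSup, iSup_apply, Ideal.map_iSup]
      exact iSup_le hsmall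
    have h2 := Submodule.eq_bot_of_le_smul_of_le_jacobson_bot (maximalIdeal _) (stk J U hη)
      (hJ ▸ Submodule.fg_span_singleton g) h1 (IsLocalRing.maximalIdeal_le_jacobson _)
    exact hg (Ideal.span_singleton_eq_bot.1 (hJ.symm.trans h2))
  obtain ⟨i, hi⟩ := hex
  refine ⟨F i, (S8914.result (F i)).1 (isInvertible_of_iso (a i) hA), hFJ i, hi, ?_⟩
  rw [← cl_eq_iff.2 ⟨a i⟩, mul_comm, ← cl_tensor, one_def]
  exact cl_eq_iff.2 ⟨eA⟩

end Groth.Agent.Pic13Lib
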