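import Groth.Agent.Pic13Lib.AlgGroup
import Groth.Agent.JacTheta.Abel
import Groth.Agent.JacTheta.Effective
import Groth.Agent.JacTheta.RelDim
import Groth.Agent.JacTheta.Graph
import Groth.Agent.PicFRel.HilbChart
import Groth.Agent.ArSurfBase.PullIdeal

/-! On a smooth proper curve over an algebraically closed field, classes of degree zero are algebraically
equivalent to zero. -/

set_option autoImplicit false
set_option linter.unusedSectionVars false
set_option backward.isDefEq.respectTransparency false
set_option backward.isDefEq.respectTransparency.types false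

universe u

open CategoryTheory CategoryTheory.Limits AlgebraicGeometry

noncomputable section

namespace Groth.Agent.Pic13Lib

open scoped H23.PicMul
open JacTheta

variable {k : Type u} [Field k] {C : Scheme.{u}} [C.Over (Spec (CommRingCat.of k))]
  [IsIntegral C] [IsProper (C ↘ Spec (CommRingCat.of k))] [Smooth (C ↘ Spec (CommRingCat.of k))]
  (hdim : topologicalKrullDim C = 1)

include hdim

theorem isInvertible_idealMod_diagonal :
    PicF.IsInvertible (ClSub.idealMod (pullback.diagonal (C ↘ Spec (CommRingCat.of k))).ker) := by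
  haveI := smoothOfRelativeDimension_one k C hdim
  exact isInvertible_gr (C ↘ Spec (CommRingCat.of k)) (𝟙 (Over.mk (C ↘ Spec (CommRingCat.of k))))

omit hdim [IsIntegral C] [Smooth (C ↘ Spec (CommRingCat.of k))] in
theorem comap_diagonal_slice (x : Pt k C) :
    (pullback.diagonal (C ↘ Spec (CommRingCat.of k))).ker.comap (slice x) = x.1.ker := by
  let p := C ↘ Spec (CommRingCat.of k)
  have h1 : IsPullback (slice x) p (pullback.snd p p) x.1 := by
    refine IsPullback.of_right ?_ (slice_snd x) (IsPullback.of_hasPullback p p)
    rw [slice_fst, x.2]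
    exact IsPullback.of_horiz_isIso ⟨by simp⟩
  have h2 : IsPullback x.1 x.1 (pullback.diagonal p) (slice x) := by
    refine IsPullback.of_bot ?_ ?_ h1
    · rw [x.2, pullback.diagonal_snd]
      exact IsPullback.of_vert_isIso ⟨by simp⟩
    · apply pullback.hom_ext
      · rw [Category.assoc, Category.assoc, pullback.diagonal_fst, slice_fst]
      · rw [Category.assoc, Category.assoc, pullback.diagonal_snd, slice_snd, ← Category.assoc, x.2,
          Category.id_comp, Category.comp_id]
  exact PicFRel.HilbChart.ker_comap_of_isPullback x.1 x.1 (slice x) (pullback.diagonal p) h2.flip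

/-- `O(x) - O(y)` is algebraically equivalent to zero. -/
theorem algTriv_pt [ConnectedSpace C] (x y : Pt k C) : AlgTriv k C (O hdim x * (O hdim y)⁻¹) := by
  let p := C ↘ Spec (CommRingCat.of k)
  have hI := isInvertible_idealMod_diagonal (k := k) (C := C) hdim
  let Λ : LB (Pic13.prodK k C p) := (lb (ClSub.idealMod (pullback.diagonal p).ker) hI)⁻¹
  let m : LB (Pic13.prodK k C p) := Λ * LB.pull (pullback.fst p p) (O hdim y)⁻¹
  have key : ∀ z : Pt k C, LB.pull (Pic13.sliceAt k C p z.1 z.2) m = O hdim z * (O hdim y)⁻¹ := by
    intro z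
    show LB.pull (slice z) m = _
    have hs : ∀ u : LB C, LB.pull (slice z) (LB.pull (pullback.fst p p) u) = u := fun u => Units.ext (by
      rw [LB.pull_val, LB.pull_val, PicClLib.pullCl_comp, slice_fst, PicClLib.pullCl_id])
    rw [map_mul, hs, map_inv]
    congr 1
    · rw [← inv_inv (O hdim z)]
      congr 1
      refine Units.ext ?_
      rw [LB.pull_val, lb_val, O_inv_val]
      show PicF.cl ((Scheme.Modules.pullback (slice z)).obj _) = _
      refine (PicGrp.cl_eq_cl_iff _ _).2 ?_
      have hc := comap_diagonal_slice z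
      obtain ⟨e⟩ := ArSurfBase.nonempty_pullback_idealMod (slice z) _ ((S8914.result _).1 hI)
        (by rw [hc]; exact (S8914.result _).1 (z.isInvertible hdim))
      exact ⟨e ≪≫ eqToIso (congrArg ClSub.idealMod hc)⟩
  exact ⟨C, p, inferInstance, inferInstance, inferInstance, m, x.1, y.1, x.2, y.2, key x,
    (key y).trans (mul_inv_cancel _)⟩

variable [GeometricallyConnected (C ↘ Spec (CommRingCat.of k))]

/-- Classes of degree zero on a curve are algebraically equivalent to zero. -/
theorem algTriv_of_dgr_zero [IsAlgClosed k] [ConnectedSpace C] (c : LB C)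
    (hc : dgr k (c : PicF.Cl C) = 0) : AlgTriv k C c := by
  haveI := LocallyOfFiniteType.jacobsonSpace (C ↘ Spec (CommRingCat.of k))
  obtain ⟨y, -, hy⟩ := nonempty_inter_closedPoints (Z := (Set.univ : Set C)) Set.univ_nonempty
    isClosed_univ.isLocallyClosed
  let P : Pt k C := ⟨pointOfClosedPoint (C ↘ Spec (CommRingCat.of k)) y (mem_closedPoints_iff.1 hy),
    pointOfClosedPoint_comp _ _ _⟩
  let r := Curv2.genus k C + 1
  let d : LB C := c * O hdim P ^ r
  have hd : dgr k (d : PicF.Cl C) = r := by
    rw [dgr_mul hdim, dgr_pow hdim, dgr_O hdim, hc]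
    ring
  have h0 : 0 < hh k 0 (d : PicF.Cl C) := by
    have h := rr (k := k) hdim d
    rw [hd] at h
    simp only [r] at h
    push_cast at h
    omega
  obtain ⟨x, hx⟩ := exists_eq_Dv hdim r d hd h0
  have e : c = ∏ i, O hdim (x i) * (O hdim P)⁻¹ := by
    rw [Finset.prod_mul_distrib, Finset.prod_const, Finset.card_univ, Fintype.card_fin, inv_pow]
    exact eq_mul_inv_of_mul_eq hx
  rw [e]
  exact algTriv_prod _ _ fun i _ => algTriv_pt hdim (x i) P

end Groth.Agent.Pic13Lib
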