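import Groth.Agent.Pic13Lib.Twist
import Groth.Agent.HilbPoly.Step
import Groth.Agent.H23.ModLoc
import Groth.Agent.QCoh.DevissageTheta

/-!
# Cutting by a coordinate hyperplane
-/

set_option linter.style.haveILetI false
set_option linter.unusedSectionVars false
set_option backward.isDefEq.respectTransparency false
set_option backward.isDefEq.respectTransparency.types false
set_option maxHeartbeats 1000000
set_option synthInstance.maxHeartbeats 200000

universe u

open CategoryTheory CategoryTheory.Limits AlgebraicGeometry TopologicalSpace Opposite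

attribute [local instance] HasDerivedCategory.standard

noncomputable section

namespace Groth.Agent.Pic13Lib

open Groth.Agent

/-- Restricted maps of pullbacks are invertible where the map is. -/
theorem isIso_restrict_pullback {X Y : Scheme.{u}} (f : X ⟶ Y) (V : Y.Opens) {M N : Y.Modules} (g : M ⟶ N)
    [IsIso ((Scheme.Modules.restrictFunctor V.ι).map g)] :
    IsIso ((Scheme.Modules.restrictFunctor (f ⁻¹ᵁ V).ι).map ((Scheme.Modules.pullback f).map g)) := by
  let α : Scheme.Modules.pullback f ⋙ Scheme.Modules.restrictFunctor (f ⁻¹ᵁ V).ι ≅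
      Scheme.Modules.restrictFunctor V.ι ⋙ Scheme.Modules.pullback (f ∣_ V) :=
    Functor.isoWhiskerLeft _ (Scheme.Modules.restrictFunctorIsoPullback (f ⁻¹ᵁ V).ι) ≪≫
      Scheme.Modules.pullbackComp (f ⁻¹ᵁ V).ι f ≪≫
      Scheme.Modules.pullbackCongr (morphismRestrict_ι f V).symm ≪≫
      (Scheme.Modules.pullbackComp (f ∣_ V) V.ι).symm ≪≫
      Functor.isoWhiskerRight (Scheme.Modules.restrictFunctorIsoPullback V.ι).symm _
  refine (NatIso.isIso_map_iff α g).2 ?_
  show IsIso ((Scheme.Modules.pullback (f ∣_ V)).map ((Scheme.Modules.restrictFunctor V.ι).map g))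
  infer_instance

/-- Restricted maps are invertible when bijective on the stalks over the open. -/
theorem isIso_restrict_of_stalks {Y : Scheme.{u}} (V : Y.Opens) {M N : Y.Modules} (g : M ⟶ N)
    (h : ∀ x ∈ V, IsIso ((DerSch.stalkFunctor Y x).map g)) :
    IsIso ((Scheme.Modules.restrictFunctor V.ι).map g) := by
  haveI : ∀ v : (V : Scheme.{u}), IsIso ((TopCat.Presheaf.stalkFunctor Ab.{u} v).map
      ((Scheme.Modules.toPresheaf _).map ((Scheme.Modules.restrictFunctor V.ι).map g))) := fun v => by
    haveI := h v.1 v.2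
    have h1 : IsIso ((DerSch.stalkFunctor Y v.1 ⋙
        forget₂ (ModuleCat (Y.presheaf.stalk v.1)) AddCommGrpCat).map g) :=
      Functor.map_isIso (forget₂ (ModuleCat (Y.presheaf.stalk v.1)) AddCommGrpCat) ((DerSch.stalkFunctor Y v.1).map g)
    exact (NatIso.isIso_map_iff (Scheme.Modules.restrictStalkNatIso V.ι v) g).2 h1
  refine @isIso_of_reflects_iso _ _ _ _ _ _ _ (KFlatLib.toAb (V : Scheme.{u})) ?_ _
  rw [TopCat.Presheaf.isIso_iff_stalkFunctor_map_iso]
  exact fun v => this v

/-- A submodule of the structure sheaf of an integral closed subscheme is determined on opens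
containing the generic point. -/
theorem mono_resUnit_pushIdeal {X Z : Scheme.{u}} [IsIntegral Z] (i : Z ⟶ X) {I : Z.Modules}
    (ι : I ⟶ Coh.structureModule Z) [Mono ι] {U : X.Opens} (hU : i (genericPoint Z) ∈ U) :
    Mono (HilbPoly.resUnit U ((Coh.push i).obj I)) := by
  haveI := HilbPoly.mono_resUnit_push i hU
  have h : HilbPoly.resUnit U ((Coh.push i).obj I) ≫
      (Scheme.Modules.pushforward U.ι).map ((Scheme.Modules.restrictFunctor U.ι).map ((Coh.push i).map ι)) =
      (Coh.push i).map ι ≫ HilbPoly.resUnit U ((Coh.push i).obj (Coh.structureModule Z)) :=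
    ((Scheme.Modules.restrictAdjunction U.ι).unit.naturality _).symm
  haveI : Mono ((Coh.push i).map ι) := by
    haveI : PreservesLimitsOfSize.{0, 0} (Scheme.Modules.pushforward i) :=
      (Scheme.Modules.pullbackPushforwardAdjunction i).rightAdjoint_preservesLimits
    exact (Scheme.Modules.pushforward i).map_mono ι
  exact mono_of_mono_fac h

/-- A map invertible on an open out of a module determined on that open is a monomorphism. -/
theorem mono_of_isIso_restrict {X : Scheme.{u}} (U : X.Opens) {M N : X.Modules} (g : M ⟶ N)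
    [Mono (HilbPoly.resUnit U M)] [IsIso ((Scheme.Modules.restrictFunctor U.ι).map g)] : Mono g := by
  have h : g ≫ HilbPoly.resUnit U N = HilbPoly.resUnit U M ≫
      (Scheme.Modules.pushforward U.ι).map ((Scheme.Modules.restrictFunctor U.ι).map g) :=
    (Scheme.Modules.restrictAdjunction U.ι).unit.naturality g
  exact mono_of_mono_fac h

variable {k : Type u} [Field k] {n : ℕ} {X : Scheme.{u}} (j : X ⟶ CohB1.ProjSpace n k) [IsClosedImmersion j]

/-- The sequence of a coordinate which does not vanish at the generic point. -/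
theorem exists_cut {Z : Scheme.{u}} (i : Z ⟶ X) [IsClosedImmersion i] [IsIntegral Z] {ξ : X}
    (hr : Set.range i = closure {ξ}) {I : Z.Modules} (ι : I ⟶ Coh.structureModule Z) [Mono ι]
    (hI : Coh.IsQCoh I) :
    ∃ (G : X.Modules) (α : Pic13.twistOn k j ((Coh.push i).obj I) (-1) ⟶ (Coh.push i).obj I)
      (π : (Coh.push i).obj I ⟶ G) (w : α ≫ π = 0),
      (ShortComplex.mk α π w).ShortExact ∧ Coh.IsCoh G ∧ CohB1.support G ⊆ closure {ξ} ∧
        ξ ∉ CohB1.support G := by
  haveI := isNoetherian j
  have hξ : i (genericPoint Z) = ξ :=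
    ((show Specializes (i (genericPoint Z)) ξ from specializes_iff_mem_closure.2
      ((QCoh.range_eq_closure i).le (hr.ge (subset_closure rfl)))).antisymm
    (specializes_iff_mem_closure.2 (hr.le ⟨_, rfl⟩))).eq
  obtain ⟨a, ha⟩ := Opens.mem_iSup.1 (ProjRegular.coords_cover (k := k) (n := n) |>.ge
    (trivial : j ξ ∈ (⊤ : (Proj (CohB1.polyGrading n k)).Opens)))
  let V : (Proj (CohB1.polyGrading n k)).Opens := PnCoh.Finite.D (CohB1.polyGrading n k) (ProjRegular.coords k n a)
  let x : Twist.twistProjSpace n k (0 - 1) ⟶ Twist.twistProjSpace n k 0 :=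
    ProjShift.xHom (ProjRegular.coords_mem (k := k) (n := n) a) 0
  haveI : IsIso ((Scheme.Modules.restrictFunctor V.ι).map x) := isIso_restrict_of_stalks V x fun y hy =>
    (NatIso.isIso_map_iff (KFlatLib.stalkToPIso y) x).2
      ((ConcreteCategory.isIso_iff_bijective _).2 (ProjShift.bijective_stalk _ hy 0))
  let U : X.Opens := j ⁻¹ᵁ V
  have hξU : ξ ∈ U := ha
  haveI : IsIso ((Scheme.Modules.restrictFunctor U.ι).map ((Scheme.Modules.pullback j).map x)) :=
    isIso_restrict_pullback j V x
  let F := (Coh.push i).obj I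
  have hIc : Coh.IsCoh I := by
    haveI : IsLocallyNoetherian Z := LocallyOfFiniteType.isLocallyNoetherian i
    exact QCoh.isCoh_of_mono ι QCoh.isCoh_structureModule' hI
  have hF : Coh.IsCoh F := QCoh.isCoh_push i hIc
  obtain ⟨e⟩ := twistOn_zero j F
  let α : Pic13.twistOn k j F (-1) ⟶ F :=
    (DCoh.tensorBi.obj F).map ((Scheme.Modules.pullback j).map x) ≫ e.hom
  haveI : Mono (HilbPoly.resUnit U F) := mono_resUnit_pushIdeal i ι (hξ ▸ hξU)
  haveI : Mono (HilbPoly.resUnit U (Pic13.twistOn k j F (-1))) :=
    HilbPoly.mono_resUnit_tensor (isInvertible_hyp j _)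
  haveI : IsIso ((Scheme.Modules.restrictFunctor U.ι).map
      ((DCoh.tensorBi.obj F).map ((Scheme.Modules.pullback j).map x))) := by
    refine (NatIso.isIso_map_iff ((KFlatLib.restrictTensorBiIso U.ι).app F) _).2 ?_
    exact Functor.map_isIso (DCoh.tensorBi.obj ((Scheme.Modules.restrictFunctor U.ι).obj F)) _
  haveI : IsIso ((Scheme.Modules.restrictFunctor U.ι).map α) := by
    rw [Functor.map_comp]; infer_instance
  haveI : Mono α := mono_of_isIso_restrict U α
  refine ⟨cokernel α, α, cokernel.π α, cokernel.condition α,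
    .mk' (ShortComplex.exact_of_g_is_cokernel _ (cokernelIsCokernel α)) inferInstance inferInstance,
    QCoh.isCoh_cokernel (isCoh_twistOn j hF _).1 hF α, ?_,
    HilbPoly.notMem_support_of_isZero_restrict (HilbPoly.isZero_restrict_cokernel U α) hξU⟩
  exact (QCoh.support_of_epi hF.1 (QCoh.isCoh_cokernel (isCoh_twistOn j hF _).1 hF α).1 (cokernel.π α)).trans
    (hr ▸ QCoh.support_push_subset i hI)

end Groth.Agent.Pic13Lib
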