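import Groth.Agent.Pic13Lib.FibreStrat
import Groth.Agent.Pic13Lib.BddReg
import Groth.Agent.Pic13Lib.EulerIff
import Mathlib.Data.Fintype.Pigeonhole

/-!
# Bounded families of powers give τ-equivalence; the projective case of numerical ⇒ τ
-/

set_option autoImplicit false
set_option linter.style.haveILetI false
set_option linter.unusedSectionVars false
set_option backward.isDefEq.respectTransparency false
set_option backward.isDefEq.respectTransparency.types false
set_option maxHeartbeats 1000000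
set_option synthInstance.maxHeartbeats 200000

universe u

open CategoryTheory CategoryTheory.Limits AlgebraicGeometry TopologicalSpace Opposite
open Groth.Agent.H23.PicMul

attribute [local instance] HasDerivedCategory.standard

noncomputable section

namespace Groth.Agent.Pic13Lib

open Groth.Agent

variable {k : Type u} [Field k] [IsAlgClosed k] {X : Scheme.{u}} [X.Over (Spec (CommRingCat.of k))]
  [IsProper (X ↘ Spec (CommRingCat.of k))]

theorem isAlgEquivZero_div (φ : InvFam k X) {A B D E : X.Modules} (hA : φ.Mem A) (hB : φ.Mem B)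
    (hD : PicF.IsInvertible D) (hAD : PicF.cl A * PicF.cl D = PicF.cl E) (hBD : PicF.cl B * PicF.cl D = 1) :
    Pic13.IsAlgEquivZero k X E := by
  obtain ⟨t, ht, ⟨eA⟩⟩ := hA
  obtain ⟨t₀, ht₀, ⟨eB⟩⟩ := hB
  let pr := pullback.fst (X ↘ Spec (CommRingCat.of k)) φ.q
  haveI := φ.conn
  refine ⟨φ.T, φ.q, φ.conn, φ.lft, φ.qc, CohB1.tensorMod φ.M ((Scheme.Modules.pullback pr).obj D),
    H23.PicMul.isInvertible_tensor φ.inv (PicClLib.isInvertible_pullback pr hD), t, t₀, ht, ht₀, ?_, ?_⟩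
  · obtain ⟨p⟩ := H23.PicMul.pull (Pic13.sliceAt k X φ.q t ht) φ.M ((Scheme.Modules.pullback pr).obj D)
    refine cl_eq_iff.1 ((cl_eq_iff.2 ⟨p⟩).trans ?_)
    rw [cl_tensor, ← hAD]
    exact congrArg₂ (· * ·) (cl_eq_iff.2 ⟨eA⟩) (cl_eq_iff.2 ⟨(fibreFstIso k X φ.q t ht).app D⟩)
  · obtain ⟨p⟩ := H23.PicMul.pull (Pic13.sliceAt k X φ.q t₀ ht₀) φ.M ((Scheme.Modules.pullback pr).obj D)
    refine cl_eq_iff.1 ((cl_eq_iff.2 ⟨p⟩).trans ?_)
    rw [cl_tensor, ← one_def, ← hBD]
    exact congrArg₂ (· * ·) (cl_eq_iff.2 ⟨eB⟩) (cl_eq_iff.2 ⟨(fibreFstIso k X φ.q t₀ ht₀).app D⟩)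

/-- A module whose positive powers form a bounded family is τ-equivalent to zero. -/
theorem isTauEquivZero_of_isBounded {P : X.Modules → Prop} (hP : Pic13.IsBounded k X P) {L : X.Modules}
    (hL : PicF.IsInvertible L) (h : ∀ n : ℕ, P (CohB1.tensorPow L n)) : Pic13.IsTauEquivZero k X L := by
  obtain ⟨T, q, hq, hq', F, hF, hP⟩ := hP
  haveI := hq
  haveI := hq'
  haveI : IsLocallyNoetherian T := LocallyOfFiniteType.isLocallyNoetherian q
  haveI : CompactSpace T := QuasiCompact.compactSpace_of_compactSpace q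
  obtain ⟨l, hl⟩ := exists_invFam_affine q hF
  have key : ∀ n : ℕ, ∃ i : Fin l.length, (l.get i).Mem (CohB1.tensorPow L n) := fun n => by
    obtain ⟨t, ht, ⟨e⟩⟩ := hP _ (h n)
    obtain ⟨φ, hφ, s, hs, ⟨e'⟩⟩ := hl t ht (H23.PicMul.isInvertible_of_iso e.symm (InvX.isInvertible_tensorPow hL n))
    obtain ⟨i, hi⟩ := List.get_of_mem hφ
    subst hi
    exact ⟨i, s, hs, ⟨e' ≪≫ e⟩⟩
  choose f hf using key
  obtain ⟨a, b, hne, hab⟩ := Finite.exists_ne_map_eq_of_infinite f
  wlog hlt : a < b generalizing a b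
  · exact this b a hne.symm hab.symm (by omega)
  obtain ⟨D, hD, ⟨e⟩⟩ := H23.PicInv.exists_inverse (InvX.isInvertible_tensorPow hL a)
  refine ⟨b - a, by omega, isAlgEquivZero_div (l.get (f b)) (hf b) (hab ▸ hf a) hD ?_ ?_⟩
  · have h1 : PicF.cl (CohB1.tensorPow L a) * PicF.cl D = 1 := by rw [← cl_tensor, one_def]; exact cl_eq_iff.2 ⟨e⟩
    rw [cl_tensorPow, cl_tensorPow] at *
    rw [show b = (b - a) + a by omega, pow_add, mul_assoc, h1, mul_one, Nat.add_sub_cancel]
  · rw [← cl_tensor, one_def]; exact cl_eq_iff.2 ⟨e⟩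

/-- Numerically trivial modules on a projective scheme are τ-equivalent to zero. -/
theorem isTauEquivZero_of_numTriv {n : ℕ} (j : X ⟶ CohB1.ProjSpace n k) [IsClosedImmersion j]
    (hj : j ≫ CohB1.ProjSpace.toSpec n k = X ↘ Spec (CommRingCat.of k)) {L : X.Modules} (hL : NumTriv k L) :
    Pic13.IsTauEquivZero k X L :=
  isTauEquivZero_of_isBounded (isBounded_numTriv j hj) hL.1 fun m => hL.tensorPow m

end Groth.Agent.Pic13Lib
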