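import Groth.Agent.Pic13Lib.OrthMain
import Groth.Agent.Pic13Lib.NumTau
import Groth.Agent.Pic13Lib.NumAmple

/-!
# Euler characteristics of twists and τ-equivalence
-/

set_option autoImplicit false
set_option linter.style.haveILetI false
set_option linter.unusedSectionVars false
set_option backward.isDefEq.respectTransparency false
set_option backward.isDefEq.respectTransparency.types false

universe u

open CategoryTheory CategoryTheory.Limits AlgebraicGeometry TopologicalSpace Opposite
open Groth.Agent.H23.PicMul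

noncomputable section

namespace Groth.Agent.Pic13Lib

open Groth.Agent Groth.Agent.HilbPoly

variable (k : Type u) [Field k] {X : Scheme.{u}} [X.Over (Spec (CommRingCat.of k))]
  [IsProper (X ↘ Spec (CommRingCat.of k))]

/-- Invariants with equal twists have equal iterated differences along the twisting module. -/
theorem iterD_replicate_eq {H : X.Modules} : ∀ (n : ℕ) {G G' : X.Modules},
    (∀ j : ℕ, Curv2.euler k X (CohB1.tensorMod G (CohB1.tensorPow H j)) =
      Curv2.euler k X (CohB1.tensorMod G' (CohB1.tensorPow H j))) →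
    iterD (List.replicate n H) (Curv2.euler k X) G = iterD (List.replicate n H) (Curv2.euler k X) G'
  | 0, G, G', h => by
    have h0 := h 0
    rw [show CohB1.tensorPow H 0 = Coh.structureModule X from rfl, SurfInt.euler_congr k (SurfInt.tUnit G),
      SurfInt.euler_congr k (SurfInt.tUnit G')] at h0
    exact h0
  | n + 1, G, G', h => by
    show iterD (List.replicate n H) _ _ - _ = iterD (List.replicate n H) _ _ - _
    rw [iterD_replicate_eq n h, iterD_replicate_eq (G := (AmpleVan.tw H).obj G) (G' := (AmpleVan.tw H).obj G') n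
      fun j => ?_]
    have he : ∀ M : X.Modules, Curv2.euler k X (CohB1.tensorMod ((AmpleVan.tw H).obj M) (CohB1.tensorPow H j)) =
        Curv2.euler k X (CohB1.tensorMod M (CohB1.tensorPow H (j + 1))) := fun M =>
      SurfInt.euler_congr k (SurfInt.tAssoc M H (CohB1.tensorPow H j) ≪≫
        SurfInt.tMapR M (SurfInt.tComm H (CohB1.tensorPow H j)))
    rw [he, he]
    exact h (j + 1)

/-- `χ(L^m ⊗ H^n) = χ(H^n)` for natural exponents implies numerical triviality. -/
theorem isNumEquivZero_of_twists [IrreducibleSpace X] {H L : X.Modules} (hH : CohB1.IsAmple H)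
    (hL : PicF.IsInvertible L)
    (h : ∀ m n : ℕ, Curv2.euler k X (CohB1.tensorMod (CohB1.tensorPow L m) (CohB1.tensorPow H n)) =
      Curv2.euler k X (CohB1.tensorPow H n)) : Pic13.IsNumEquivZero k X L := by
  haveI := CurveCohLib.isNoetherian_of_proper (k := k) (X := X)
  let O := Coh.structureModule X
  let T := (AmpleVan.tw L).obj
  have hG : ∀ (G : X.Modules) (m : ℕ), PicF.cl G = PicF.cl (CohB1.tensorPow L m) → ∀ j : ℕ,
      Curv2.euler k X (CohB1.tensorMod G (CohB1.tensorPow H j)) =
        Curv2.euler k X (CohB1.tensorMod O (CohB1.tensorPow H j)) := fun G m hG j => by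
    obtain ⟨e⟩ := cl_eq_iff.1 hG
    rw [SurfInt.euler_congr k (SurfInt.tMapL e (CohB1.tensorPow H j)), h m j,
      SurfInt.euler_congr k (SurfInt.tUnitL (CohB1.tensorPow H j))]
  have hcl1 : PicF.cl (T O) = PicF.cl (CohB1.tensorPow L 1) := by
    show PicF.cl (CohB1.tensorMod _ L) = _
    rw [cl_tensor, show PicF.cl O = 1 from rfl, one_mul, cl_tensorPow, pow_one]
  have hcl2 : PicF.cl (T (T O)) = PicF.cl (CohB1.tensorPow L 2) := by
    show PicF.cl (CohB1.tensorMod (CohB1.tensorMod _ L) L) = _
    rw [cl_tensor, cl_tensor, show PicF.cl O = 1 from rfl, one_mul, cl_tensorPow, pow_two]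
  have h1 : ∀ n, iterD (L :: List.replicate n H) (Curv2.euler k X) O = 0 := fun n => by
    show iterD (List.replicate n H) _ (T O) - iterD (List.replicate n H) _ O = 0
    rw [iterD_replicate_eq k n (hG (T O) 1 hcl1), sub_self]
  have h2 : ∀ n, iterD (L :: L :: List.replicate n H) (Curv2.euler k X) O = 0 := fun n => by
    show (iterD (List.replicate n H) _ (T (T O)) - iterD (List.replicate n H) _ (T O)) -
      (iterD (List.replicate n H) _ (T O) - iterD (List.replicate n H) _ O) = 0
    rw [iterD_replicate_eq k n (hG (T O) 1 hcl1), iterD_replicate_eq k n (hG (T (T O)) 2 hcl2)]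
    ring
  set f := X ↘ Spec (CommRingCat.of k)
  have hdim : topologicalKrullDim X = ((VarDim.deg f (genericPoint X) : ℕ) : WithBot ℕ∞) :=
    VarDim.topologicalKrullDim_eq_deg_genericPoint f
  rcases Nat.lt_or_ge (VarDim.deg f (genericPoint X)) 2 with hlt | hge
  · refine isNumEquivZero_of_curveZero k fun Z ι hι hZ hZ1 => ?_
    haveI := hι
    haveI := hZ
    letI : Z.Over (Spec (CommRingCat.of k)) := ⟨ι ≫ f⟩
    haveI : IsProper (Z ↘ Spec (CommRingCat.of k)) := inferInstanceAs (IsProper (ι ≫ f))
    have h1Z : topologicalKrullDim Z ≤ ((1 : ℕ) : WithBot ℕ∞) := by rw [hZ1]; simp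
    have hle : topologicalKrullDim Z ≤ topologicalKrullDim X := ι.isClosedEmbedding.isInducing.topologicalKrullDim_le
    rw [hZ1, hdim] at hle
    have hone : VarDim.deg f (genericPoint X) = 1 := by
      have : 1 ≤ VarDim.deg f (genericPoint X) := by exact_mod_cast hle
      omega
    rw [hone] at hdim
    rw [← IntNum47.iterD_push_structure_eq_curveDeg k ι rfl h1Z hL,
      ← IntNum47.iterD_push_structure_eq_curveDeg k ι rfl h1Z InvX.isInvertible_structureModule,
      IntNum47.iterD_structure (IntNum47.isoInv_euler k)]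
    have hc : Coh.IsCoh ((Scheme.Modules.pushforward ι).obj (Coh.structureModule Z)) := QCoh.isCoh_push_structure ι
    have hl : ∀ A ∈ [L], PicF.IsInvertible A := by simp [hL]
    have h0 := iterD_eq_lenAt_mul k hdim rfl hl (QCoh.isCoh_structureModule' (X := X))
    rw [show iterD [L] (Curv2.euler k X) (Coh.structureModule X) = 0 from h1 0] at h0
    rw [iterD_eq_lenAt_mul k hdim rfl hl hc, (mul_eq_zero.1 h0.symm).resolve_left
      (by exact_mod_cast (lenAt_structure_pos hdim).ne'), mul_zero]
  · obtain ⟨s, hs⟩ : ∃ s, VarDim.deg f (genericPoint X) = s + 2 := ⟨_, (Nat.sub_add_cancel hge).symm⟩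
    rw [hs] at hdim
    exact isNumEquivZero_of_orth k hdim hH hL ⟨h1 _, (h2 _).ge⟩

/-- Condition (v) implies τ-equivalence to zero. -/
theorem isTauEquivZero_of_twists [IsAlgClosed k] [IrreducibleSpace X] {d : ℕ} (hd : topologicalKrullDim X ≤ d)
    (H L : X.Modules) (hH : CohB1.IsAmple H) (hL : PicF.IsInvertible L)
    (h : ∀ m n : ℕ,
      FGA.eulerCharLE k X (CohB1.tensorMod (CohB1.tensorPow L m) (CohB1.tensorPow H n)) d =
        FGA.eulerCharLE k X (CohB1.tensorPow H n) d) : Pic13.IsTauEquivZero k X L := by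
  haveI := CurveCohLib.isNoetherian_of_proper (k := k) (X := X)
  obtain ⟨n, j, hj, hjk⟩ := exists_embedding_of_ample (k := k) hH
  refine isTauEquivZero_of_numTriv j hjk ⟨hL, isNumEquivZero_of_twists k hH hL fun m n => ?_⟩
  have h' := h m n
  rwa [IntNum47.eulerCharLE_eq k hd (AmpleVan.isCoh_invertible
      (InvX.isInvertible_tensorMod (InvX.isInvertible_tensorPow hL m) (InvX.isInvertible_tensorPow hH.1 n))).1,
    IntNum47.eulerCharLE_eq k hd (AmpleVan.isCoh_invertible (InvX.isInvertible_tensorPow hH.1 n)).1] at h'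

end Groth.Agent.Pic13Lib
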