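import Groth.Agent.Pic13Lib.FibreInv

/-!
# Stratifying a coherent family into connected invertible families
-/

set_option autoImplicit false
set_option linter.style.haveILetI false
set_option linter.unusedSectionVars false
set_option backward.isDefEq.respectTransparency false
set_option backward.isDefEq.respectTransparency.types false
set_option maxHeartbeats 1000000
set_option synthInstance.maxHeartbeats 200000

universe u

open CategoryTheory CategoryTheory.Limits AlgebraicGeometry TopologicalSpace Opposite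

attribute [local instance] HasDerivedCategory.standard

noncomputable section

namespace Groth.Agent.Pic13Lib

open Groth.Agent

variable (k : Type u) [Field k] (X : Scheme.{u}) [X.Over (Spec (CommRingCat.of k))]

/-- An invertible family over a connected parameter scheme of finite type. -/
structure InvFam where
  T : Scheme.{u}
  q : T ⟶ Spec (CommRingCat.of k)
  conn : ConnectedSpace T
  lft : LocallyOfFiniteType q
  qc : QuasiCompact q
  M : (Pic13.prodK k X q).Modules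
  inv : PicF.IsInvertible M

variable {k X}

/-- Membership in an invertible family. -/
def InvFam.Mem (φ : InvFam k X) (L : X.Modules) : Prop :=
  ∃ (t : Spec (CommRingCat.of k) ⟶ φ.T) (ht : t ≫ φ.q = 𝟙 _), Nonempty (Pic13.fibreMod k X φ.q t ht φ.M ≅ L)

/-- The map on products induced by a map of parameter schemes. -/
def prodKMap {T T' : Scheme.{u}} (q : T ⟶ Spec (CommRingCat.of k)) (g : T' ⟶ T) :
    Pic13.prodK k X (g ≫ q) ⟶ Pic13.prodK k X q :=
  pullback.lift (pullback.fst _ _) (pullback.snd _ _ ≫ g) (by rw [pullback.condition, Category.assoc])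

theorem prodKMap_toBase {T T' : Scheme.{u}} (q : T ⟶ Spec (CommRingCat.of k)) (g : T' ⟶ T) :
    prodKMap (X := X) q g ≫ toBase q = toBase (g ≫ q) ≫ g :=
  pullback.lift_snd _ _ _

/-- Fibres of a base changed family. -/
def fibreBaseIso {T T' : Scheme.{u}} (q : T ⟶ Spec (CommRingCat.of k)) (g : T' ⟶ T)
    (t : Spec (CommRingCat.of k) ⟶ T) (ht : t ≫ q = 𝟙 _) (t' : Spec (CommRingCat.of k) ⟶ T')
    (ht' : t' ≫ g ≫ q = 𝟙 _) (hg : t' ≫ g = t) (F : (Pic13.prodK k X q).Modules) :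
    Pic13.fibreMod k X (g ≫ q) t' ht' ((Scheme.Modules.pullback (prodKMap q g)).obj F) ≅
      Pic13.fibreMod k X q t ht F :=
  (Scheme.Modules.pullbackComp (Pic13.sliceAt k X (g ≫ q) t' ht') (prodKMap q g)).app F ≪≫
    (Scheme.Modules.pullbackCongr (show Pic13.sliceAt k X (g ≫ q) t' ht' ≫ prodKMap q g =
      Pic13.sliceAt k X q t ht from by
      apply pullback.hom_ext
      · rw [Category.assoc, prodKMap, pullback.lift_fst, sliceAt_fst, sliceAt_fst]
      · rw [Category.assoc, prodKMap, pullback.lift_snd, ← Category.assoc, sliceAt_snd, Category.assoc, hg,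
          sliceAt_snd])).app F

variable [IsProper (X ↘ Spec (CommRingCat.of k))]

/-- An invertible family around a point with invertible fibre, on an integral base. -/
theorem exists_invFam_open {Z : Scheme.{u}} [IsIntegral Z] (q : Z ⟶ Spec (CommRingCat.of k))
    [LocallyOfFiniteType q] [QuasiCompact q] [IsSeparated q] {F : (Pic13.prodK k X q).Modules} (hF : Coh.IsCoh F)
    {U : Z.Opens} (hU : ∀ x, toBase (X := X) q x ∈ U → FlatMod.IsFlatOverAt (toBase q) F x)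
    (t₀ : Spec (CommRingCat.of k) ⟶ Z) (ht₀ : t₀ ≫ q = 𝟙 _) {p : Spec (CommRingCat.of k)} (hp : t₀ p ∈ U)
    (hinv : PicF.IsInvertible (Pic13.fibreMod k X q t₀ ht₀ F)) :
    ∃ (O : Z.Opens) (φ : InvFam k X), t₀ p ∈ O ∧ ∀ (t : Spec (CommRingCat.of k) ⟶ Z) (ht : t ≫ q = 𝟙 _),
      Set.range t ⊆ (O : Set Z) → φ.Mem (Pic13.fibreMod k X q t ht F) := by
  haveI : IsLocallyNoetherian Z := LocallyOfFiniteType.isLocallyNoetherian q
  haveI : CompactSpace Z := QuasiCompact.compactSpace_of_compactSpace q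
  haveI : IsNoetherian Z := { __ := ‹IsLocallyNoetherian Z›, __ := ‹CompactSpace Z› }
  let π := toBase (X := X) q
  have hcl : IsClosed (π '' ((invLocus F : Set _)ᶜ)) := π.isClosedMap _ (invLocus F).2.isClosed_compl
  let O : Z.Opens := U ⊓ ⟨(π '' ((invLocus F : Set _)ᶜ))ᶜ, hcl.isOpen_compl⟩
  have hmem : t₀ p ∈ O := by
    refine ⟨hp, ?_⟩
    rintro ⟨w, hw, hwt⟩
    obtain ⟨x, rfl⟩ := exists_slice_point t₀ ht₀ w hwt
    exact hw (mem_invLocus_of_fibre hF t₀ ht₀ hinv x (hU _ (by rw [hwt]; exact hp)))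
  have hW : ∀ y, prodKMap (X := X) q O.ι y ∈ invLocus F := fun y => by
    have h : π (prodKMap q O.ι y) ∈ O := by
      rw [← Scheme.Hom.comp_apply, prodKMap_toBase, Scheme.Hom.comp_apply]
      exact (toBase (O.ι ≫ q) y).2
    by_contra hne
    exact h.2 ⟨_, hne, rfl⟩
  haveI : Nonempty O := ⟨⟨t₀ p, hmem⟩⟩
  haveI : IrreducibleSpace O := inferInstance
  refine ⟨O, ⟨O, O.ι ≫ q, inferInstance, inferInstance, inferInstance,
    (Scheme.Modules.pullback (prodKMap q O.ι)).obj F, isInvertible_pullback_of_invLocus _ hW⟩, hmem, fun t ht hr => ?_⟩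
  let t' : Spec (CommRingCat.of k) ⟶ O := IsOpenImmersion.lift O.ι t (by rw [Scheme.Opens.range_ι]; exact hr)
  have ht' : t' ≫ O.ι = t := IsOpenImmersion.lift_fac _ _ _
  exact ⟨t', by rw [← Category.assoc, ht', ht], ⟨fibreBaseIso q O.ι t ht t' _ ht' F⟩⟩

/-- The invertible fibres of a coherent family lie in finitely many connected invertible families. -/
theorem exists_invFam_cover {T : Scheme.{u}} (q : T ⟶ Spec (CommRingCat.of k)) [LocallyOfFiniteType q]
    [QuasiCompact q] [IsSeparated q] {F : (Pic13.prodK k X q).Modules} (hF : Coh.IsCoh F) :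
    ∃ l : List (InvFam k X), ∀ (t : Spec (CommRingCat.of k) ⟶ T) (ht : t ≫ q = 𝟙 _),
      PicF.IsInvertible (Pic13.fibreMod k X q t ht F) → ∃ φ ∈ l, φ.Mem (Pic13.fibreMod k X q t ht F) := by
  classical
  haveI : IsLocallyNoetherian T := LocallyOfFiniteType.isLocallyNoetherian q
  haveI : CompactSpace T := QuasiCompact.compactSpace_of_compactSpace q
  haveI : IsNoetherian T := { __ := ‹IsLocallyNoetherian T›, __ := ‹CompactSpace T› }
  suffices h : ∀ C : Closeds T, ∃ l : List (InvFam k X), ∀ (t : Spec (CommRingCat.of k) ⟶ T) (ht : t ≫ q = 𝟙 _),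
      Set.range t ⊆ (C : Set T) → PicF.IsInvertible (Pic13.fibreMod k X q t ht F) →
      ∃ φ ∈ l, φ.Mem (Pic13.fibreMod k X q t ht F) by
    obtain ⟨l, hl⟩ := h ⊤
    exact ⟨l, fun t ht => hl t ht (Set.subset_univ _)⟩
  intro C
  induction C using WellFoundedLT.induction with
  | ind C IH =>
  let S : Set T := {z | ∃ (t : Spec (CommRingCat.of k) ⟶ T) (ht : t ≫ q = 𝟙 _),
    Set.range t ⊆ (C : Set T) ∧ PicF.IsInvertible (Pic13.fibreMod k X q t ht F) ∧ z ∈ Set.range t}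
  have hSC : closure S ⊆ (C : Set T) := C.isClosed.closure_subset_iff.2 fun z ⟨t, _, hr, _, hz⟩ => hr hz
  by_cases hdense : (C : Set T) ⊆ closure S
  swap
  · obtain ⟨l, hl⟩ := IH ⟨closure S, isClosed_closure⟩ (lt_of_le_of_ne hSC fun e =>
      hdense (congrArg SetLike.coe e).ge)
    exact ⟨l, fun t ht hr hi => hl t ht (fun z hz => subset_closure ⟨t, ht, hr, hi, hz⟩) hi⟩
  by_cases hirr : IsIrreducible (C : Set T)
  swap
  · by_cases hne : (C : Set T).Nonempty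
    swap
    · refine ⟨[], fun t ht hr _ => (hne ?_).elim⟩
      obtain ⟨p⟩ : Nonempty (Spec (CommRingCat.of k)) := inferInstance
      exact ⟨t p, hr ⟨p, rfl⟩⟩
    obtain ⟨C₁, C₂, hC₁, hC₂, hsub, h₁, h₂⟩ : ∃ C₁ C₂ : Set T, IsClosed C₁ ∧ IsClosed C₂ ∧
        (C : Set T) ⊆ C₁ ∪ C₂ ∧ ¬ (C : Set T) ⊆ C₁ ∧ ¬ (C : Set T) ⊆ C₂ := by
      simpa [IsIrreducible, hne, isPreirreducible_iff_isClosed_union_isClosed, and_assoc] using hirr
    obtain ⟨l₁, hl₁⟩ := IH (C ⊓ ⟨C₁, hC₁⟩) (lt_of_le_of_ne inf_le_left fun e => h₁ fun z hz => (e.ge hz).2)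
    obtain ⟨l₂, hl₂⟩ := IH (C ⊓ ⟨C₂, hC₂⟩) (lt_of_le_of_ne inf_le_left fun e => h₂ fun z hz => (e.ge hz).2)
    refine ⟨l₁ ++ l₂, fun t ht hr hi => ?_⟩
    obtain ⟨p⟩ : Nonempty (Spec (CommRingCat.of k)) := inferInstance
    have hrp : ∀ z ∈ Set.range t, z = t p := by
      rintro _ ⟨p', rfl⟩
      rw [Subsingleton.elim p' p]
    rcases hsub (hr ⟨p, rfl⟩) with h | h
    · obtain ⟨φ, hφ, hm⟩ := hl₁ t ht (fun z hz => ⟨hr hz, hrp z hz ▸ h⟩) hi
      exact ⟨φ, List.mem_append_left _ hφ, hm⟩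
    · obtain ⟨φ, hφ, hm⟩ := hl₂ t ht (fun z hz => ⟨hr hz, hrp z hz ▸ h⟩) hi
      exact ⟨φ, List.mem_append_right _ hφ, hm⟩
  let Z := (Scheme.IdealSheafData.vanishingIdeal C).subscheme
  let i : Z ⟶ T := (Scheme.IdealSheafData.vanishingIdeal C).subschemeι
  haveI : IsReduced Z := H23.RedSub.isReduced_vanishingIdeal C
  have hri : Set.range i = (C : Set T) := H23.RedSub.range_vanishingIdeal C
  haveI : IrreducibleSpace Z := by
    haveI : IrreducibleSpace (Set.range i) := Subtype.irreducibleSpace (hri ▸ hirr)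
    exact (i.isEmbedding.toHomeomorph.symm.irreducibleSpace_iff).1 inferInstance
  haveI : IsIntegral Z := isIntegral_of_irreducibleSpace_of_isReduced Z
  haveI : IsLocallyNoetherian Z := LocallyOfFiniteType.isLocallyNoetherian (i ≫ q)
  let G := (Scheme.Modules.pullback (prodKMap (X := X) q i)).obj F
  haveI := isNoetherian_prodK k X q
  haveI := isNoetherian_prodK k X (i ≫ q)
  have hG : Coh.IsCoh G := ZClosLib.isCoh_pullback _ hF
  obtain ⟨U, hUne, hU⟩ := S4698.result (toBase (i ≫ q)) G hG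
  obtain ⟨O₁, hO₁, hiO₁⟩ : ∃ O₁ : Set T, IsOpen O₁ ∧ i ⁻¹' O₁ = (U : Set Z) :=
    i.isEmbedding.isInducing.isOpen_iff.1 U.2
  obtain ⟨z₀, hz₀⟩ := hUne
  have hz₀' : i z₀ ∈ O₁ := by
    have : z₀ ∈ i ⁻¹' O₁ := hiO₁ ▸ hz₀
    exact this
  obtain ⟨z, hzO, t₀, ht₀, hr₀, hi₀, p, rfl⟩ :=
    mem_closure_iff.1 (hdense (hri ▸ ⟨z₀, rfl⟩)) O₁ hO₁ hz₀'
  have lift : ∀ (t : Spec (CommRingCat.of k) ⟶ T), Set.range t ⊆ (C : Set T) → ∃ t' : Spec (CommRingCat.of k) ⟶ Z,
      t' ≫ i = t := fun t hr => H23.RedSub.exists_lift_closed t i (hri.symm ▸ hr)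
  obtain ⟨u₀, hu₀⟩ := lift t₀ hr₀
  have hu₀' : u₀ ≫ i ≫ q = 𝟙 _ := by rw [← Category.assoc, hu₀, ht₀]
  have hpU : u₀ p ∈ U := by
    show u₀ p ∈ (U : Set Z)
    rw [← hiO₁, Set.mem_preimage, ← Scheme.Hom.comp_apply, hu₀]
    exact hzO
  obtain ⟨O, φ, hpO, hφ⟩ := exists_invFam_open (i ≫ q) hG hU u₀ hu₀' hpU
    (H23.PicMul.isInvertible_of_iso (fibreBaseIso q i t₀ ht₀ u₀ hu₀' hu₀ F).symm hi₀)
  let C' : Closeds T := ⟨i '' ((O : Set Z)ᶜ), i.isClosedEmbedding.isClosedMap _ O.2.isClosed_compl⟩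
  obtain ⟨l, hl⟩ := IH C' (lt_of_le_of_ne (fun z ⟨z', _, e⟩ => e ▸ hri.le ⟨z', rfl⟩) fun e => by
    have : t₀ p ∈ (C' : Set T) := e.ge (hr₀ ⟨p, rfl⟩)
    obtain ⟨z', hz', he⟩ := this
    rw [← hu₀, Scheme.Hom.comp_apply] at he
    exact hz' (i.isEmbedding.injective he ▸ hpO))
  refine ⟨φ :: l, fun t ht hr hi => ?_⟩
  obtain ⟨t', ht'⟩ := lift t hr
  have ht'' : t' ≫ i ≫ q = 𝟙 _ := by rw [← Category.assoc, ht', ht]
  by_cases h : Set.range t' ⊆ (O : Set Z)
  · obtain ⟨s, hs, ⟨e⟩⟩ := hφ t' ht'' h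
    exact ⟨φ, List.mem_cons_self, s, hs, ⟨e ≪≫ fibreBaseIso q i t ht t' ht'' ht' F⟩⟩
  · obtain ⟨_, ⟨p', rfl⟩, hp'⟩ := Set.not_subset.1 h
    obtain ⟨ψ, hψ, hm⟩ := hl t ht (by
      rintro _ ⟨p'', rfl⟩
      refine ⟨t' p', hp', ?_⟩
      rw [Subsingleton.elim p'' p', ← Scheme.Hom.comp_apply, ht']) hi
    exact ⟨ψ, List.mem_cons_of_mem _ hψ, hm⟩

/-- The same for a parameter scheme that need not be separated. -/
theorem exists_invFam_affine {T : Scheme.{u}} (q : T ⟶ Spec (CommRingCat.of k)) [LocallyOfFiniteType q]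
    [QuasiCompact q] {F : (Pic13.prodK k X q).Modules} (hF : Coh.IsCoh F) :
    ∃ l : List (InvFam k X), ∀ (t : Spec (CommRingCat.of k) ⟶ T) (ht : t ≫ q = 𝟙 _),
      PicF.IsInvertible (Pic13.fibreMod k X q t ht F) → ∃ φ ∈ l, φ.Mem (Pic13.fibreMod k X q t ht F) := by
  classical
  haveI : IsLocallyNoetherian T := LocallyOfFiniteType.isLocallyNoetherian q
  haveI : CompactSpace T := QuasiCompact.compactSpace_of_compactSpace q
  haveI := isNoetherian_prodK k X q
  obtain ⟨s, hs⟩ := isCompact_univ.elim_finite_subcover (fun U : T.affineOpens => (U.1 : Set T)) (fun U => U.1.2)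
    fun z _ => by
      obtain ⟨_, ⟨U, hU, rfl⟩, hz, -⟩ :=
        T.isBasis_affineOpens.exists_subset_of_mem_open (Set.mem_univ z) isOpen_univ
      exact Set.mem_iUnion.2 ⟨⟨U, hU⟩, hz⟩
  have key : ∀ U : T.affineOpens, ∃ l : List (InvFam k X),
      ∀ (t : Spec (CommRingCat.of k) ⟶ T) (ht : t ≫ q = 𝟙 _), Set.range t ⊆ (U.1 : Set T) →
        PicF.IsInvertible (Pic13.fibreMod k X q t ht F) → ∃ φ ∈ l, φ.Mem (Pic13.fibreMod k X q t ht F) := fun U => by
    haveI : IsAffine U.1 := U.2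
    haveI : CompactSpace U.1 := isCompact_iff_compactSpace.1 U.2.isCompact
    haveI := isNoetherian_prodK k X (U.1.ι ≫ q)
    obtain ⟨l, hl⟩ := exists_invFam_cover (U.1.ι ≫ q)
      (ZClosLib.isCoh_pullback (prodKMap (X := X) q U.1.ι) hF)
    refine ⟨l, fun t ht hr hi => ?_⟩
    let t' : Spec (CommRingCat.of k) ⟶ U.1 := IsOpenImmersion.lift U.1.ι t (by rw [Scheme.Opens.range_ι]; exact hr)
    have h' : t' ≫ U.1.ι = t := IsOpenImmersion.lift_fac _ _ _
    have ht' : t' ≫ U.1.ι ≫ q = 𝟙 _ := by rw [← Category.assoc, h', ht]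
    let e := fibreBaseIso q U.1.ι t ht t' ht' h' F
    obtain ⟨φ, hφ, s, hs', ⟨e'⟩⟩ := hl t' ht' (H23.PicMul.isInvertible_of_iso e.symm hi)
    exact ⟨φ, hφ, s, hs', ⟨e' ≪≫ e⟩⟩
  choose l hl using key
  refine ⟨s.toList.flatMap l, fun t ht hi => ?_⟩
  obtain ⟨p⟩ : Nonempty (Spec (CommRingCat.of k)) := inferInstance
  obtain ⟨U, hU, hpU⟩ := Set.mem_iUnion₂.1 (hs (Set.mem_univ (t p)))
  obtain ⟨φ, hφ, hm⟩ := hl U t ht (by rintro _ ⟨p', rfl⟩; rw [Subsingleton.elim p' p]; exact hpU) hi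
  exact ⟨φ, List.mem_flatMap.2 ⟨U, Finset.mem_toList.2 hU, hφ⟩, hm⟩

end Groth.Agent.Pic13Lib
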