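import Groth.Agent.Pic13Lib.Twist
import Groth.Agent.IntNum47.Binom

/-!
# The leading coefficients of Hilbert polynomials
-/

set_option autoImplicit false
set_option linter.style.haveILetI false
set_option linter.unusedSectionVars false
set_option backward.isDefEq.respectTransparency false
set_option backward.isDefEq.respectTransparency.types false
set_option maxHeartbeats 1000000
set_option synthInstance.maxHeartbeats 200000

universe u

open CategoryTheory CategoryTheory.Limits AlgebraicGeometry TopologicalSpace Opposite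
open Groth.Agent.H23.PicMul

attribute [local instance] HasDerivedCategory.standard

noncomputable section

namespace Groth.Agent.Pic13Lib

open Groth.Agent

/-- The binomial polynomials are independent. -/
theorem choose_coeff_zero : ∀ (r N : ℕ) (c : ℕ → ℤ),
    (∀ m, N ≤ m → ∑ j ∈ Finset.range r, c j * ((m + j).choose j : ℤ) = 0) → ∀ j, j < r → c j = 0
  | 0, _, _, _, j, hj => absurd hj (Nat.not_lt_zero j)
  | r + 1, N, c, h, j, hj => by
    have hstep : ∀ m, N + 1 ≤ m → ∑ j ∈ Finset.range r, c (j + 1) * ((m + j).choose j : ℤ) = 0 := fun m hm => by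
      obtain ⟨m', rfl⟩ := Nat.exists_eq_add_of_le' (le_trans (Nat.le_add_left 1 N) hm : 1 ≤ m)
      have h1 := h (m' + 1) (by omega)
      have h2 := h m' (by omega)
      rw [Finset.sum_range_succ'] at h1 h2
      simp only [Nat.choose_zero_right] at h1 h2
      have e : ∑ j ∈ Finset.range r, c (j + 1) * ((m' + 1 + j).choose j : ℤ) =
          ∑ j ∈ Finset.range r, c (j + 1) * ((m' + 1 + (j + 1)).choose (j + 1) : ℤ) -
            ∑ j ∈ Finset.range r, c (j + 1) * ((m' + (j + 1)).choose (j + 1) : ℤ) := by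
        rw [← Finset.sum_sub_distrib]
        refine Finset.sum_congr rfl fun i _ => ?_
        rw [show m' + 1 + (i + 1) = (m' + 1 + i) + 1 by omega, show m' + (i + 1) = m' + 1 + i by omega,
          Nat.choose_succ_succ']
        push_cast
        ring
      rw [e]
      linarith
    have ih := choose_coeff_zero r (N + 1) _ hstep
    rcases j with _ | j
    · have h1 := h N le_rfl
      rw [Finset.sum_range_succ', Finset.sum_eq_zero fun i hi => by rw [ih i (Finset.mem_range.1 hi), zero_mul]] at h1
      simpa using h1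
    · exact ih j (by omega)

/-- Change of binomial basis. -/
theorem sum_choose_shift (I : ℕ → ℤ) (m : ℕ) : ∀ r : ℕ,
    ∑ i ∈ Finset.range (r + 1), ((m + i - 1).choose i : ℤ) * I i =
      ∑ j ∈ Finset.range r, (I j - I (j + 1)) * ((m + j).choose j : ℤ) + I r * ((m + r).choose r : ℤ)
  | 0 => by simp
  | r + 1 => by
    rw [Finset.sum_range_succ, sum_choose_shift I m r, Finset.sum_range_succ (n := r),
      show m + (r + 1) - 1 = m + r by omega, show m + (r + 1) = m + r + 1 by omega, Nat.choose_succ_succ']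
    push_cast
    ring

variable {k : Type u} [Field k] {n : ℕ} {X : Scheme.{u}} [X.Over (Spec (CommRingCat.of k))]
  (i : X ⟶ CohB1.ProjSpace n k) [IsClosedImmersion i]
  (hi : i ≫ CohB1.ProjSpace.toSpec n k = X ↘ Spec (CommRingCat.of k))

include hi in
/-- The two top coefficients of the binomial expansion of `χ(F(m))`. -/
theorem coeff_eq {s : ℕ} (hdim : topologicalKrullDim X ≤ (s + 1 : ℕ)) {F : X.Modules} (hF : Coh.IsCoh F)
    (a : Fin (s + 2) → ℤ)
    (ha : ∀ m : ℕ, FGA.eulerCharLE k X (Pic13.twistOn k i F m) (s + 1) = ∑ j : Fin (s + 2), a j * ((m + j).choose j : ℤ)) :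
    a (Fin.last (s + 1)) = FGA.intNum k X (s + 1) (fun _ : Fin (s + 1) => hyp i (-1)) F ∧
      a (Fin.castSucc (Fin.last s)) = FGA.intNum k X (s + 1) (fun _ : Fin s => hyp i (-1)) F -
        FGA.intNum k X (s + 1) (fun _ : Fin (s + 1) => hyp i (-1)) F := by
  haveI := isProper i hi
  haveI := isNoetherian i
  let I : ℕ → ℤ := fun p => FGA.intNum k X (s + 1) (fun _ : Fin p => hyp i (-1)) F
  let b : ℕ → ℤ := fun p => if p < s + 1 then I p - I (p + 1) else I p
  let c : ℕ → ℤ := fun p => (if h : p < s + 2 then a ⟨p, h⟩ else 0) - b p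
  have hpow : ∀ d : ℕ, PicF.cl (hyp i 1) ^ d = PicF.cl (hyp i (d : ℤ)) := fun d => by
    induction d with
    | zero => rw [pow_zero, Nat.cast_zero, cl_hyp_zero]
    | succ d ih => rw [pow_succ, ih, cl_hyp_add, Nat.cast_succ]
  have einv : Nonempty (CohB1.tensorMod (hyp i 1) (hyp i (-1)) ≅ Coh.structureModule X) :=
    cl_eq_iff.1 (by rw [cl_tensor, cl_hyp_add, ← one_def, show (1 : ℤ) + -1 = 0 by norm_num, cl_hyp_zero])
  have hzero : ∀ m, 0 ≤ m → ∑ p ∈ Finset.range (s + 2), c p * ((m + p).choose p : ℤ) = 0 := fun m _ => by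
    simp only [c, sub_mul, Finset.sum_sub_distrib]
    have h1 : ∑ p ∈ Finset.range (s + 2), (if h : p < s + 2 then a ⟨p, h⟩ else 0) * ((m + p).choose p : ℤ) =
        ∑ j : Fin (s + 2), a j * ((m + j).choose j : ℤ) := by
      rw [← Fin.sum_univ_eq_sum_range (fun p => (if h : p < s + 2 then a ⟨p, h⟩ else 0) * ((m + p).choose p : ℤ))]
      exact Finset.sum_congr rfl fun j _ => by rw [dif_pos j.2]
    have hX : topologicalKrullDim ↥(CohB1.support F) ≤ ((s + 1 : ℕ) : WithBot ℕ∞) :=
      (topologicalKrullDim_subspace_le _ _).trans hdim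
    obtain ⟨e⟩ : Nonempty (Pic13.twistOn k i F (m : ℤ) ≅ CohB1.tensorMod (CohB1.tensorPow (hyp i 1) m) F) :=
      cl_eq_iff.1 (by rw [cl_twistOn, cl_tensor, cl_tensorPow, hpow, mul_comm])
    rw [h1, ← ha m, IntNum47.eulerCharLE_eq k hdim (isCoh_twistOn i hF m).1,
      (HilbPoly.additive_euler k).iso _ _ ⟨e⟩, ← IntNum47.eulerCharLE_eq k hdim
        (AmpleVan.isCoh_tensor (AmpleVan.isCoh_invertible (InvX.isInvertible_tensorPow (isInvertible_hyp i 1) m)) hF).1,
      IntNum47.euler_pow_eq_sum k hdim (isInvertible_hyp i 1) (isInvertible_hyp i (-1)) einv.some hF hX m,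
      sum_choose_shift]
    have hb : ∑ p ∈ Finset.range (s + 1), b p * ((m + p).choose p : ℤ) =
        ∑ p ∈ Finset.range (s + 1), (I p - I (p + 1)) * ((m + p).choose p : ℤ) :=
      Finset.sum_congr rfl fun p hp => by rw [show b p = I p - I (p + 1) from if_pos (Finset.mem_range.1 hp)]
    rw [Finset.sum_range_succ (fun p => b p * ((m + p).choose p : ℤ)), hb,
      show b (s + 1) = I (s + 1) from if_neg (lt_irrefl _)]
    simp only [I]
    ring
  have hc := choose_coeff_zero (s + 2) 0 c hzero
  have h1 := hc (s + 1) (by omega)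
  have h2 := hc s (by omega)
  simp only [c, b] at h1 h2
  rw [dif_pos (by omega), if_neg (lt_irrefl _)] at h1
  rw [dif_pos (by omega), if_pos (Nat.lt_succ_self s)] at h2
  exact ⟨sub_eq_zero.1 h1, sub_eq_zero.1 h2⟩

end Groth.Agent.Pic13Lib
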