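import Groth.Agent.ArSurfBase.CodimOne
import Groth.Agent.ModPairLib.Quot
import Groth.Agent.CDiv6.Normal

/-!
# Divisibility in codimension one on a normal scheme; colon ideals; stalks at the generic point of a curve
-/

set_option autoImplicit false
set_option linter.style.haveILetI false
set_option linter.unusedSectionVars false

universe u

open CategoryTheory AlgebraicGeometry IsLocalRing TopologicalSpace

namespace Groth.Agent.Pic13Lib

open Groth.Agent
open Groth.Agent.CDivEq (stk)

variable {S : Scheme.{u}}

/-- Inclusion of effective Cartier ideals on a normal scheme can be checked in codimension one. -/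
theorem le_of_stk_normal [IsLocallyNoetherian S] (hS : Pi1.IsNormalScheme S) {F G : S.IdealSheafData}
    (hF : BlowUp.IsEffCartierIdeal F) (hG : BlowUp.IsEffCartierIdeal G)
    (hle : ∀ (y : S) (W : S.affineOpens) (hy : y ∈ W.1), ringKrullDim (S.presheaf.stalk y) = 1 →
      stk F W hy ≤ stk G W hy) : F ≤ G := by
  intro W
  refine CDivEq.le_of_stk _ _ W fun x hx => ?_
  obtain ⟨g, hg, hFg⟩ := CDivEq.exists_gen F hF W hx
  obtain ⟨k, hk, hGk⟩ := CDivEq.exists_gen G hG W hx
  rw [hFg, hGk, Ideal.span_singleton_le_span_singleton]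
  haveI := (hS x).1
  haveI := (hS x).2
  refine S7125.dvd_of_forall_height_one (nonZeroDivisors.ne_zero hk) fun p _ hp hkp => ?_
  obtain ⟨y, hyx, hpy⟩ := H23.StalkPrimes.exists_point p
  letI := (S.presheaf.stalkSpecializes hyx).hom.toAlgebra
  haveI : IsLocalization.AtPrime (S.presheaf.stalk y) p := by
    have := H23.StalkPrimes.isLocalization_primeOf hyx
    simp only [IsLocalization.AtPrime, hpy] at this ⊢
    exact this
  have hyW : y ∈ W.1 := hyx.mem_open W.1.isOpen hx
  have hh := hle y W hyW (by
    rw [IsLocalization.AtPrime.ringKrullDim_eq_height p (S.presheaf.stalk y), hp]; rfl)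
  have e : ∀ I : S.IdealSheafData, stk I W hyW = (stk I W hx).map (algebraMap _ (S.presheaf.stalk y)) := fun I => by
    rw [stk, stk, Ideal.map_map, RingHom.algebraMap_toAlgebra, ← CommRingCat.hom_comp,
      S.presheaf.germ_stalkSpecializes]
  rw [e, e, hFg, hGk, Ideal.map_span, Ideal.map_span, Set.image_singleton, Set.image_singleton,
    Ideal.span_singleton_le_span_singleton] at hh
  let ε := IsLocalization.algEquiv p.primeCompl (S.presheaf.stalk y) (Localization.AtPrime p)
  have := map_dvd ε hh
  simpa only [AlgEquiv.commutes] using this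

/-- `(I : E)` on a locally Noetherian scheme. -/
noncomputable def colonN [IsLocallyNoetherian S] (I E : S.IdealSheafData) : S.IdealSheafData where
  ideal U := (I.ideal U).colon (E.ideal U : Set Γ(S, U.1))
  map_ideal_basicOpen U f := by
    have := U.2.isLocalization_basicOpen f
    haveI := IsLocallyNoetherian.component_noetherian U
    rw [← I.map_ideal (U := S.affineBasicOpen f) (V := U) (S.basicOpen_le f),
      ← E.map_ideal (U := S.affineBasicOpen f) (V := U) (S.basicOpen_le f)]
    exact ModPairLib.map_colon (S := Γ(S, S.basicOpen f)) f (I.ideal U) (E.ideal U) (IsNoetherian.noetherian _)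

theorem colonN_mul_le [IsLocallyNoetherian S] (I E : S.IdealSheafData) : colonN I E * E ≤ I := fun U => by
  rw [Scheme.IdealSheafData.ideal_mul, Pi.mul_apply, Ideal.mul_le]
  exact fun r hr s hs => Submodule.mem_colon.1 hr s hs

theorem stk_colonN_eq_top [IsLocallyNoetherian S] {I E : S.IdealSheafData} {U : S.affineOpens} {x : S}
    (hx : x ∈ U.1) (h : stk E U hx ≤ stk I U hx) : stk (colonN I E) U hx = ⊤ := by
  classical
  haveI := IsLocallyNoetherian.component_noetherian U
  letI := S.presheaf.algebra_section_stalk (U := U.1) ⟨x, hx⟩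
  haveI := U.2.isLocalization_stalk ⟨x, hx⟩
  set P := (U.2.primeIdealOf ⟨x, hx⟩).asIdeal
  have hP : ¬ (colonN I E).ideal U ≤ P := fun hle => by
    obtain ⟨T, hT⟩ := (IsNoetherian.noetherian (E.ideal U) : (E.ideal U).FG)
    have key : ∀ e ∈ T, ∃ s ∈ P.primeCompl, s * e ∈ I.ideal U := fun e he =>
      (IsLocalization.algebraMap_mem_map_algebraMap_iff P.primeCompl _ _ _).1
        (h (Ideal.mem_map_of_mem _ (hT ▸ Ideal.subset_span he)))
    choose! s hs hse using key
    have hprod : (∏ e ∈ T, s e) ∈ P.primeCompl := prod_mem hs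
    refine hprod (hle (Submodule.mem_colon.2 fun z hz => ?_))
    rw [SetLike.mem_coe, ← hT] at hz
    induction hz using Submodule.span_induction with
    | mem e he =>
      rw [smul_eq_mul, ← Finset.prod_erase_mul T s he, mul_assoc]
      exact Ideal.mul_mem_left _ _ (hse e he)
    | zero => rw [smul_zero]; exact zero_mem _
    | add _ _ _ _ h1 h2 => rw [smul_add]; exact add_mem h1 h2
    | smul r _ _ h1 => rw [smul_comm]; exact Submodule.smul_mem _ r h1
  obtain ⟨a, ha, haP⟩ := SetLike.not_le_iff_exists.1 hP
  exact Ideal.eq_top_of_isUnit_mem _ (Ideal.mem_map_of_mem _ ha)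
    (IsLocalization.map_units (S.presheaf.stalk x) (⟨a, haP⟩ : P.primeCompl))

/-- The ideal of an integral closed subscheme at its generic point is the maximal ideal. -/
theorem stk_eq_maximalIdeal (I : S.IdealSheafData) [IsIntegral I.subscheme] (U : S.affineOpens)
    (hη : I.subschemeι (genericPoint I.subscheme) ∈ U.1) :
    stk I U hη = maximalIdeal _ := by
  refine le_antisymm ?_ fun z hz => ?_
  · refine IsLocalRing.le_maximalIdeal ((CDivEq.mem_support_iff I U hη).1 ?_)
    rw [← Scheme.IdealSheafData.range_subschemeι]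
    exact ⟨_, rfl⟩
  letI := S.presheaf.algebra_section_stalk (U := U.1) ⟨_, hη⟩
  haveI := U.2.isLocalization_stalk ⟨_, hη⟩
  set P := (U.2.primeIdealOf ⟨_, hη⟩).asIdeal
  have hle : P ≤ I.ideal U := fun a ha => by
    rw [← I.ker_subschemeι_app U, RingHom.mem_ker]
    by_contra hne
    haveI : Nonempty (I.subschemeι ⁻¹ᵁ U.1 : I.subscheme.Opens) := ⟨⟨_, hη⟩⟩
    have hb : genericPoint I.subscheme ∈ I.subscheme.basicOpen (I.subschemeι.app U.1 a) := by
      obtain ⟨z, hz⟩ := Set.nonempty_iff_ne_empty.2 fun he => hne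
        ((AlgebraicGeometry.basicOpen_eq_bot_iff _).1 (Opens.ext he))
      exact ((genericPoint_spec I.subscheme).mem_open_set_iff (I.subscheme.basicOpen _).2).2 ⟨z, trivial, hz⟩
    rw [← Scheme.preimage_basicOpen] at hb
    have hu : IsUnit (algebraMap Γ(S, U.1) (S.presheaf.stalk _) a) := (S.mem_basicOpen a _ hη).1 hb
    exact ((IsLocalization.AtPrime.isUnit_to_map_iff (S.presheaf.stalk _) P a).1 hu) ha
  rw [← IsLocalization.AtPrime.map_eq_maximalIdeal P (S.presheaf.stalk _)] at hz
  exact Ideal.map_mono hle hz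

end Groth.Agent.Pic13Lib
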