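import Groth.Agent.Pic13Lib.CartierMember
import Groth.Agent.Pic13Lib.NormalCodim
import Groth.Agent.NonPureLib.CurveHom
import Groth.Agent.SurfInt.Hodge
import Groth.Agent.SurfInt.Positivity
import Groth.Agent.SurfInt.Curve
import Groth.Agent.SurfInt.Degrees
import Groth.Agent.VarBase.Decomp
import Groth.Agent.IntNum47.IterD

/-!
# On a normal surface a class orthogonal to an ample one, with nonnegative square, has degree zero on curves
-/

set_option autoImplicit false
set_option linter.style.haveILetI false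
set_option linter.unusedSectionVars false
set_option backward.isDefEq.respectTransparency false
set_option backward.isDefEq.respectTransparency.types false

universe u

open CategoryTheory CategoryTheory.Limits AlgebraicGeometry TopologicalSpace Opposite IsLocalRing

noncomputable section

namespace Groth.Agent.Pic13Lib

open Groth.Agent Groth.Agent.H23 Groth.Agent.H23.PicMul
open Groth.Agent.CDivEq (stk)

variable {X : Scheme.{u}}

/-- Killing of a section in the quotient by an ideal, at a point. -/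
theorem germ_mem_stk_of_germ_toSubscheme_eq_zero [IsLocallyNoetherian X] (I : X.IdealSheafData)
    (U : X.affineOpens) {x : X} (hx : x ∈ U.1) (a : Γ(X, U.1))
    (h : (ClSub.quotMod I).presheaf.germ U.1 x hx ((ClSub.toSubscheme I).app U.1 a) = 0) :
    X.presheaf.germ U.1 x hx a ∈ stk I U hx := by
  rw [← map_zero ((ClSub.quotMod I).presheaf.germ U.1 x hx).hom] at h
  obtain ⟨V, hxV, i₁, i₂, hV⟩ := (ClSub.quotMod I).presheaf.germ_eq x hx hx _ _ h
  obtain ⟨_, ⟨W, hW, rfl⟩, hxW, hWV⟩ := X.isBasis_affineOpens.exists_subset_of_mem_open hxV V.isOpen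
  have hWU : W ≤ U.1 := le_trans hWV i₁.le
  have h0 : I.subschemeι.app W (X.presheaf.map (homOfLE hWU).op a) = 0 := by
    rw [map_zero] at hV
    have h1 := congrArg ((ClSub.quotMod I).presheaf.map (homOfLE hWV).op) hV
    rw [map_zero, ← ConcreteCategory.comp_apply, ← Functor.map_comp] at h1
    refine Eq.trans ?_ h1
    exact AModX.app_res (ClSub.toSubscheme I) hWU (show Γ(Coh.structureModule X, U.1) from a)
  rw [← RingHom.mem_ker, I.ker_subschemeι_app ⟨W, hW⟩] at h0
  have h2 := Ideal.mem_map_of_mem (X.presheaf.germ W x hxW).hom h0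
  rw [X.presheaf.germ_res_apply] at h2
  rw [CDivEq.stk_congr I U ⟨W, hW⟩ hx hxW]
  exact h2

theorem stk_mul (I J : X.IdealSheafData) (U : X.affineOpens) {x : X} (hx : x ∈ U.1) :
    stk (I * J) U hx = stk I U hx * stk J U hx := by
  rw [CDivEq.stk, Scheme.IdealSheafData.ideal_mul, Pi.mul_apply, Ideal.map_mul]

theorem stk_pow (I : X.IdealSheafData) (U : X.affineOpens) {x : X} (hx : x ∈ U.1) :
    ∀ j : ℕ, stk (I ^ j) U hx = stk I U hx ^ j
  | 0 => by
    rw [pow_zero, pow_zero, Ideal.one_eq_top, CDivEq.stk, show (1 : X.IdealSheafData) = ⊤ from rfl,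
      Scheme.IdealSheafData.ideal_top, Pi.top_apply, Ideal.map_top]
  | j + 1 => by rw [pow_succ, pow_succ, stk_mul, stk_pow I U hx j]

theorem pow_succ_le (I : X.IdealSheafData) (i : ℕ) : I ^ (i + 1) ≤ I ^ i := fun U => by
  rw [pow_succ, Scheme.IdealSheafData.ideal_mul, Pi.mul_apply]
  exact Ideal.mul_le_left

theorem isEffCartier_one : BlowUp.IsEffCartierIdeal (1 : X.IdealSheafData) := fun x => by
  obtain ⟨_, ⟨U, hU, rfl⟩, hxU, -⟩ := X.isBasis_affineOpens.exists_subset_of_mem_open (Set.mem_univ x) isOpen_univ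
  refine ⟨⟨U, hU⟩, hxU, 1, one_mem _, ?_⟩
  rw [Ideal.span_singleton_one, show (1 : X.IdealSheafData) = ⊤ from rfl, Scheme.IdealSheafData.ideal_top]
  rfl

theorem isEffCartier_pow {F : X.IdealSheafData} (hF : BlowUp.IsEffCartierIdeal F) :
    ∀ j : ℕ, BlowUp.IsEffCartierIdeal (F ^ j)
  | 0 => by rw [pow_zero]; exact isEffCartier_one
  | j + 1 => pow_succ F j ▸ ModPairLib.isEffCartier_mul (isEffCartier_pow hF j) hF

variable (k : Type u) [Field k] [X.Over (Spec (CommRingCat.of k))] [IsProper (X ↘ Spec (CommRingCat.of k))]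

/-- The step of the chain: a strictly bigger ideal at the curve has smaller degree. -/
theorem curveDeg_step {H : X.Modules} (hH : CohB1.IsAmple H) {I₁ I₂ : X.IdealSheafData} (hle : I₁ ≤ I₂)
    (hd : topologicalKrullDim (I₁.support : Set X) ≤ 1) {η : X}
    (hη1 : topologicalKrullDim (closure ({η} : Set X)) = 1) (U : X.affineOpens) (hη : η ∈ U.1)
    (hne : ¬ stk I₂ U hη ≤ stk I₁ U hη) :
    SurfInt.curveDeg k I₂ H + 1 ≤ SurfInt.curveDeg k I₁ H := by
  haveI := CurveCohLib.isNoetherian_of_proper (k := k) (X := X)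
  let r : ClSub.quotMod I₁ ⟶ ClSub.quotMod I₂ :=
    (SurfInt.idealSeq_shortExact I₁).gIsCokernel.desc
      (CokernelCofork.ofπ (ClSub.toSubscheme I₂) (SurfInt.idealModι_toSubscheme hle))
  have hr : ClSub.toSubscheme I₁ ≫ r = ClSub.toSubscheme I₂ :=
    (SurfInt.idealSeq_shortExact I₁).gIsCokernel.fac _ WalkingParallelPair.one
  haveI : Epi (ClSub.toSubscheme I₂) := (SurfInt.idealSeq_shortExact I₂).epi_g
  haveI : Epi r := epi_of_epi_fac hr
  have hc₁ := ParShLib.isCoh_quotMod I₁
  have hc₂ := ParShLib.isCoh_quotMod I₂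
  have hK : Coh.IsCoh (kernel r) := QCoh.isCoh_kernel hc₁ hc₂ r
  have hS : (ShortComplex.mk (kernel.ι r) r (kernel.condition r)).ShortExact :=
    { exact := ShortComplex.exact_kernel r, mono_f := inferInstance, epi_g := ‹_› }
  have hsub : CohB1.support (kernel r) ⊆ (I₁.support : Set X) :=
    (QCoh.mem_support_of_mono hK.1 hc₁.1 (kernel.ι r)).trans (SurfInt.support_quotMod_subset' I₁)
  have hmem : η ∈ CohB1.support (kernel r) := by
    show ¬ Subsingleton ((kernel r).presheaf.stalk η)
    intro hss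
    refine hne (Ideal.map_le_iff_le_comap.2 fun a ha => ?_)
    have hinj : Function.Injective ((DerSch.stalkFunctor X η).map r) := by
      have hS' := hS.map_of_exact (DerSch.stalkFunctor X η)
      refine (injective_iff_map_eq_zero _).2 fun z hz => ?_
      obtain ⟨w, rfl⟩ := (ShortComplex.moduleCat_exact_iff _).1 hS'.exact z hz
      rw [show w = 0 from @Subsingleton.elim _ hss _ _, map_zero]
    refine germ_mem_stk_of_germ_toSubscheme_eq_zero I₁ U hη a (hinj ?_)
    have h0 : (ClSub.toSubscheme I₂).app U.1 a = 0 := by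
      show I₂.subschemeι.app U.1 a = 0
      rw [← RingHom.mem_ker, I₂.ker_subschemeι_app U]
      exact ha
    rw [← hr] at h0
    refine (TopCat.Presheaf.stalkFunctor_map_germ_apply _ η hη ((Scheme.Modules.toPresheaf X).map r) _).trans ?_
    exact (congrArg _ h0).trans ((map_zero _).trans (map_zero _).symm)
  have hle' : topologicalKrullDim ↥(CohB1.support (kernel r)) ≤ ((1 : ℕ) : WithBot ℕ∞) :=
    (H23.TopDim.dim_le_dim_of_subset hsub).trans hd
  have heq : topologicalKrullDim ↥(CohB1.support (kernel r)) = ((1 : ℕ) : WithBot ℕ∞) :=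
    le_antisymm hle' (hη1.symm.le.trans (H23.TopDim.dim_le_dim_of_subset
      ((QCoh.isClosed_support_of_isFT hK.1 hK.2).closure_subset_iff.2 (Set.singleton_subset_iff.2 hmem))))
  have hpos : 0 < HilbPoly.iterD [H] (Curv2.euler k X) (kernel r) :=
    (HilbPoly.mult_nonneg_and_pos k hH 1 _ hK hle').2 heq
  have hadd := (HilbPoly.additive_iterD (HilbPoly.additive_euler k) (l := [H]) (by simp [hH.1])).add _ hS hK hc₁ hc₂
  dsimp only at hadd
  have e : ∀ I : X.IdealSheafData,
      SurfInt.curveDeg k I H = HilbPoly.iterD [H] (Curv2.euler k X) (ClSub.quotMod I) := fun I => rfl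
  rw [e, e]
  omega

theorem curveDeg_nonneg_of_dim {H : X.Modules} (hH : CohB1.IsAmple H) {I : X.IdealSheafData}
    (hI : topologicalKrullDim (I.support : Set X) ≤ 1) : 0 ≤ SurfInt.curveDeg k I H := by
  haveI := CurveCohLib.isNoetherian_of_proper (k := k) (X := X)
  exact (HilbPoly.mult_nonneg_and_pos k hH 1 _ (ParShLib.isCoh_quotMod I)
    ((VarBase.dim_support_quotMod_le I).trans hI)).1

variable {Γ : X.IdealSheafData}

/-- Additivity of the degree on a one-dimensional subscheme. -/
theorem curveDeg_tensor' (hΓ : topologicalKrullDim (Γ.support : Set X) ≤ 1)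
    {A B : X.Modules} (hA : PicF.IsInvertible A) (hB : PicF.IsInvertible B) :
    SurfInt.curveDeg k Γ (CohB1.tensorMod A B) = SurfInt.curveDeg k Γ A + SurfInt.curveDeg k Γ B := by
  haveI := CurveCohLib.isNoetherian_of_proper (k := k) (X := X)
  have hlt : HilbPoly.DimLT (ClSub.quotMod Γ) 2 :=
    ((VarBase.dim_support_quotMod_le Γ).trans hΓ).trans_lt (by norm_num)
  have h0 := HilbPoly.iterD_eq_zero 2 (HilbPoly.additive_euler k) [A, B] rfl (by simp [hA, hB])
    (ClSub.quotMod Γ) (ParShLib.isCoh_quotMod Γ) hlt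
  have h1 := SurfInt.euler_congr k (SurfInt.tAssoc (ClSub.quotMod Γ) A B)
  unfold SurfInt.curveDeg
  dsimp only [HilbPoly.iterD] at h0
  have h2 : ∀ F M : X.Modules, (AmpleVan.tw M).obj F = CohB1.tensorMod F M := fun _ _ => rfl
  simp only [h2] at h0
  linarith

/-- The degree of an inverse class. -/
theorem curveDeg_of_cl_mul_eq_one (hΓ : topologicalKrullDim (Γ.support : Set X) ≤ 1)
    {A B : X.Modules} (hA : PicF.IsInvertible A) (hB : PicF.IsInvertible B)
    (h : PicF.cl A * PicF.cl B = 1) : SurfInt.curveDeg k Γ A = - SurfInt.curveDeg k Γ B := by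
  obtain ⟨e⟩ := cl_eq_iff.1 (show PicF.cl (CohB1.tensorMod A B) = PicF.cl (Coh.structureModule X) by
    rw [cl_tensor, h, PicMul.one_def])
  have h1 := curveDeg_tensor' k hΓ hA hB
  rw [SurfInt.curveDeg_congr k Γ e, SurfInt.curveDeg_O] at h1
  linarith

theorem curveDeg_tensorPow (hΓ : topologicalKrullDim (Γ.support : Set X) ≤ 1)
    {A : X.Modules} (hA : PicF.IsInvertible A) : ∀ n : ℕ,
    SurfInt.curveDeg k Γ (CohB1.tensorPow A n) = n * SurfInt.curveDeg k Γ A
  | 0 => by simpa [CohB1.tensorPow] using SurfInt.curveDeg_O k Γ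
  | n + 1 => by
    show SurfInt.curveDeg k Γ (CohB1.tensorMod (CohB1.tensorPow A n) A) = _
    rw [curveDeg_tensor' k hΓ (InvX.isInvertible_tensorPow hA n) hA, curveDeg_tensorPow hΓ hA n]
    push_cast; ring

theorem curveDeg_idealMod_mul (hΓ : topologicalKrullDim (Γ.support : Set X) ≤ 1)
    {F G : X.IdealSheafData} (hF : BlowUp.IsEffCartierIdeal F) (hG : BlowUp.IsEffCartierIdeal G) :
    SurfInt.curveDeg k Γ (ClSub.idealMod (F * G)) =
      SurfInt.curveDeg k Γ (ClSub.idealMod F) + SurfInt.curveDeg k Γ (ClSub.idealMod G) := by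
  obtain ⟨e⟩ := SurfInt.nonempty_idealMod_mul hF hG
  rw [SurfInt.curveDeg_congr k Γ e,
    curveDeg_tensor' k hΓ (SurfInt.isInvertible_idealMod hF) (SurfInt.isInvertible_idealMod hG)]

theorem curveDeg_idealMod_pow (hΓ : topologicalKrullDim (Γ.support : Set X) ≤ 1)
    {F : X.IdealSheafData} (hF : BlowUp.IsEffCartierIdeal F) :
    ∀ j : ℕ, SurfInt.curveDeg k Γ (ClSub.idealMod (F ^ j)) = j * SurfInt.curveDeg k Γ (ClSub.idealMod F)
  | 0 => by
    have h := curveDeg_idealMod_mul k hΓ (isEffCartier_one (X := X)) (isEffCartier_one (X := X))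
    rw [mul_one] at h
    rw [pow_zero]
    push_cast
    linarith
  | j + 1 => by
    rw [pow_succ, curveDeg_idealMod_mul k hΓ (isEffCartier_pow hF j) hF, curveDeg_idealMod_pow hΓ hF j]
    push_cast; ring

/-- An effective Cartier divisor not through the generic point of an integral curve meets it nonnegatively. -/
theorem curveDeg_idealMod_nonpos' [IsIntegral Γ.subscheme]
    (hΓ : topologicalKrullDim (Γ.support : Set X) ≤ 1) {R : X.IdealSheafData}
    (hR : BlowUp.IsEffCartierIdeal R) (hη : Γ.subschemeι (genericPoint Γ.subscheme) ∉ (R.support : Set X)) :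
    SurfInt.curveDeg k Γ (ClSub.idealMod R) ≤ 0 := by
  haveI := CurveCohLib.isNoetherian_of_proper (k := k) (X := X)
  let i := Γ.subschemeι
  letI : Γ.subscheme.Over (Spec (CommRingCat.of k)) := ⟨i ≫ (X ↘ Spec (CommRingCat.of k))⟩
  haveI : IsProper (Γ.subscheme ↘ Spec (CommRingCat.of k)) :=
    inferInstanceAs (IsProper (i ≫ (X ↘ Spec (CommRingCat.of k))))
  haveI := CurveCohLib.isNoetherian_of_proper (k := k) (X := Γ.subscheme)
  have hdim : topologicalKrullDim Γ.subscheme ≤ 1 := by
    rw [IsHomeomorph.topologicalKrullDim_eq _ i.isClosedEmbedding.isEmbedding.toHomeomorph.isHomeomorph,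
      Scheme.IdealSheafData.range_subschemeι]
    exact hΓ
  have hM := SurfInt.isInvertible_idealMod hR
  have hg : ClSub.idealModι R ≫ ClSub.toSubscheme Γ ≠ 0 := fun h0 => by
    obtain ⟨_, ⟨U, hU, rfl⟩, hηU, -⟩ := X.isBasis_affineOpens.exists_subset_of_mem_open
      (Set.mem_univ (Γ.subschemeι (genericPoint Γ.subscheme))) isOpen_univ
    refine (CDivEq.mem_support_iff Γ ⟨U, hU⟩ hηU).1
      (by rw [← Scheme.IdealSheafData.range_subschemeι]; exact ⟨_, rfl⟩) (top_le_iff.1 ?_)
    rw [← not_not.1 (mt (CDivEq.mem_support_iff R ⟨U, hU⟩ hηU).2 hη)]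
    refine Ideal.map_mono fun b hb => ?_
    obtain ⟨b', rfl⟩ := OmegaLib.exists_of_mem R ⟨U, hU⟩ b hb
    rw [← Γ.ker_subschemeι_app ⟨U, hU⟩, RingHom.mem_ker]
    exact congr(($h0).app U b')
  let adj := Scheme.Modules.pullbackPushforwardAdjunction i
  let f : (Scheme.Modules.pullback i).obj (ClSub.idealMod R) ⟶ Coh.structureModule Γ.subscheme :=
    (adj.homEquiv _ _).symm (ClSub.idealModι R ≫ ClSub.toSubscheme Γ)
  have hf : f ≠ 0 := fun h0 => hg (by
    have h1 : adj.homEquiv _ _ f = _ := (adj.homEquiv _ _).apply_symm_apply _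
    rw [← h1, h0, Adjunction.homEquiv_unit, Functor.map_zero, comp_zero])
  have hO := CurveTensor.exists_basis_stalk
    (InvEnd.isFinLocFreeOfRank_one (InvX.isInvertible_structureModule (X := Γ.subscheme)))
  have hle := NonPureLib.euler_le_of_hom (K := k) hdim (PicClLib.isInvertible_pullback i hM)
    QCoh.isCoh_structureModule' (fun x => by
      obtain ⟨b⟩ := hO x
      exact Function.Injective.moduleIsTorsionFree b.equivFun.toLinearMap b.equivFun.injective
        (fun a m => map_smul _ a m))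
    (by
      obtain ⟨b⟩ := hO (genericPoint Γ.subscheme)
      rw [Module.finrank_eq_card_basis b, Fintype.card_fin]) f hf
  have h1 : Curv2.euler k X (CohB1.tensorMod (ClSub.quotMod Γ) (ClSub.idealMod R)) = _ :=
    SurfInt.euler_quot_tensor k i rfl (AmpleVan.isCoh_invertible hM).1
  have h2 : Curv2.euler k X (ClSub.quotMod Γ) = _ := SurfInt.euler_push k i rfl QCoh.isQCoh_structureModule
  unfold SurfInt.curveDeg
  rw [h1, h2]
  linarith

section Main

variable [IsIntegral X]

/-- The main estimate. -/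
theorem curveDeg_nonneg_of_orthogonal (hdim : topologicalKrullDim X = 2) (hN : Pi1.IsNormalScheme X)
    {H L : X.Modules} (hH : CohB1.IsAmple H) (hL : PicF.IsInvertible L)
    (hLH : SurfInt.pair k L H = 0) (hLL : 0 ≤ SurfInt.pair k L L)
    (Γ : X.IdealSheafData) [IsIntegral Γ.subscheme] (hΓ : topologicalKrullDim (Γ.support : Set X) = 1) :
    0 ≤ SurfInt.curveDeg k Γ L := by
  haveI := CurveCohLib.isNoetherian_of_proper (k := k) (X := X)
  haveI : X.IsSeparated := SurfInt.isSeparated_of_proper k (X := X)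
  have hdim' : topologicalKrullDim X ≤ (2 : ℕ) := hdim.le
  have hΓ' : topologicalKrullDim (Γ.support : Set X) ≤ 1 := hΓ.le
  set η := Γ.subschemeι (genericPoint Γ.subscheme) with hηdef
  obtain ⟨_, ⟨U₀, hU₀, rfl⟩, hη, -⟩ :=
    X.isBasis_affineOpens.exists_subset_of_mem_open (Set.mem_univ η) isOpen_univ
  let U : X.affineOpens := ⟨U₀, hU₀⟩
  have hcl : closure ({η} : Set X) = Γ.support := by
    rw [← Scheme.IdealSheafData.range_subschemeι]
    exact (QCoh.range_eq_closure Γ.subschemeι).symm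
  have hη1 : topologicalKrullDim (closure ({η} : Set X)) = 1 := by rw [hcl]; exact hΓ
  have hkd := SurfInt.ringKrullDim_stalk_curve k hdim Γ hΓ
  haveI := (hN η).1
  haveI := (hN η).2
  haveI : IsDiscreteValuationRing (X.presheaf.stalk η) := CDiv6.isDVR_of_dim_eq_one _ hkd
  obtain ⟨π, hπ⟩ := IsDiscreteValuationRing.exists_irreducible (X.presheaf.stalk η)
  have hm : stk Γ U hη = Ideal.span {π} :=
    (stk_eq_maximalIdeal Γ U hη).trans hπ.maximalIdeal_eq
  -- the member through the curve
  obtain ⟨t, ht⟩ := exists_member hH Γ U hη hπ.ne_zero hm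
  obtain ⟨F, hF, hFΓ, hFη, hFcl⟩ := ht t le_rfl
  rw [hm] at hFη
  -- the member in the residual ideal
  have hJ : stk (colonN F Γ) U hη = Ideal.span {(1 : X.presheaf.stalk η)} := by
    rw [Ideal.span_singleton_one]
    exact stk_colonN_eq_top hη (hm.trans hFη.symm).le
  obtain ⟨u, hu⟩ := exists_member hH (colonN F Γ) U hη one_ne_zero hJ
  obtain ⟨G, hG, hGJ, hGη, hGcl⟩ := hu u le_rfl
  rw [hJ, Ideal.span_singleton_one] at hGη
  set c := SurfInt.curveDeg k Γ H
  have hc : 0 < c := SurfInt.curveDeg_pos_of_ample k hH hΓ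
  have hHt := InvX.isInvertible_tensorPow hH.1 t
  have hHu := InvX.isInvertible_tensorPow hH.1 u
  have hFi := SurfInt.isInvertible_idealMod hF
  have hdF : SurfInt.curveDeg k Γ (ClSub.idealMod F) = - (t * c) := by
    rw [curveDeg_of_cl_mul_eq_one k hΓ' hFi hHt hFcl, curveDeg_tensorPow k hΓ' hH.1]
  have hdG : SurfInt.curveDeg k Γ (ClSub.idealMod G) = - (u * c) := by
    rw [curveDeg_of_cl_mul_eq_one k hΓ' (SurfInt.isInvertible_idealMod hG) hHu hGcl,
      curveDeg_tensorPow k hΓ' hH.1]
  -- `H·H > 0`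
  set q := SurfInt.pair k H H
  have hFne : F ≠ ⊤ := fun h => by
    have : (⊤ : Ideal (X.presheaf.stalk η)) ≤ Ideal.span {π} := by
      rw [← hFη, h, CDivEq.stk, Scheme.IdealSheafData.ideal_top]
      simp [Ideal.map_top]
    exact hπ.not_isUnit (Ideal.span_singleton_eq_top.1 (top_le_iff.1 this))
  have hq : 0 < q := by
    have h1 : 0 < SurfInt.curveDeg k F H :=
      SurfInt.curveDeg_pos_of_ample k hH (SurfInt.dim_support_effCartier k hdim hF hFne)
    obtain ⟨e⟩ := cl_eq_iff.1 (show PicF.cl (CohB1.tensorMod (CohB1.tensorPow H t) (ClSub.idealMod F)) =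
      PicF.cl (Coh.structureModule X) by rw [cl_tensor, mul_comm, hFcl, PicMul.one_def])
    have h2 := SurfInt.pair_inverse_left k hdim' hHt hFi hH.1 e
    rw [SurfInt.pair_ideal_left k F hH.1, SurfInt.pair_tensorPow_left k hdim' hH.1 hH.1] at h2
    by_contra hq0
    have : (t : ℤ) * q ≤ 0 := mul_nonpos_of_nonneg_of_nonpos (by positivity) (not_lt.1 hq0)
    linarith
  by_contra hneg
  set l := SurfInt.curveDeg k Γ L
  obtain ⟨n, hn⟩ : ∃ n : ℕ, c + q * c * u < (n : ℤ) * (- l) := by
    refine ⟨(c + q * c * u + 1).toNat, ?_⟩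
    have hl : 1 ≤ -l := by omega
    have hX : (0 : ℤ) ≤ c + q * c * u := by positivity
    rw [Int.toNat_of_nonneg (by omega)]
    nlinarith
  have hLn := InvX.isInvertible_tensorPow hL n
  set A := CohB1.tensorMod H (CohB1.tensorPow L n)
  have hA : PicF.IsInvertible A := InvX.isInvertible_tensorMod hH.1 hLn
  have hAH : SurfInt.pair k A H = q := by
    rw [SurfInt.pair_tensor_left k hdim' hH.1 hLn hH.1, SurfInt.pair_tensorPow_left k hdim' hL hH.1, hLH,
      mul_zero, add_zero]
  have hAA : 0 < SurfInt.pair k A A := by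
    rw [SurfInt.pair_tensor_left k hdim' hH.1 hLn hA, SurfInt.pair_tensor_right k hdim' hH.1 hH.1 hLn,
      SurfInt.pair_tensor_right k hdim' hLn hH.1 hLn, SurfInt.pair_comm k H (CohB1.tensorPow L n),
      SurfInt.pair_tensorPow_left k hdim' hL hH.1, SurfInt.pair_tensorPow_tensorPow k hdim' hL hL, hLH]
    have : (0 : ℤ) ≤ (n : ℤ) * n * SurfInt.pair k L L := by positivity
    linarith
  obtain ⟨N₀, hN₀⟩ := SurfInt.exists_nontrivial_h0 k hdim' hH hA (hAH.symm ▸ hq) hAA
  set N := N₀ + 1
  haveI := hN₀ N (by omega)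
  have hAN := InvX.isInvertible_tensorPow hA N
  obtain ⟨B, hB, ⟨eB⟩⟩ := H23.PicInv.exists_inverse hAN
  have hBcl : PicF.cl B * PicF.cl (CohB1.tensorPow A N) = 1 := by
    rw [mul_comm]; exact SurfInt.cl_mul_of_iso eB
  obtain ⟨φ, hφ⟩ := SurfInt.exists_mono_to_structure hB hAN hBcl
  haveI := hφ
  obtain ⟨S, a, -⟩ := NonPureLib.exists_idealMod_iso (AmpleVan.isCoh_invertible hB) φ
  have hS : BlowUp.IsEffCartierIdeal S := (S8914.result S).1 (isInvertible_of_iso a hB)
  have hdS : SurfInt.curveDeg k Γ (ClSub.idealMod S) = - (N * (c + n * l)) := by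
    rw [← SurfInt.curveDeg_congr k Γ a, curveDeg_of_cl_mul_eq_one k hΓ' hB hAN hBcl,
      curveDeg_tensorPow k hΓ' hA, curveDeg_tensor' k hΓ' hH.1 hLn, curveDeg_tensorPow k hΓ' hL]
  have hSH : SurfInt.curveDeg k S H = N * q := by
    have h := SurfInt.pair_inverse_left k hdim' hAN hB hH.1 eB
    rw [SurfInt.pair_congr k a (Iso.refl H), SurfInt.pair_ideal_left k S hH.1,
      SurfInt.pair_tensorPow_left k hdim' hA hH.1, hAH] at h
    linarith
  -- the multiplicity along the curve
  obtain ⟨s, hs, hSs⟩ := CDivEq.exists_gen S hS U hη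
  obtain ⟨j, hj⟩ := IsDiscreteValuationRing.associated_pow_irreducible (nonZeroDivisors.ne_zero hs) hπ
  have hSj : stk S U hη = Ideal.span {π ^ j} := by
    rw [hSs]; exact Ideal.span_singleton_eq_span_singleton.2 hj
  have hΓp : ∀ i : ℕ, stk (Γ ^ i) U hη = Ideal.span {π ^ i} := fun i => by
    rw [stk_pow, hm, Ideal.span_singleton_pow]
  have hJi : ∀ i, i ≤ j → stk (Γ ^ i ⊔ S) U hη = Ideal.span {π ^ i} := fun i hi => by
    rw [CDivEq.stk, Scheme.IdealSheafData.ideal_sup, Pi.sup_apply, Ideal.map_sup]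
    change stk (Γ ^ i) U hη ⊔ stk S U hη = _
    rw [hΓp, hSj]
    exact sup_eq_left.2 (Ideal.span_singleton_le_span_singleton.2 (pow_dvd_pow π hi))
  have hnot : ∀ i, ¬ Ideal.span {π ^ i} ≤ Ideal.span {π ^ (i + 1)} := fun i h => by
    rw [Ideal.span_singleton_le_span_singleton, pow_dvd_pow_iff hπ.ne_zero hπ.not_isUnit] at h
    omega
  have hjq : (j : ℤ) ≤ N * q := by
    rcases Nat.eq_zero_or_pos j with hj0 | hj0
    · rw [hj0]; push_cast; positivity
    · obtain ⟨i₀, rfl⟩ : ∃ i, j = i + 1 := ⟨j - 1, by omega⟩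
      have hSd : topologicalKrullDim (S.support : Set X) ≤ 1 := by
        refine (SurfInt.dim_support_effCartier k hdim hS fun hSt => ?_).le
        have h := hSj
        rw [hSt, CDivEq.stk, Scheme.IdealSheafData.ideal_top, Pi.top_apply, Ideal.map_top, eq_comm,
          Ideal.span_singleton_eq_top, isUnit_pow_iff (Nat.succ_ne_zero _)] at h
        exact hπ.not_isUnit h
      have hsupp : ∀ i, topologicalKrullDim ((Γ ^ i ⊔ S).support : Set X) ≤ 1 := fun i =>
        (H23.TopDim.dim_le_dim_of_subset (Scheme.IdealSheafData.support_antitone le_sup_right)).trans hSd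
      have hchain : ∀ i, i ≤ i₀ → (i : ℤ) ≤ SurfInt.curveDeg k (Γ ^ i ⊔ S) H := by
        intro i
        induction i with
        | zero => exact fun _ => curveDeg_nonneg_of_dim k hH (hsupp 0)
        | succ i ih =>
          intro hi
          have hle : Γ ^ (i + 1) ⊔ S ≤ Γ ^ i ⊔ S := sup_le_sup_right (pow_succ_le Γ i) S
          have h := curveDeg_step k hH hle (hsupp _) hη1 U hη
            (by rw [hJi i (by omega), hJi (i + 1) (by omega)]; exact hnot i)
          have := ih (by omega)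
          push_cast
          omega
      have h := curveDeg_step k hH (le_sup_right : S ≤ Γ ^ i₀ ⊔ S) hSd hη1 U hη
        (by rw [hJi i₀ (by omega), hSj]; exact hnot i₀)
      have := hchain i₀ le_rfl
      rw [hSH] at h
      push_cast
      omega
  -- the residual divisor
  set T := G ^ j * S
  have hFj := isEffCartier_pow hF j
  have hT : BlowUp.IsEffCartierIdeal T := ModPairLib.isEffCartier_mul (isEffCartier_pow hG j) hS
  have hTη : stk T U hη = stk (F ^ j) U hη := by
    rw [stk_mul, stk_pow, stk_pow, hFη, hGη, Ideal.top_pow, Ideal.top_mul, hSj, Ideal.span_singleton_pow]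
  have hTF : T ≤ F ^ j := by
    refine le_of_stk_normal hN hT hFj fun y W hy hy1 => ?_
    by_cases hyη : y = η
    · subst hyη
      rw [CDivEq.stk_congr T W U hy hη, CDivEq.stk_congr (F ^ j) W U hy hη, hTη]
    · have hyΓ : y ∉ (Γ.support : Set X) := fun hyΓ => by
        rw [← hcl, ← specializes_iff_mem_closure] at hyΓ
        have hlt : y < η := lt_iff_le_not_ge.2 ⟨hyΓ, fun h => hyη (Specializes.antisymm h hyΓ).eq⟩
        have h1 := Order.coheight_add_one_le hlt
        rw [ringKrullDim_stalk_eq_coheight] at hy1 hkd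
        have hy' : Order.coheight y = 1 := by exact_mod_cast hy1
        have hη' : Order.coheight η = 1 := by exact_mod_cast hkd
        rw [hy', hη'] at h1
        exact absurd h1 (by decide)
      have htop : stk Γ W hy = ⊤ := not_not.1 (mt (CDivEq.mem_support_iff Γ W hy).2 hyΓ)
      have hGF : stk G W hy ≤ stk F W hy := by
        refine (stk_mono hGJ W hy).trans ?_
        have h1 := stk_mono (colonN_mul_le F Γ) W hy
        rwa [stk_mul, htop, Ideal.mul_top] at h1
      rw [stk_mul, stk_pow, stk_pow]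
      exact Ideal.mul_le_left.trans (Ideal.pow_right_mono hGF j)
  set R := ModPairLib.colon T (F ^ j) (ModPairLib.isLocPrincipal_of_isEffCartier hFj)
  have hRF : R * F ^ j = T := ModPairLib.colon_mul hFj hTF
  have hR : BlowUp.IsEffCartierIdeal R := ModPairLib.isEffCartier_of_mul hFj (hRF.symm ▸ hT)
  have hRη : η ∉ (R.support : Set X) := by
    rw [CDivEq.mem_support_iff R U hη, not_not]
    have h := congrArg (fun I => stk I U hη) hRF
    simp only [stk_mul, hTη, stk_pow, hFη, Ideal.span_singleton_pow] at h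
    have hmem : π ^ j ∈ stk R U hη * Ideal.span {π ^ j} := h.symm ▸ Ideal.mem_span_singleton_self _
    obtain ⟨z, hz, hz1⟩ := Ideal.mem_mul_span_singleton.1 hmem
    exact Ideal.eq_top_of_isUnit_mem _ hz
      ((mul_left_eq_self₀.1 hz1).resolve_right (pow_ne_zero j hπ.ne_zero) ▸ isUnit_one)
  have hdR := curveDeg_idealMod_nonpos' k hΓ' hR hRη
  have hadd := curveDeg_idealMod_mul k hΓ' hR hFj
  rw [hRF, curveDeg_idealMod_pow k hΓ' hF j, hdF,
    curveDeg_idealMod_mul k hΓ' (isEffCartier_pow hG j) hS, curveDeg_idealMod_pow k hΓ' hG j, hdG, hdS] at hadd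
  have h1 : (j : ℤ) * (u * c) ≤ N * q * (u * c) := mul_le_mul_of_nonneg_right hjq (by positivity)
  have h2 : (0 : ℤ) ≤ j * (t * c) := by positivity
  have h3 : (N : ℤ) * (c + q * c * u) < N * (n * -l) := mul_lt_mul_of_pos_left hn (by positivity)
  linarith

/-- **Degree zero on curves.** -/
theorem curveDeg_eq_zero_of_orthogonal (hdim : topologicalKrullDim X = 2) (hN : Pi1.IsNormalScheme X)
    {H L : X.Modules} (hH : CohB1.IsAmple H) (hL : PicF.IsInvertible L)
    (hLH : SurfInt.pair k L H = 0) (hLL : 0 ≤ SurfInt.pair k L L)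
    (Γ : X.IdealSheafData) [IsIntegral Γ.subscheme] (hΓ : topologicalKrullDim (Γ.support : Set X) = 1) :
    SurfInt.curveDeg k Γ L = 0 := by
  haveI := CurveCohLib.isNoetherian_of_proper (k := k) (X := X)
  obtain ⟨L', hL', ⟨e⟩⟩ := H23.PicInv.exists_inverse hL
  have hdim' : topologicalKrullDim X ≤ (2 : ℕ) := hdim.le
  have h1 := curveDeg_nonneg_of_orthogonal k hdim hN hH hL hLH hLL Γ hΓ
  have h2 := curveDeg_nonneg_of_orthogonal k hdim hN hH hL'
    (by rw [SurfInt.pair_inverse_left k hdim' hL hL' hH.1 e, hLH, neg_zero])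
    (by rwa [SurfInt.pair_inverse_both k hdim' hL hL' hL hL' e e]) Γ hΓ
  have h3 := curveDeg_of_cl_mul_eq_one k hΓ.le hL hL' (SurfInt.cl_mul_of_iso e)
  linarith

end Main

end Groth.Agent.Pic13Lib
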