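import Groth.Agent.Pic13Lib.RatBase
import Groth.Agent.AmpleX.FiniteSet
import Groth.Agent.AmpleX.Pow
import Groth.Agent.InvX.Tensor
import Groth.Agent.InvX.GenLocusPull
import Groth.Agent.ThetaPow.ZeroIdeal
import Groth.Agent.MeroX.DivDim
import Groth.Agent.VarBase.Decomp
import Groth.Agent.SurfInt.Degrees
import Groth.Agent.SurfInt.Basic

/-!
# The generic member of a pencil through a curve is irreducible
-/

set_option autoImplicit false
set_option linter.style.haveILetI false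
set_option linter.unusedSectionVars false
set_option backward.isDefEq.respectTransparency false
set_option backward.isDefEq.respectTransparency.types false

universe u

open CategoryTheory CategoryTheory.Limits AlgebraicGeometry TopologicalSpace Opposite

noncomputable section

namespace Groth.Agent.Pic13Lib

open Groth.Agent Groth.Agent.InvX Groth.Agent.H23.PicMul

variable (K : Type u) [Field K] {X : Scheme.{u}} [X.Over (Spec (CommRingCat.of K))]
  [IsProper (X ↘ Spec (CommRingCat.of K))] [IsIntegral X]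

include K in
/-- Two sections of a multiple of an ample module vanishing on `C`, their common zeros being small. -/
theorem exists_pencil {d : ℕ} (hd : 2 ≤ d) (hdim : topologicalKrullDim X = ((d + 1 : ℕ) : WithBot ℕ∞))
    {H : X.Modules} (hH : CohB1.IsAmple H) {C : Set X} (hC : IsClosed C)
    (hCd : topologicalKrullDim ↥C ≤ ((1 : ℕ) : WithBot ℕ∞)) :
    ∃ (t : ℕ) (σ₀ σ₁ : Coh.structureModule X ⟶ CohB1.tensorPow H t),
      genericPoint X ∈ CohB1.genLocus _ σ₀ ∧ (∀ x ∈ C, x ∉ CohB1.genLocus _ σ₀ ∧ x ∉ CohB1.genLocus _ σ₁) ∧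
      ∀ x : X, x ∉ CohB1.genLocus _ σ₀ → x ∉ CohB1.genLocus _ σ₁ →
        topologicalKrullDim ↥(closure ({x} : Set X)) < (d : WithBot ℕ∞) := by
  haveI := CurveCohLib.isNoetherian_of_proper (k := K) (X := X)
  haveI : X.IsSeparated := SurfInt.isSeparated_of_proper K (X := X)
  have hu : topologicalKrullDim ↥(closure ({genericPoint X} : Set X)) = ((d + 1 : ℕ) : WithBot ℕ∞) := by
    rw [genericPoint_closure]
    exact ((Homeomorph.Set.univ X).isHomeomorph.topologicalKrullDim_eq).trans hdim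
  have h1d : ((1 : ℕ) : WithBot ℕ∞) < (d : WithBot ℕ∞) := by exact_mod_cast Nat.lt_of_lt_of_le one_lt_two hd
  have hηC : genericPoint X ∉ C := fun h => by
    have h1 := (H23.TopDim.dim_le_dim_of_subset (hC.closure_subset_iff.2 (Set.singleton_subset_iff.2 h))).trans hCd
    rw [hu] at h1
    have : d + 1 ≤ 1 := by exact_mod_cast h1
    omega
  let U : X.Opens := ⟨Cᶜ, hC.isOpen_compl⟩
  obtain ⟨n₀, s₀, hs₀, hs₀U, -⟩ := AmpleX.exists_finite_nhd hH (Set.finite_singleton (genericPoint X)) (U := U)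
    (Set.singleton_subset_iff.2 hηC)
  let Z₀ : Set X := (CohB1.genLocus _ s₀ : Set X)ᶜ
  have hZ₀ : IsClosed Z₀ := (CohB1.genLocus _ s₀).2.isClosed_compl
  have hZ₀d : topologicalKrullDim ↥Z₀ ≤ (d : WithBot ℕ∞) :=
    HilbPoly.le_of_lt_succ (HilbPoly.dim_lt_closure hu.le hZ₀ (by rw [genericPoint_closure]; exact Set.subset_univ _)
      fun h => h (hs₀ rfl))
  let I := Scheme.IdealSheafData.vanishingIdeal ⟨Z₀, hZ₀⟩
  have hI : CohB1.support (ClSub.quotMod I) = Z₀ :=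
    (SurfInt.support_quotMod_eq I).trans (Scheme.IdealSheafData.coe_support_vanishingIdeal _)
  have hfin := VarBase.finite_top_points (ParShLib.isCoh_quotMod I) (hI.symm ▸ hZ₀d)
  let S : Set X := {x | topologicalKrullDim ↥(closure ({x} : Set X)) = (d : WithBot ℕ∞) ∧ x ∈ Z₀}
  have hSf : S.Finite := by rw [hI] at hfin; exact hfin
  have hSU : S ⊆ (U : Set X) := fun x hx hxC => by
    have h1 := (H23.TopDim.dim_le_dim_of_subset (hC.closure_subset_iff.2 (Set.singleton_subset_iff.2 hxC))).trans hCd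
    rw [hx.1] at h1
    exact absurd h1 (not_le.2 h1d)
  obtain ⟨n₁, s₁, hs₁, hs₁U, -⟩ := AmpleX.exists_finite_nhd hH hSf hSU
  obtain ⟨σ₀, hσ₀⟩ := AmpleX.exists_section_of_cl_eq (B := CohB1.tensorPow H ((n₀ + 1) * (n₁ + 1)))
    (by simp only [cl_tensorPow, ← pow_mul]) (InvX.powHom s₀ (n₁ + 1))
  obtain ⟨σ₁, hσ₁⟩ := AmpleX.exists_section_of_cl_eq (B := CohB1.tensorPow H ((n₀ + 1) * (n₁ + 1)))
    (by simp only [cl_tensorPow, ← pow_mul, mul_comm (n₀ + 1)]) (InvX.powHom s₁ (n₀ + 1))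
  rw [InvX.genLocus_powHom (InvX.isInvertible_tensorPow hH.1 _)] at hσ₀ hσ₁
  refine ⟨_, σ₀, σ₁, hσ₀ ▸ hs₀ rfl, fun x hx => ⟨fun h => hs₀U (hσ₀ ▸ h) hx, fun h => hs₁U (hσ₁ ▸ h) hx⟩,
    fun x h₀ h₁ => ?_⟩
  rw [hσ₀] at h₀
  rw [hσ₁] at h₁
  have hle := (H23.TopDim.dim_le_dim_of_subset
    (hZ₀.closure_subset_iff.2 (Set.singleton_subset_iff.2 (show x ∈ Z₀ from h₀)))).trans hZ₀d
  exact lt_of_le_of_ne hle fun he => h₁ (hs₁ ⟨he, h₀⟩)

variable {K}

/-- The coordinates of the pencil. -/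
theorem sv_member {P : X.Modules} (σ₀ σ₁ : Coh.structureModule X ⟶ P) {W : X.Opens} {e : Γ(P, W)}
    {a₀ a₁ : Γ(X, W)} (h₀ : AModX.res P (le_top : W ≤ ⊤) (one σ₀) = a₀ • e)
    (h₁ : AModX.res P (le_top : W ≤ ⊤) (one σ₁) = a₁ • e)
    (τ : Coh.structureModule (ratBase K X) ⟶ (Scheme.Modules.pullback (ratProj K X)).obj P)
    (hτ : one τ = (show Γ((Scheme.Modules.pullback (ratProj K X)).obj P, ⊤) from
      pullElt (ratProj K X) (U := ⊤) (one σ₁)) - ratScal (K := K) (⊤ : (ratBase K X).Opens) RatFunc.X •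
      (show Γ((Scheme.Modules.pullback (ratProj K X)).obj P, ⊤) from pullElt (ratProj K X) (U := ⊤) (one σ₀))) :
    ZeroSchX.sv τ (ratProj K X ⁻¹ᵁ W) =
      (((ratProj K X).app W).hom a₁ - ratScal (ratProj K X ⁻¹ᵁ W) RatFunc.X * ((ratProj K X).app W).hom a₀) •
        pullElt (ratProj K X) e := by
  refine (ZeroSchX.res_sv τ (le_top : ratProj K X ⁻¹ᵁ W ≤ ⊤)).symm.trans ?_
  change AModX.res _ (le_top : ratProj K X ⁻¹ᵁ W ≤ ⊤) (one τ) = _
  rw [hτ, map_sub, AModX.res_smul, sub_smul, mul_smul, ← pullElt_smul, ← pullElt_smul, ← h₀, ← h₁,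
    ← res_pullElt, ← res_pullElt]
  congr 2
  exact resR_ratScal (le_top : ratProj K X ⁻¹ᵁ W ≤ ⊤) RatFunc.X

/-- **The member.** -/
theorem exists_member_irreducible {d : ℕ} (hd : 2 ≤ d) (hdim : topologicalKrullDim X = ((d + 1 : ℕ) : WithBot ℕ∞))
    {H : X.Modules} (hH : CohB1.IsAmple H) {C : Set X} (hC : IsClosed C) (hCne : C.Nonempty)
    (hCd : topologicalKrullDim ↥C ≤ ((1 : ℕ) : WithBot ℕ∞)) :
    ∃ (t : ℕ) (D : (ratBase K X).IdealSheafData), BlowUp.IsEffCartierIdeal D ∧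
      Nonempty (CohB1.tensorMod (ClSub.idealMod D)
        ((Scheme.Modules.pullback (ratProj K X)).obj (CohB1.tensorPow H t)) ≅ Coh.structureModule (ratBase K X)) ∧
      IrreducibleSpace D.subscheme ∧ topologicalKrullDim D.subscheme = (d : WithBot ℕ∞) ∧
      ratProj K X ⁻¹' C ⊆ (D.support : Set (ratBase K X)) := by
  haveI := CurveCohLib.isNoetherian_of_proper (k := K) (X := X)
  obtain ⟨t, σ₀, σ₁, hη₀, hσC, hB⟩ := exists_pencil K hd hdim hH hC hCd
  haveI := isIntegral_ratBase (K := K) (X := X)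
  haveI := CurveCohLib.isNoetherian_of_proper (k := RatFunc K) (X := ratBase K X)
  let g := ratProj K X
  have hP := InvX.isInvertible_tensorPow hH.1 t
  have hgP := PicClLib.isInvertible_pullback g hP
  let τ : Coh.structureModule (ratBase K X) ⟶ (Scheme.Modules.pullback g).obj (CohB1.tensorPow H t) :=
    ofSect ((show Γ((Scheme.Modules.pullback g).obj (CohB1.tensorPow H t), ⊤) from
      pullElt g (U := ⊤) (one σ₁)) - ratScal (K := K) (⊤ : (ratBase K X).Opens) RatFunc.X •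
      (show Γ((Scheme.Modules.pullback g).obj (CohB1.tensorPow H t), ⊤) from pullElt g (U := ⊤) (one σ₀)))
  -- charts
  have hloc : ∀ x : X, ∃ (W : X.Opens) (hW : IsAffineOpen W) (a₀ a₁ : Γ(X, W)), x ∈ W ∧ a₀ ≠ 0 ∧
      (PicF2.zeroScheme _ τ).ideal ⟨g ⁻¹ᵁ W, hW.preimage g⟩ =
        Ideal.span {(g.app W).hom a₁ - ratScal (g ⁻¹ᵁ W) RatFunc.X * (g.app W).hom a₀} ∧
      (∀ (z : X) (hz : z ∈ W), z ∈ CohB1.genLocus _ σ₀ ↔ IsUnit (X.presheaf.germ W z hz a₀)) ∧
      (∀ (z : X) (hz : z ∈ W), z ∈ CohB1.genLocus _ σ₁ ↔ IsUnit (X.presheaf.germ W z hz a₁)) := fun x => by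
    obtain ⟨W₀, hxW₀, e, he⟩ := InvX.exists_frame hP x
    obtain ⟨_, ⟨W, hW, rfl⟩, hxW, hWW₀⟩ := X.isBasis_affineOpens.exists_subset_of_mem_open hxW₀ W₀.2
    have heW := he.res hWW₀
    obtain ⟨a₀, h₀⟩ := heW.exists_coord le_rfl (AModX.res _ (le_top : W ≤ ⊤) (one σ₀))
    obtain ⟨a₁, h₁⟩ := heW.exists_coord le_rfl (AModX.res _ (le_top : W ≤ ⊤) (one σ₁))
    rw [AModX.res_self] at h₀ h₁
    have hgen : genericPoint X ∈ W := (genericPoint_specializes x).mem_open W.2 hxW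
    refine ⟨W, hW, a₀, a₁, hxW, fun h0 => ?_, ?_, fun z hz => AmpleX.mem_genLocus_iff σ₀ heW h₀ hz,
      fun z hz => AmpleX.mem_genLocus_iff σ₁ heW h₁ hz⟩
    · have hu := (AmpleX.mem_genLocus_iff σ₀ heW h₀ hgen).1 hη₀
      rw [h0, map_zero] at hu
      exact not_isUnit_zero hu
    · rw [ZeroSchX.ideal_zeroScheme hgP, ZeroSchX.zeroIdealOn_eq_span τ (isFrame_pullElt g heW)
        (sv_member σ₀ σ₁ h₀ h₁ τ (one_ofSect _))]
  have hτ0 : τ ≠ 0 := fun h0 => by
    obtain ⟨W₀, hxW₀, e, he⟩ := InvX.exists_frame hP (genericPoint X)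
    obtain ⟨_, ⟨W, hW, rfl⟩, hxW, hWW₀⟩ := X.isBasis_affineOpens.exists_subset_of_mem_open hxW₀ W₀.2
    have heW := he.res hWW₀
    obtain ⟨a₀, h₀⟩ := heW.exists_coord le_rfl (AModX.res _ (le_top : W ≤ ⊤) (one σ₀))
    obtain ⟨a₁, h₁⟩ := heW.exists_coord le_rfl (AModX.res _ (le_top : W ≤ ⊤) (one σ₁))
    rw [AModX.res_self] at h₀ h₁
    haveI : Nonempty W := ⟨⟨_, hxW⟩⟩
    have ha₀ : a₀ ≠ 0 := fun h => by
      have hu := (AmpleX.mem_genLocus_iff σ₀ heW h₀ hxW).1 hη₀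
      rw [h, map_zero] at hu
      exact not_isUnit_zero hu
    refine (isRatExt hW).member_ne_zero a₀ a₁ ha₀ ((isFrame_pullElt g heW).coord_unique le_rfl (r' := 0) ?_)
    rw [AModX.res_self, zero_smul]
    refine (sv_member σ₀ σ₁ h₀ h₁ τ (one_ofSect _)).symm.trans ?_
    rw [h0]
    rfl
  let D := PicF2.zeroScheme _ τ
  have hD : BlowUp.IsEffCartierIdeal D := ThetaPow.isEffCartier_zeroScheme hgP τ hτ0
  refine ⟨t, D, hD, ThetaPow.nonempty_idealMod_zeroScheme hgP τ hτ0, ?_⟩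
  -- membership in a chart
  have hmem : ∀ {W : X.Opens} (hW : IsAffineOpen W) (a₀ a₁ : Γ(X, W)),
      D.ideal ⟨g ⁻¹ᵁ W, hW.preimage g⟩ =
        Ideal.span {(g.app W).hom a₁ - ratScal (g ⁻¹ᵁ W) RatFunc.X * (g.app W).hom a₀} →
      ∀ y : (g ⁻¹ᵁ W : (ratBase K X).Opens), (y : ratBase K X) ∈ (D.support : Set (ratBase K X)) ↔
        (g.app W).hom a₁ - ratScal (g ⁻¹ᵁ W) RatFunc.X * (g.app W).hom a₀ ∈
          ((hW.preimage g).primeIdealOf y).asIdeal := fun {W} hW a₀ a₁ hI y => by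
    rw [mem_support_iff_le D (hW.preimage g) y, hI, Ideal.span_singleton_le_iff_mem]
  have hCD : g ⁻¹' C ⊆ (D.support : Set (ratBase K X)) := fun y hy => by
    obtain ⟨W, hW, a₀, a₁, hxW, -, hI, h₀, h₁⟩ := hloc (g y)
    refine (hmem hW a₀ a₁ hI ⟨y, hxW⟩).2 ?_
    have hn : ∀ a : Γ(X, W), ¬ IsUnit (X.presheaf.germ W (g y) hxW a) →
        (g.app W).hom a ∈ ((hW.preimage g).primeIdealOf ⟨y, hxW⟩).asIdeal := fun a ha => by
      by_contra hc
      refine ha (IsUnit.of_map (g.stalkMap y).hom _ ?_)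
      rw [Scheme.Hom.germ_stalkMap_apply]
      exact (germ_isUnit_iff (hW.preimage g) ⟨y, hxW⟩ _).2 hc
    exact Ideal.sub_mem _ (hn a₁ fun h => (hσC _ hy).2 ((h₁ _ hxW).2 h))
      (Ideal.mul_mem_left _ _ (hn a₀ fun h => (hσC _ hy).1 ((h₀ _ hxW).2 h)))
  -- minimal points lie over the generic point
  have hmin : ∀ y ∈ (D.support : Set (ratBase K X)), (∀ z ∈ (D.support : Set (ratBase K X)), z ⤳ y → z = y) →
      g y = genericPoint X ∧ topologicalKrullDim ↥(closure ({y} : Set (ratBase K X))) = (d : WithBot ℕ∞) := by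
    intro y hy hy'
    set f := ratBase K X ↘ Spec (CommRingCat.of (RatFunc K))
    have hdeg : topologicalKrullDim ↥(closure ({y} : Set (ratBase K X))) = (d : WithBot ℕ∞) := by
      have h1 := MeroX.stalk_dim_eq_one D hD y hy hy'
      obtain ⟨b, hb, ⟨η, hη, hηd⟩, hle⟩ := VarDim.exists_deg_add_stalk f y
      have h2 := hle _ (genericPoint_specializes y)
      have h3 := VarDim.deg_le_of_specializes f (genericPoint_specializes η)
      have h4 := VarDim.topologicalKrullDim_eq_deg_genericPoint f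
      rw [topologicalKrullDim_ratBase, hdim] at h4
      have h5 : d + 1 = VarDim.deg f (genericPoint (ratBase K X)) := by exact_mod_cast h4
      have h6 : b = 1 := by rw [hb] at h1; exact_mod_cast h1
      rw [VarDim.topologicalKrullDim_closure_singleton f y]
      exact_mod_cast (by omega : VarDim.deg f y = d)
    refine ⟨?_, hdeg⟩
    obtain ⟨W, hW, a₀, a₁, hxW, ha₀, hI, h₀, h₁⟩ := hloc (g y)
    haveI : Nonempty W := ⟨⟨_, hxW⟩⟩
    have hnB : IsUnit (X.presheaf.germ W (g y) hxW a₀) ∨ IsUnit (X.presheaf.germ W (g y) hxW a₁) := by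
      by_contra hc
      push Not at hc
      have hlt := hB (g y) (fun h => hc.1 ((h₀ _ hxW).1 h)) fun h => hc.2 ((h₁ _ hxW).1 h)
      exact (hdeg ▸ dim_closure_le_image y).not_gt hlt
    let P := ((hW.preimage g).primeIdealOf ⟨y, hxW⟩).asIdeal
    have hout : ∀ a : Γ(X, W), IsUnit (X.presheaf.germ W (g y) hxW a) → (g.app W).hom a ∉ P := fun a ha =>
      (germ_isUnit_iff (hW.preimage g) ⟨y, hxW⟩ _).1 (by
        rw [← Scheme.Hom.germ_stalkMap_apply g W y hxW]; exact ha.map _)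
    obtain ⟨Q, hQ, hQP, hQe, hQ0⟩ := (isRatExt hW).exists_prime_le a₀ a₁ ha₀ P
      ((hmem hW a₀ a₁ hI ⟨y, hxW⟩).1 hy) (hnB.imp (hout a₀) (hout a₁))
    let z := (hW.preimage g).fromSpec ⟨Q, hQ⟩
    have hzV : z ∈ g ⁻¹ᵁ W := fromSpec_mem' _ _
    have hzQ : (hW.preimage g).primeIdealOf ⟨z, hzV⟩ = ⟨Q, hQ⟩ := primeIdealOf_fromSpec _ _ hzV
    have hzy : z = y := hy' z ((hmem hW a₀ a₁ hI ⟨z, hzV⟩).2 (by rw [hzQ]; exact hQe))
      (fromSpec_specializes (hW.preimage g) ⟨y, hxW⟩ Q hQP)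
    rw [← hzy]
    exact (ratProj_eq_genericPoint_iff hW ⟨z, hzV⟩).2 (by rw [hzQ]; exact hQ0)
  -- and there is only one
  have huniq : ∀ y ∈ (D.support : Set (ratBase K X)), ∀ y' ∈ (D.support : Set (ratBase K X)),
      g y = genericPoint X → g y' = genericPoint X → y = y' := by
    intro y hy y' hy' hgy hgy'
    obtain ⟨W, hW, a₀, a₁, hxW, ha₀, hI, -, -⟩ := hloc (genericPoint X)
    haveI : Nonempty W := ⟨⟨_, hxW⟩⟩
    have hyV : y ∈ g ⁻¹ᵁ W := show g y ∈ W by rw [hgy]; exact hxW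
    have hy'V : y' ∈ g ⁻¹ᵁ W := show g y' ∈ W by rw [hgy']; exact hxW
    have h := (isRatExt hW).prime_unique a₀ a₁ ha₀ _ _ ((hmem hW a₀ a₁ hI ⟨y, hyV⟩).1 hy)
      ((hmem hW a₀ a₁ hI ⟨y', hy'V⟩).1 hy') ((ratProj_eq_genericPoint_iff hW ⟨y, hyV⟩).1 hgy)
      ((ratProj_eq_genericPoint_iff hW ⟨y', hy'V⟩).1 hgy')
    have h' : (hW.preimage g).primeIdealOf ⟨y, hyV⟩ = (hW.preimage g).primeIdealOf ⟨y', hy'V⟩ :=
      PrimeSpectrum.ext h
    have h'' := congrArg (hW.preimage g).fromSpec h'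
    rwa [(hW.preimage g).fromSpec_primeIdealOf, (hW.preimage g).fromSpec_primeIdealOf] at h''
  have hgen : ∀ y ∈ (D.support : Set (ratBase K X)), ∃ z ∈ (D.support : Set (ratBase K X)), z ⤳ y ∧
      ∀ w ∈ (D.support : Set (ratBase K X)), w ⤳ z → w = z := fun y hy => by
    let i := D.subschemeι
    obtain ⟨y₀, rfl⟩ : y ∈ Set.range i := by rwa [Scheme.IdealSheafData.range_subschemeι]
    letI : D.subscheme.Over (Spec (CommRingCat.of (RatFunc K))) :=
      ⟨i ≫ (ratBase K X ↘ Spec (CommRingCat.of (RatFunc K)))⟩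
    haveI : LocallyOfFiniteType (D.subscheme ↘ Spec (CommRingCat.of (RatFunc K))) :=
      inferInstanceAs (LocallyOfFiniteType (i ≫ _))
    obtain ⟨z, hz, hzmax⟩ :=
      VarDim.exists_maximal_generalization (D.subscheme ↘ Spec (CommRingCat.of (RatFunc K))) y₀
    refine ⟨i z, ?_, hz.map i.continuous, fun w hw hwz => ?_⟩
    · rw [← Scheme.IdealSheafData.range_subschemeι]; exact ⟨z, rfl⟩
    · rw [← Scheme.IdealSheafData.range_subschemeι] at hw
      obtain ⟨w, rfl⟩ := hw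
      exact congrArg _ (hzmax w (i.isClosedEmbedding.isInducing.specializes_iff.1 hwz))
  obtain ⟨c, hc⟩ := hCne
  haveI : Surjective (ratMap K) := ⟨fun z => ⟨Classical.arbitrary _, Subsingleton.elim _ _⟩⟩
  haveI : Surjective g := MorphismProperty.of_isPullback (ratPullback K X).flip inferInstance
  obtain ⟨y₁, rfl⟩ := g.surjective c
  obtain ⟨ξ, hξD, -, hξmax⟩ := hgen y₁ (hCD hc)
  obtain ⟨hξg, hξd⟩ := hmin ξ hξD hξmax
  have hsupp : (D.support : Set (ratBase K X)) = closure {ξ} := by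
    refine Set.Subset.antisymm (fun y hy => ?_)
      (D.support.isClosed.closure_subset_iff.2 (Set.singleton_subset_iff.2 hξD))
    obtain ⟨z, hzD, hzy, hzmax⟩ := hgen y hy
    rw [huniq z hzD ξ hξD (hmin z hzD hzmax).1 hξg] at hzy
    exact specializes_iff_mem_closure.1 hzy
  have e := D.subschemeι.isClosedEmbedding.isEmbedding.toHomeomorph
  have hr : Set.range D.subschemeι = closure {ξ} := (Scheme.IdealSheafData.range_subschemeι D).trans hsupp
  refine ⟨?_, ?_, hCD⟩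
  · haveI := isIrreducible_iff_irreducibleSpace.1 ((isIrreducible_singleton (x := ξ)).closure)
    let e' := e.trans (Homeomorph.setCongr hr)
    exact e'.symm.surjective.irreducibleSpace e'.symm.continuous
  · rw [(e.trans (Homeomorph.setCongr hr)).isHomeomorph.topologicalKrullDim_eq]
    exact hξd

end Groth.Agent.Pic13Lib
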