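import Groth.Agent.Pic13Lib.Reg
import Groth.Agent.Pic13Lib.Cut
import Groth.Agent.Pic13Lib.CurveSec
import Groth.Agent.H23.KLBasic
import Groth.Agent.AmpleX.Locus

/-!
# Twists of families by numerically trivial modules
-/

set_option linter.style.haveILetI false
set_option linter.unusedSectionVars false
set_option backward.isDefEq.respectTransparency false
set_option backward.isDefEq.respectTransparency.types false
set_option maxHeartbeats 1000000
set_option synthInstance.maxHeartbeats 200000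

universe u

open CategoryTheory CategoryTheory.Limits AlgebraicGeometry TopologicalSpace Opposite
open Groth.Agent.H23.PicMul

attribute [local instance] HasDerivedCategory.standard

noncomputable section

namespace Groth.Agent.Pic13Lib

open Groth.Agent

section Basic

variable {k : Type u} [Field k] {X : Scheme.{u}} [X.Over (Spec (CommRingCat.of k))]

variable (k) in
/-- The dimension of cohomology. -/
abbrev hh (M : X.Modules) (q : ℕ) : ℕ := Module.finrank k (Coh.HH X M q)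

theorem subsingleton_mid {S : ShortComplex X.Modules} (hS : S.ShortExact) {q : ℕ}
    (h₁ : Subsingleton (Coh.HH X S.X₁ q)) (h₃ : Subsingleton (Coh.HH X S.X₃ q)) :
    Subsingleton (Coh.HH X S.X₂ q) := by
  haveI : Subsingleton (Sheaf.H (S.map (QCoh.toAbFunctor X)).X₁ q) := h₁
  exact (RegDescent.H_map_f_surjective (Y := X.toPresheafedSpace.carrier) (T := S.map (QCoh.toAbFunctor X))
    (QCoh.toAb_shortExact hS) q h₃).subsingleton

theorem hh_zero_left_le [IsProper (X ↘ Spec (CommRingCat.of k))] {S : ShortComplex X.Modules} (hS : S.ShortExact)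
    (h₂ : Coh.IsCoh S.X₂) : hh k S.X₁ 0 ≤ hh k S.X₂ 0 := by
  haveI := S0002.result k X S.X₂ h₂ 0
  exact LinearMap.finrank_le_finrank_of_injective (f := PnCoh.Finite.mapLin k S.f 0)
    (LinearMap.ker_eq_bot.1 (Euler.ker_mapLin_f_zero k hS))

theorem hh_zero_mid_le [IsProper (X ↘ Spec (CommRingCat.of k))] {S : ShortComplex X.Modules} (hS : S.ShortExact)
    (h₁ : Coh.IsCoh S.X₁) (h₂ : Coh.IsCoh S.X₂) (h₃ : Coh.IsCoh S.X₃) :
    hh k S.X₂ 0 ≤ hh k S.X₁ 0 + hh k S.X₃ 0 := by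
  haveI := S0002.result k X S.X₁ h₁ 0
  haveI := S0002.result k X S.X₂ h₂ 0
  haveI := S0002.result k X S.X₃ h₃ 0
  have e := LinearMap.finrank_range_add_finrank_ker (PnCoh.Finite.mapLin k S.g 0)
  rw [← Euler.range_mapLin_f k hS 0] at e
  have a := LinearMap.finrank_range_le (PnCoh.Finite.mapLin k S.f 0)
  have b := Submodule.finrank_le (LinearMap.range (PnCoh.Finite.mapLin k S.g 0))
  unfold hh
  omega

end Basic

section Twist

variable {k : Type u} [Field k] {n : ℕ} {X : Scheme.{u}} (j : X ⟶ CohB1.ProjSpace n k)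

/-- `M ↦ (M ⊗ L)(m)`. -/
abbrev Tw (L : X.Modules) (m : ℤ) : X.Modules ⥤ X.Modules := AmpleVan.tw L ⋙ AmpleVan.tw (hyp j m)

theorem Tw_obj (L M : X.Modules) (m : ℤ) :
    (Tw j L m).obj M = Pic13.twistOn k j (CohB1.tensorMod M L) m := rfl

theorem cl_Tw (L M : X.Modules) (m : ℤ) :
    PicF.cl ((Tw j L m).obj M) = PicF.cl M * PicF.cl L * PicF.cl (hyp j m) :=
  (cl_tensor _ _).trans (congrArg (· * _) (cl_tensor _ _))

theorem exists_Tw_congr {L L' : X.Modules} (h : PicF.cl L = PicF.cl L') (M : X.Modules) (m : ℤ) :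
    Nonempty ((Tw j L m).obj M ≅ (Tw j L' m).obj M) :=
  cl_eq_iff.1 (by rw [cl_Tw, cl_Tw, h])

theorem exists_Tw_structure (M : X.Modules) (m : ℤ) :
    Nonempty ((Tw j (Coh.structureModule X) m).obj M ≅ Pic13.twistOn k j M m) :=
  cl_eq_iff.1 (by rw [cl_Tw, cl_twistOn, ← one_def, mul_one])

theorem exists_Tw_tensor (L L' M : X.Modules) (m : ℤ) :
    Nonempty ((Tw j L' m).obj (CohB1.tensorMod M L) ≅ (Tw j (CohB1.tensorMod L L') m).obj M) :=
  cl_eq_iff.1 (by rw [cl_Tw, cl_Tw, cl_tensor, cl_tensor]; ac_rfl)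

theorem exists_Tw_twist (L M : X.Modules) (a m : ℤ) :
    Nonempty ((Tw j L m).obj (Pic13.twistOn k j M a) ≅ (Tw j L (m + a)).obj M) :=
  cl_eq_iff.1 (by
    rw [cl_Tw, cl_Tw, cl_twistOn, ← cl_hyp_add j m a]
    ac_rfl)

variable [IsClosedImmersion j]

theorem isEquivalence_Tw {L : X.Modules} (hL : PicF.IsInvertible L) (m : ℤ) : (Tw j L m).IsEquivalence := by
  haveI := AmpleVan.isEquivalence_tw hL
  haveI := AmpleVan.isEquivalence_tw (isInvertible_hyp j m)
  infer_instance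

theorem shortExact_of_isEquivalence (Φ : X.Modules ⥤ X.Modules) [Φ.IsEquivalence] {S : ShortComplex X.Modules}
    (hS : S.ShortExact) :
    haveI : Φ.Additive := Functor.additive_of_preserves_binary_products _
    (S.map Φ).ShortExact := by
  haveI : Φ.Additive := Functor.additive_of_preserves_binary_products _
  exact hS.map_of_exact Φ

theorem isCoh_Tw {L : X.Modules} (hL : PicF.IsInvertible L) {M : X.Modules} (hM : Coh.IsCoh M) (m : ℤ) :
    Coh.IsCoh ((Tw j L m).obj M) := by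
  haveI := isNoetherian j
  exact isCoh_twistOn j (AmpleVan.isCoh_tensor hM (AmpleVan.isCoh_invertible hL)) m

/-- The image of a short exact sequence under `Tw`. -/
theorem exists_Tw_seq {L : X.Modules} (hL : PicF.IsInvertible L) (m : ℤ) {S : ShortComplex X.Modules}
    (hS : S.ShortExact) : ∃ (f : (Tw j L m).obj S.X₁ ⟶ (Tw j L m).obj S.X₂)
      (g : (Tw j L m).obj S.X₂ ⟶ (Tw j L m).obj S.X₃) (w : f ≫ g = 0), (ShortComplex.mk f g w).ShortExact := by
  haveI := isEquivalence_Tw j hL m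
  haveI : (Tw j L m).Additive := Functor.additive_of_preserves_binary_products _
  exact ⟨_, _, _, shortExact_of_isEquivalence (Tw j L m) hS⟩

variable [X.Over (Spec (CommRingCat.of k))] [IsProper (X ↘ Spec (CommRingCat.of k))]

theorem euler_Tw_add {L : X.Modules} (hL : PicF.IsInvertible L) (m : ℤ) {S : ShortComplex X.Modules}
    (hS : S.ShortExact) (h₁ : Coh.IsCoh S.X₁) (h₂ : Coh.IsCoh S.X₂) (h₃ : Coh.IsCoh S.X₃) :
    Curv2.euler k X ((Tw j L m).obj S.X₂) =
      Curv2.euler k X ((Tw j L m).obj S.X₁) + Curv2.euler k X ((Tw j L m).obj S.X₃) := by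
  obtain ⟨f, g, w, h⟩ := exists_Tw_seq j hL m hS
  have c₁ := isCoh_Tw j hL h₁ m
  have c₂ := isCoh_Tw j hL h₂ m
  have c₃ := isCoh_Tw j hL h₃ m
  revert f g w h c₁ c₂ c₃
  generalize (Tw j L m).obj S.X₁ = A, (Tw j L m).obj S.X₂ = B, (Tw j L m).obj S.X₃ = C
  intro f g w h c₁ c₂ c₃
  exact (HilbPoly.additive_euler k).add (ShortComplex.mk f g w) h c₁ c₂ c₃

theorem hh_Tw_mid_le {L : X.Modules} (hL : PicF.IsInvertible L) (m : ℤ) {S : ShortComplex X.Modules}
    (hS : S.ShortExact) (h₁ : Coh.IsCoh S.X₁) (h₂ : Coh.IsCoh S.X₂) (h₃ : Coh.IsCoh S.X₃) :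
    hh k ((Tw j L m).obj S.X₂) 0 ≤ hh k ((Tw j L m).obj S.X₁) 0 + hh k ((Tw j L m).obj S.X₃) 0 := by
  obtain ⟨f, g, w, h⟩ := exists_Tw_seq j hL m hS
  have c₁ := isCoh_Tw j hL h₁ m
  have c₂ := isCoh_Tw j hL h₂ m
  have c₃ := isCoh_Tw j hL h₃ m
  revert f g w h c₁ c₂ c₃
  generalize (Tw j L m).obj S.X₁ = A, (Tw j L m).obj S.X₂ = B, (Tw j L m).obj S.X₃ = C
  intro f g w h c₁ c₂ c₃
  exact hh_zero_mid_le (S := ShortComplex.mk f g w) h c₁ c₂ c₃

theorem hh_congr {M N : X.Modules} (e : Nonempty (M ≅ N)) (q : ℕ) : hh k M q = hh k N q :=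
  HilbPoly.finrank_HH_iso k e.some q

theorem euler_congr {M N : X.Modules} (e : Nonempty (M ≅ N)) : Curv2.euler k X M = Curv2.euler k X N :=
  (HilbPoly.additive_euler k).iso _ _ e

/-- The properties propagated by devissage. -/
structure Good (M : X.Modules) : Prop where
  van : ∃ m₀ : ℤ, ∀ L : X.Modules, NumTriv k L → Vanish j (CohB1.tensorMod M L) m₀
  euler : ∀ L : X.Modules, NumTriv k L → ∀ m : ℤ,
    Curv2.euler k X ((Tw j L m).obj M) = Curv2.euler k X ((Tw j (Coh.structureModule X) m).obj M)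
  sec : ∀ m : ℤ, ∃ B : ℕ, ∀ L : X.Modules, NumTriv k L → hh k ((Tw j L m).obj M) 0 ≤ B

theorem Good.of_iso {M N : X.Modules} (h : Good j M) (e : Nonempty (M ≅ N)) : Good j N := by
  have he : ∀ (L : X.Modules) (m : ℤ), Nonempty ((Tw j L m).obj M ≅ (Tw j L m).obj N) :=
    fun L m => ⟨(Tw j L m).mapIso e.some⟩
  refine ⟨?_, fun L hL m => ?_, fun m => ?_⟩
  · obtain ⟨m₀, hm₀⟩ := h.van
    exact ⟨m₀, fun L hL q hq d hd => QCoh.subsingleton_HH_of_iso (he L d).some q (hm₀ L hL q hq d hd)⟩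
  · rw [← euler_congr (he L m), ← euler_congr (he _ m)]; exact h.euler L hL m
  · obtain ⟨B, hB⟩ := h.sec m
    exact ⟨B, fun L hL => (hh_congr (he L m) 0).symm.le.trans (hB L hL)⟩

theorem good_of_isZero {M : X.Modules} (h : IsZero M) : Good j M := by
  have hz : ∀ (L : X.Modules) (m : ℤ), IsZero ((Tw j L m).obj M) := fun L m => by
    haveI : (AmpleVan.tw L).PreservesZeroMorphisms := by
      haveI : (DCoh.tensorBi.flip.obj L : X.Modules ⥤ X.Modules).Additive := Functor.additive_of_preserves_binary_products _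
      infer_instance
    haveI : (AmpleVan.tw (hyp j m)).PreservesZeroMorphisms := by
      haveI : (DCoh.tensorBi.flip.obj (hyp j m) : X.Modules ⥤ X.Modules).Additive :=
        Functor.additive_of_preserves_binary_products _
      infer_instance
    exact (Tw j L m).map_isZero h
  refine ⟨⟨0, fun L _ q _ d _ => Euler.subsingleton_HH_of_isZero (hz L d) q⟩,
    fun L _ m => euler_congr ⟨(hz L m).iso (hz _ m)⟩, fun m => ⟨0, fun L _ => ?_⟩⟩
  haveI := Euler.subsingleton_HH_of_isZero (hz L m) 0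
  exact (Module.finrank_zero_of_subsingleton).le

theorem Good.mid {S : ShortComplex X.Modules} (hS : S.ShortExact) (h₁ : Coh.IsCoh S.X₁) (h₂ : Coh.IsCoh S.X₂)
    (h₃ : Coh.IsCoh S.X₃) (g₁ : Good j S.X₁) (g₃ : Good j S.X₃) : Good j S.X₂ := by
  refine ⟨?_, fun L hL m => ?_, fun m => ?_⟩
  · obtain ⟨a, ha⟩ := g₁.van
    obtain ⟨b, hb⟩ := g₃.van
    refine ⟨max a b, fun L hL q hq d hd => ?_⟩
    obtain ⟨f, g, w, h⟩ := exists_Tw_seq j hL.1 d hS
    exact subsingleton_mid h (ha L hL q hq d (le_of_max_le_left hd)) (hb L hL q hq d (le_of_max_le_right hd))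
  · rw [euler_Tw_add j hL.1 m hS h₁ h₂ h₃, euler_Tw_add j CurveDeg.isInvertible_structureModule m hS h₁ h₂ h₃,
      g₁.euler L hL, g₃.euler L hL]
  · obtain ⟨a, ha⟩ := g₁.sec m
    obtain ⟨b, hb⟩ := g₃.sec m
    exact ⟨a + b, fun L hL => (hh_Tw_mid_le j hL.1 m hS h₁ h₂ h₃).trans (add_le_add (ha L hL) (hb L hL))⟩

end Twist

end Groth.Agent.Pic13Lib
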