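import Groth.Agent.Pic13Lib.NumSeq

/-!
# The step of the devissage for families of numerically trivial twists
-/

set_option linter.style.haveILetI false
set_option linter.unusedSectionVars false
set_option backward.isDefEq.respectTransparency false
set_option backward.isDefEq.respectTransparency.types false
set_option maxHeartbeats 1000000
set_option synthInstance.maxHeartbeats 200000

universe u

open CategoryTheory CategoryTheory.Limits AlgebraicGeometry TopologicalSpace Opposite
open Groth.Agent.H23.PicMul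

attribute [local instance] HasDerivedCategory.standard

noncomputable section

namespace Groth.Agent.Pic13Lib

open Groth.Agent

variable {k : Type u} [Field k] {n : ℕ} {X : Scheme.{u}} (j : X ⟶ CohB1.ProjSpace n k) [IsClosedImmersion j]
  [X.Over (Spec (CommRingCat.of k))] [IsProper (X ↘ Spec (CommRingCat.of k))]
  (hj : j ≫ CohB1.ProjSpace.toSpec n k = X ↘ Spec (CommRingCat.of k))

variable {Z : Scheme.{u}} (i : Z ⟶ X) [IsClosedImmersion i]

/-- Precomposing the first map of an exact sequence with an isomorphism. -/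
theorem exists_shortExact_precomp {C : Type*} [Category C] [Abelian C] {S : ShortComplex C} (hS : S.ShortExact)
    {A : C} (e : A ≅ S.X₁) : ∃ w : (e.hom ≫ S.f) ≫ S.g = 0, (ShortComplex.mk (e.hom ≫ S.f) S.g w).ShortExact := by
  have w : (e.hom ≫ S.f) ≫ S.g = 0 := by rw [Category.assoc, S.zero, comp_zero]
  refine ⟨w, ShortComplex.shortExact_of_iso (S₁ := S)
    (ShortComplex.isoMk (S₁ := S) (S₂ := ShortComplex.mk (e.hom ≫ S.f) S.g w) e.symm (Iso.refl _) (Iso.refl _) ?_ ?_) hS⟩
  · simp
  · simp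

/-- The projection formula for a closed subscheme. -/
theorem exists_push_Tw (L : X.Modules) (I : Z.Modules) (m : ℤ) :
    Nonempty ((Tw j L m).obj ((Coh.push i).obj I) ≅
      (Coh.push i).obj (CohB1.tensorMod I ((Scheme.Modules.pullback i).obj (Pic13.twistOn k j L m)))) := by
  haveI := KFlatLib.isIso_projMod_of_isClosedImmersion i I (Pic13.twistOn k j L m)
  obtain ⟨e⟩ := (cl_eq_iff (A := (Tw j L m).obj ((Coh.push i).obj I))
    (B := CohB1.tensorMod ((Coh.push i).obj I) (Pic13.twistOn k j L m))).1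
    (by rw [cl_Tw, cl_tensor, cl_twistOn, mul_assoc])
  exact ⟨e ≪≫ asIso (KFlatLib.projMod i I (Pic13.twistOn k j L m))⟩

variable [IsIntegral Z]

/-- Negative twists have no sections. -/
theorem hh_Tw_neg (hZ : ¬ Subsingleton Z) {I : Z.Modules} (ι : I ⟶ Coh.structureModule Z) [Mono ι]
    (hI : Coh.IsQCoh I) {L : X.Modules} (hL : NumTriv k L) {m : ℤ} (hm : m < 0) :
    hh k ((Tw j L m).obj ((Coh.push i).obj I)) 0 = 0 := by
  letI : Z.Over (Spec (CommRingCat.of k)) := ⟨i ≫ X ↘ Spec (CommRingCat.of k)⟩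
  haveI : IsProper (Z ↘ Spec (CommRingCat.of k)) := inferInstanceAs (IsProper (i ≫ X ↘ Spec (CommRingCat.of k)))
  haveI := isNoetherian j
  haveI : IsLocallyNoetherian Z := LocallyOfFiniteType.isLocallyNoetherian i
  let N := (Scheme.Modules.pullback i).obj (Pic13.twistOn k j L m)
  have hN : PicF.IsInvertible N :=
    PicClLib.isInvertible_pullback i (H23.PicMul.isInvertible_tensor hL.1 (isInvertible_hyp j m))
  have hIc : Coh.IsCoh I := QCoh.isCoh_of_mono ι QCoh.isCoh_structureModule' hI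
  have hIN : Coh.IsCoh (CohB1.tensorMod I N) := AmpleVan.isCoh_tensor hIc (AmpleVan.isCoh_invertible hN)
  obtain ⟨e⟩ := exists_push_Tw j i L I m
  obtain ⟨l⟩ := PnCoh.exists_linearEquiv_push k i rfl hIN.1 0
  haveI : Subsingleton Γ(N, ⊤) := subsingleton_of_forall_eq 0 fun t => by
    have h := congrArg InvX.one (eq_zero_of_twist_neg j i hZ hL hm (InvX.ofSect t))
    rw [InvX.one_ofSect] at h
    exact h.trans rfl
  haveI : Subsingleton (Coh.HH Z N 0) :=
    (Sheaf.H.equiv₀ (Coh.toAb N) isTerminalTop).toEquiv.subsingleton_congr.2 (by assumption)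
  obtain ⟨f⟩ : Nonempty (CohB1.tensorMod (Coh.structureModule Z) N ≅ N) :=
    cl_eq_iff.1 (by rw [cl_tensor, ← one_def, one_mul])
  haveI := AmpleVan.isEquivalence_tw hN
  let φ : CohB1.tensorMod I N ⟶ N := (AmpleVan.tw N).map ι ≫ f.hom
  haveI : Mono φ := inferInstanceAs (Mono ((AmpleVan.tw N).map ι ≫ f.hom))
  have hS : (ShortComplex.mk φ (cokernel.π φ) (cokernel.condition φ)).ShortExact :=
    .mk' (ShortComplex.exact_of_g_is_cokernel _ (cokernelIsCokernel φ)) inferInstance inferInstance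
  have h := hh_zero_left_le (k := k) hS (AmpleVan.isCoh_invertible hN)
  have h0 : hh k N 0 = 0 := Module.finrank_zero_of_subsingleton
  rw [hh_congr ⟨e⟩ 0]
  show Module.finrank k _ = 0
  rw [← l.finrank_eq]
  change hh k (CohB1.tensorMod I N) 0 ≤ hh k N 0 at h
  exact Nat.le_zero.1 (h.trans h0.le)

/-- On a one-point subscheme everything is constant. -/
theorem good_point [Subsingleton Z] {I : Z.Modules} (hF : Coh.IsCoh ((Coh.push i).obj I)) (hj' : j ≫
    CohB1.ProjSpace.toSpec n k = X ↘ Spec (CommRingCat.of k)) : Good j ((Coh.push i).obj I) := by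
  have he : ∀ (L : X.Modules), PicF.IsInvertible L → ∀ m : ℤ,
      Nonempty ((Tw j L m).obj ((Coh.push i).obj I) ≅ (Coh.push i).obj I) := fun L hL m => by
    obtain ⟨e⟩ := exists_push_Tw j i L I m
    have hN := PicClLib.isInvertible_pullback i (H23.PicMul.isInvertible_tensor hL (isInvertible_hyp j m))
    obtain ⟨f⟩ : Nonempty (CohB1.tensorMod I ((Scheme.Modules.pullback i).obj (Pic13.twistOn k j L m)) ≅ I) :=
      cl_eq_iff.1 ((cl_tensor _ _).trans (by
        rw [show PicF.cl ((Scheme.Modules.pullback i).obj (Pic13.twistOn k j L m)) = 1 from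
          H23.KLBasic.trivial_of_subsingleton hN, mul_one]))
    exact ⟨e ≪≫ (Coh.push i).mapIso f⟩
  have hO : PicF.IsInvertible (Coh.structureModule X) := CurveDeg.isInvertible_structureModule
  refine ⟨⟨0, fun L hL q hq d _ => ?_⟩, fun L hL m => ?_, fun m => ⟨hh k ((Coh.push i).obj I) 0, fun L hL => ?_⟩⟩
  · obtain ⟨d₀, hd₀⟩ := exists_vanishing j hj' hF
    have h1 : Nonempty (Pic13.twistOn k j ((Coh.push i).obj I) d₀ ≅ (Coh.push i).obj I) :=
      ⟨(exists_Tw_structure j _ d₀).some.symm ≪≫ (he _ hO d₀).some⟩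
    exact QCoh.subsingleton_HH_of_iso (he L hL.1 d).some.symm q
      (QCoh.subsingleton_HH_of_iso h1.some q (hd₀ d₀ le_rfl q hq))
  · exact euler_congr ⟨(he L hL.1 m).some ≪≫ (he _ hO m).some.symm⟩
  · exact (hh_congr (he L hL.1 m) 0).le

variable {ξ : X} (hr : Set.range i = closure {ξ})
  (IH : ∀ M : X.Modules, Coh.IsCoh M → CohB1.support M ⊆ closure {ξ} → ξ ∉ CohB1.support M → Good j M)

include hj hr IH in
/-- What the cut gives. -/
theorem exists_bounds (hZ : ¬ Subsingleton Z) {I : Z.Modules} (ι : I ⟶ Coh.structureModule Z) [Mono ι]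
    (hI : Coh.IsQCoh I) :
    (∀ m : ℤ, ∃ B : ℕ, ∀ L, NumTriv k L → hh k ((Tw j L m).obj ((Coh.push i).obj I)) 0 ≤ B) ∧
    (∀ L, NumTriv k L → ∀ m : ℤ,
      Curv2.euler k X ((Tw j L m).obj ((Coh.push i).obj I)) -
          Curv2.euler k X ((Tw j (Coh.structureModule X) m).obj ((Coh.push i).obj I)) =
        Curv2.euler k X ((Tw j L 0).obj ((Coh.push i).obj I)) -
          Curv2.euler k X ((Tw j (Coh.structureModule X) 0).obj ((Coh.push i).obj I))) ∧
    ∃ m₁ : ℤ, ∀ L, NumTriv k L →
      (∀ q : ℕ, 2 ≤ q → ∀ d : ℤ, m₁ - 1 ≤ d → Subsingleton (Coh.HH X ((Tw j L d).obj ((Coh.push i).obj I)) q)) ∧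
      (∀ d : ℤ, m₁ - 1 + (hh k ((Tw j L (m₁ - 1)).obj ((Coh.push i).obj I)) 1 : ℤ) ≤ d →
        Subsingleton (Coh.HH X ((Tw j L d).obj ((Coh.push i).obj I)) 1)) := by
  haveI := isNoetherian j
  haveI : IsLocallyNoetherian Z := LocallyOfFiniteType.isLocallyNoetherian i
  obtain ⟨G, α, π, w, hS, hG, hGs, hGξ⟩ := exists_cut j i hr ι hI
  have gG := IH G hG hGs hGξ
  let F := (Coh.push i).obj I
  have hF : Coh.IsCoh F := QCoh.isCoh_push i (QCoh.isCoh_of_mono ι QCoh.isCoh_structureModule' hI)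
  have hF1 : Coh.IsCoh (Pic13.twistOn k j F (-1)) := isCoh_twistOn j hF _
  have hO : PicF.IsInvertible (Coh.structureModule X) := CurveDeg.isInvertible_structureModule
  have hadd : ∀ L, PicF.IsInvertible L → ∀ m : ℤ, Curv2.euler k X ((Tw j L m).obj F) =
      Curv2.euler k X ((Tw j L (m - 1)).obj F) + Curv2.euler k X ((Tw j L m).obj G) := fun L hL m => by
    have h := euler_Tw_add j hL m hS hF1 hF hG
    rw [show m - 1 = m + -1 from sub_eq_add_neg _ _, ← euler_congr (exists_Tw_twist j L F (-1) m)]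
    exact h
  refine ⟨?_, fun L hL => ?_, ?_⟩
  · have hneg : ∀ m : ℤ, m < 0 → ∃ B : ℕ, ∀ L, NumTriv k L → hh k ((Tw j L m).obj F) 0 ≤ B := fun m hm =>
      ⟨0, fun L hL => (hh_Tw_neg j i hZ ι hI hL hm).le⟩
    intro m
    rcases lt_or_ge m 0 with hm | hm
    · exact hneg m hm
    have key : ∀ t : ℕ, ∃ B : ℕ, ∀ L, NumTriv k L → hh k ((Tw j L ((t : ℤ) - 1)).obj F) 0 ≤ B := by
      intro t
      induction t with
      | zero => exact hneg _ (by norm_num)
      | succ t ih =>
        obtain ⟨a, ha⟩ := ih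
        obtain ⟨b, hb⟩ := gG.sec (t : ℤ)
        refine ⟨a + b, fun L hL => ?_⟩
        have h := hh_Tw_mid_le j hL.1 (t : ℤ) hS hF1 hF hG
        rw [show ((t + 1 : ℕ) : ℤ) - 1 = (t : ℤ) by push_cast; ring]
        refine h.trans (add_le_add ?_ (hb L hL))
        rw [hh_congr (exists_Tw_twist j L F (-1) t) 0]
        exact ha L hL
    obtain ⟨t, rfl⟩ := Int.eq_ofNat_of_zero_le hm
    have h := key (t + 1)
    rwa [show ((t + 1 : ℕ) : ℤ) - 1 = (t : ℤ) by push_cast; ring] at h
  · intro m
    have h : ∀ m : ℤ, Curv2.euler k X ((Tw j L m).obj F) - Curv2.euler k X ((Tw j (Coh.structureModule X) m).obj F) =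
        Curv2.euler k X ((Tw j L (m - 1)).obj F) -
          Curv2.euler k X ((Tw j (Coh.structureModule X) (m - 1)).obj F) := fun m => by
      rw [hadd L hL.1 m, hadd _ hO m, gG.euler L hL m]
      ring
    induction m using Int.induction_on with
    | zero => rfl
    | succ t ih => rw [h, add_sub_cancel_right, ih]
    | pred t ih => rw [← h, ih]
  · obtain ⟨mG, hmG⟩ := gG.van
    refine ⟨mG + n, fun L hL => ?_⟩
    have hFL : Coh.IsCoh (CohB1.tensorMod F L) := AmpleVan.isCoh_tensor hF (AmpleVan.isCoh_invertible hL.1)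
    have hGL : Coh.IsCoh (CohB1.tensorMod G L) := AmpleVan.isCoh_tensor hG (AmpleVan.isCoh_invertible hL.1)
    haveI := AmpleVan.isEquivalence_tw hL.1
    haveI : (AmpleVan.tw L).Additive := Functor.additive_of_preserves_binary_products _
    obtain ⟨e⟩ := twistOn_tensor j F L (-1)
    obtain ⟨hw, hex⟩ := exists_shortExact_precomp (shortExact_of_isEquivalence (AmpleVan.tw L) hS) e
    have hm : ∀ q, 1 ≤ q → q ≤ n →
        Subsingleton (Coh.HH X (Pic13.twistOn k j (CohB1.tensorMod G L) (mG + n - q)) q) :=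
      fun q hq hqn => hmG L hL q hq _ (by omega)
    exact ⟨fun q hq d hd => subsingleton_high_of_seq j hj hFL hGL _ _ hw hex hm q hq d (by omega),
      fun d hd => subsingleton_one_of_seq j hj hFL hGL _ _ hw hex hm d hd⟩

include hj hr IH in
/-- The Euler characteristic of the structure sheaf of the subscheme. -/
theorem euler_structure (hZ : ¬ Subsingleton Z) {L : X.Modules} (hL : NumTriv k L) :
    Curv2.euler k X ((Tw j L 0).obj ((Coh.push i).obj (Coh.structureModule Z))) =
      Curv2.euler k X ((Tw j (Coh.structureModule X) 0).obj ((Coh.push i).obj (Coh.structureModule Z))) := by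
  haveI := isNoetherian j
  let F := (Coh.push i).obj (Coh.structureModule Z)
  obtain ⟨hsec, hconst, m₁, hm₁⟩ :=
    exists_bounds j hj i hr IH hZ (𝟙 (Coh.structureModule Z)) QCoh.isQCoh_structureModule
  obtain ⟨B, hB⟩ := hsec m₁
  let E : X.Modules → X.Modules → ℤ := fun L M =>
    Curv2.euler k X ((Tw j L 0).obj M) - Curv2.euler k X ((Tw j (Coh.structureModule X) 0).obj M)
  have hO : PicF.IsInvertible (Coh.structureModule X) := CurveDeg.isInvertible_structureModule
  have hadd : ∀ N L : X.Modules, NumTriv k N → NumTriv k L →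
      E (CohB1.tensorMod N L) F = E N F + E L F := fun N L hN hL => by
    obtain ⟨C₁, C₂, hC₁, hC₂, hs₁, hn₁, hs₂, hn₂, hstep⟩ := HilbPoly.exists_step i hr hN.1
    have hφ : HilbPoly.Additive (E L) := by
      refine ⟨fun M M' ⟨e⟩ => ?_, fun S hS h₁ h₂ h₃ => ?_⟩
      · show _ - _ = _ - _
        rw [euler_congr ⟨(Tw j L 0).mapIso e⟩, euler_congr ⟨(Tw j (Coh.structureModule X) 0).mapIso e⟩]
      · show _ - _ = _ - _ + (_ - _)
        rw [euler_Tw_add j hL.1 0 hS h₁ h₂ h₃, euler_Tw_add j hO 0 hS h₁ h₂ h₃]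
        ring
    have h := hstep (E L) hφ
    have z₁ : E L C₁ = 0 := sub_eq_zero.2 ((IH C₁ hC₁ hs₁ hn₁).euler L hL 0)
    have z₂ : E L C₂ = 0 := sub_eq_zero.2 ((IH C₂ hC₂ hs₂ hn₂).euler L hL 0)
    rw [z₁, z₂, add_zero, add_zero] at h
    simp only [E] at h ⊢
    rw [euler_congr (exists_Tw_tensor j N L F 0), euler_congr (exists_Tw_tensor j N (Coh.structureModule X) F 0),
      euler_congr (exists_Tw_congr j (L := CohB1.tensorMod N (Coh.structureModule X)) (L' := N)
        (by rw [cl_tensor, ← one_def, mul_one]) F 0)] at h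
    linarith
  have hbd : ∀ L, NumTriv k L →
      E L F ≤ (B : ℤ) - Curv2.euler k X ((Tw j (Coh.structureModule X) m₁).obj F) := fun L hL => by
    have h1 : Curv2.euler k X ((Tw j L m₁).obj F) =
        (hh k ((Tw j L m₁).obj F) 0 : ℤ) - hh k ((Tw j L m₁).obj F) 1 := by
      rw [Euler.euler_eq_sum k _ 2 fun q hq => (hm₁ L hL).1 q hq m₁ (by omega)]
      simp [Finset.sum_range_succ]
      ring
    have h2 := hB L hL
    have hc := hconst L hL m₁
    show _ - _ ≤ _
    simp only [F] at h1 h2 hc ⊢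
    rw [← hc, h1]
    omega
  have hle : ∀ L, NumTriv k L → E L F ≤ 0 := fun L hL => by
    by_contra hpos
    push Not at hpos
    have hp : ∀ t : ℕ, ∃ P, NumTriv k P ∧ E P F = t * E L F := by
      intro t
      induction t with
      | zero => exact ⟨_, numTriv_structure, by simp [E]⟩
      | succ t ih =>
        obtain ⟨P, hP, hPE⟩ := ih
        exact ⟨_, hP.tensor hL, by rw [hadd P L hP hL, hPE]; push_cast; ring⟩
    let C := (B : ℤ) - Curv2.euler k X ((Tw j (Coh.structureModule X) m₁).obj F)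
    obtain ⟨P, hP, hPE⟩ := hp (C.toNat + 1)
    have h := hbd P hP
    rw [hPE] at h
    have hC := Int.self_le_toNat C
    push_cast at h
    nlinarith
  obtain ⟨D, hD, ⟨e⟩⟩ := hL.exists_inverse
  have h0 : E (CohB1.tensorMod L D) F = 0 := by
    show _ - _ = (0 : ℤ)
    rw [euler_congr (exists_Tw_congr j (L := CohB1.tensorMod L D) (L' := Coh.structureModule X)
      (cl_eq_iff.2 ⟨e⟩) F 0), sub_self]
  have h := hadd L D hL hD
  have a := hle L hL
  have b := hle D hD
  exact sub_eq_zero.1 (show E L F = 0 by omega)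

include hj hr IH in
/-- The step. -/
theorem good_push {I : Z.Modules} (ι : I ⟶ Coh.structureModule Z) [Mono ι] (hI : Coh.IsQCoh I) (hI0 : ¬ IsZero I) :
    Good j ((Coh.push i).obj I) := by
  haveI := isNoetherian j
  haveI : IsLocallyNoetherian Z := LocallyOfFiniteType.isLocallyNoetherian i
  have hIc : Coh.IsCoh I := QCoh.isCoh_of_mono ι QCoh.isCoh_structureModule' hI
  have hF : Coh.IsCoh ((Coh.push i).obj I) := QCoh.isCoh_push i hIc
  by_cases hZ : Subsingleton Z
  · exact good_point j i hF hj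
  obtain ⟨hsec, hconst, m₁, hm₁⟩ := exists_bounds j hj i hr IH hZ ι hI
  have hξ : i (genericPoint Z) = ξ :=
    ((show Specializes (i (genericPoint Z)) ξ from specializes_iff_mem_closure.2
      ((QCoh.range_eq_closure i).le (hr.ge (subset_closure rfl)))).antisymm
    (specializes_iff_mem_closure.2 (hr.le ⟨_, rfl⟩))).eq
  have hA : Coh.IsCoh ((Coh.push i).obj (Coh.structureModule Z)) := QCoh.isCoh_push_structure i
  let κ := (Coh.push i).map ι
  haveI : Mono κ := by
    haveI : PreservesLimitsOfSize.{0, 0} (Scheme.Modules.pushforward i) :=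
      (Scheme.Modules.pullbackPushforwardAdjunction i).rightAdjoint_preservesLimits
    exact (Scheme.Modules.pushforward i).map_mono ι
  have hQ : Coh.IsCoh (cokernel κ) := QCoh.isCoh_cokernel hF.1 hA κ
  have hSκ : (ShortComplex.mk κ (cokernel.π κ) (cokernel.condition κ)).ShortExact :=
    .mk' (ShortComplex.exact_of_g_is_cokernel _ (cokernelIsCokernel κ)) inferInstance inferInstance
  have gQ := IH _ hQ ((QCoh.support_of_epi hA.1 hQ.1 (cokernel.π κ)).trans
    (hr ▸ QCoh.support_push_subset i QCoh.isQCoh_structureModule))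
    (hξ ▸ (QCoh.mem_support_push_ideal i ι hI hI0).2)
  have hO : PicF.IsInvertible (Coh.structureModule X) := CurveDeg.isInvertible_structureModule
  have heul : ∀ L, NumTriv k L → ∀ m : ℤ, Curv2.euler k X ((Tw j L m).obj ((Coh.push i).obj I)) =
      Curv2.euler k X ((Tw j (Coh.structureModule X) m).obj ((Coh.push i).obj I)) := fun L hL m => by
    refine sub_eq_zero.1 ((hconst L hL m).trans (sub_eq_zero.2 ?_))
    have a := euler_Tw_add j hL.1 0 hSκ hF hA hQ
    have b := euler_Tw_add j hO 0 hSκ hF hA hQ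
    have c := gQ.euler L hL 0
    have d := euler_structure j hj i hr IH hZ hL
    dsimp only at a b
    omega
  refine ⟨?_, heul, hsec⟩
  obtain ⟨B, hB⟩ := hsec (m₁ - 1)
  refine ⟨m₁ + |(B : ℤ) - Curv2.euler k X ((Tw j (Coh.structureModule X) (m₁ - 1)).obj ((Coh.push i).obj I))|,
    fun L hL q hq d hd => ?_⟩
  have h1 : Curv2.euler k X ((Tw j L (m₁ - 1)).obj ((Coh.push i).obj I)) =
      (hh k ((Tw j L (m₁ - 1)).obj ((Coh.push i).obj I)) 0 : ℤ) -
        hh k ((Tw j L (m₁ - 1)).obj ((Coh.push i).obj I)) 1 := by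
    rw [Euler.euler_eq_sum k _ 2 fun q hq => (hm₁ L hL).1 q hq _ (by omega)]
    simp [Finset.sum_range_succ]
    ring
  rw [heul L hL] at h1
  have h2 := hB L hL
  have h3 := le_abs_self ((B : ℤ) - Curv2.euler k X ((Tw j (Coh.structureModule X) (m₁ - 1)).obj ((Coh.push i).obj I)))
  have h4 := abs_nonneg ((B : ℤ) - Curv2.euler k X ((Tw j (Coh.structureModule X) (m₁ - 1)).obj ((Coh.push i).obj I)))
  rcases eq_or_lt_of_le hq with rfl | hq2
  · exact (hm₁ L hL).2 d (by omega)
  · exact (hm₁ L hL).1 q (by omega) d (by omega)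

end Groth.Agent.Pic13Lib
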