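import Groth.Agent.Pic13Lib.HodgeSurf
import Groth.Agent.IntNum47.CurveLift
import Groth.Agent.IntNum47.Push
import Groth.Agent.NormFieldX.Props
import Groth.Agent.NormFieldX.Curve
import Groth.Agent.S17806
import Groth.Agent.S4717
import Groth.Agent.PicClLib.Basic

/-!
# The Hodge conditions `(L·H^{r-1}) = 0`, `(L²·H^{r-2}) ≥ 0`; the case of an integral surface
-/

set_option autoImplicit false
set_option linter.style.haveILetI false
set_option linter.unusedSectionVars false
set_option backward.isDefEq.respectTransparency false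
set_option backward.isDefEq.respectTransparency.types false

universe u

open CategoryTheory CategoryTheory.Limits AlgebraicGeometry TopologicalSpace Opposite IsLocalRing

noncomputable section

namespace Groth.Agent.Pic13Lib

open Groth.Agent Groth.Agent.HilbPoly

variable (k : Type u) [Field k] {X : Scheme.{u}} [X.Over (Spec (CommRingCat.of k))]

/-- `(L·H^{s+1}) = 0` and `(L²·H^s) ≥ 0`. -/
def Orth (s : ℕ) (H L : X.Modules) : Prop :=
  iterD (L :: List.replicate (s + 1) H) (Curv2.euler k X) (Coh.structureModule X) = 0 ∧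
    0 ≤ iterD (L :: L :: List.replicate s H) (Curv2.euler k X) (Coh.structureModule X)

/-- Degree zero on every integral curve. -/
def CurveZero (L : X.Modules) : Prop := IntNum47.CurveDegEq k L (Coh.structureModule X)

variable [IsProper (X ↘ Spec (CommRingCat.of k))]

/-- Top iterated differences on an irreducible scheme only see the length at the generic point. -/
theorem iterD_eq_lenAt_mul [IrreducibleSpace X] {d : ℕ} (hdim : topologicalKrullDim X = (d : WithBot ℕ∞))
    {l : List X.Modules} (hl : l.length = d) (hinv : ∀ A ∈ l, PicF.IsInvertible A) {F : X.Modules}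
    (hF : Coh.IsCoh F) :
    iterD l (Curv2.euler k X) F = (VarBase.lenAt F (genericPoint X) : ℤ) *
      iterD l (Curv2.euler k X) (ClSub.quotMod (VarBase.clIdeal (genericPoint X))) := by
  haveI := CurveCohLib.isNoetherian_of_proper (k := k) (X := X)
  have hA := additive_iterD (additive_euler k (X := X)) hinv
  have hu : topologicalKrullDim ↥(closure ({genericPoint X} : Set X)) = (d : WithBot ℕ∞) := by
    rw [genericPoint_closure]
    exact ((Homeomorph.Set.univ X).isHomeomorph.topologicalKrullDim_eq).trans hdim
  have hall : ∀ T : Set X, topologicalKrullDim ↥T ≤ (d : WithBot ℕ∞) := fun T =>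
    (topologicalKrullDim_subspace_le X T).trans hdim.le
  rw [VarBase.eq_compSum (iterD l (Curv2.euler k X)) hA.iso d hA.add
    (fun M hM hlt => iterD_eq_zero d (additive_euler k) l hl hinv M hM hlt) hF (hall _),
    VarBase.compSum, finsum_eq_single _ (genericPoint X), if_pos hu, nsmul_eq_mul]
  intro ξ hξ
  rw [if_neg fun h => hξ ?_]
  exact (VarBase.eq_of_specializes_of_dim isClosed_univ (hall _) (Set.mem_univ _) (genericPoint_specializes ξ) h).symm

theorem lenAt_structure_pos [IrreducibleSpace X] [IsNoetherian X] {d : ℕ} (hdim : topologicalKrullDim X = (d : WithBot ℕ∞)) :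
    0 < VarBase.lenAt (Coh.structureModule X) (genericPoint X) := by
  have hu : topologicalKrullDim ↥(closure ({genericPoint X} : Set X)) = (d : WithBot ℕ∞) := by
    rw [genericPoint_closure]
    exact ((Homeomorph.Set.univ X).isHomeomorph.topologicalKrullDim_eq).trans hdim
  have h1 := VarBase.length_ne_top (QCoh.isCoh_structureModule' (X := X))
    ((topologicalKrullDim_subspace_le X _).trans hdim.le) hu
  rw [Nat.pos_iff_ne_zero]
  intro h0
  rcases ENat.toNat_eq_zero.1 h0 with h | h
  · rw [Module.length_eq_zero_iff] at h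
    obtain ⟨b⟩ := CurveTensor.exists_basis_stalk
      (InvEnd.isFinLocFreeOfRank_one (InvX.isInvertible_structureModule (X := X))) (genericPoint X)
    exact b.ne_zero 0 (@Subsingleton.elim _ h _ _)
  · exact h1 h

theorem forall_replicate {H : X.Modules} (hH : PicF.IsInvertible H) (n : ℕ) :
    ∀ A ∈ List.replicate n H, PicF.IsInvertible A := fun A hA => (List.eq_of_mem_replicate hA).symm ▸ hH

/-- The conditions descend along finite maps between irreducible schemes of the same dimension. -/
theorem orth_pullback [IrreducibleSpace X] {Y : Scheme.{u}} [Y.Over (Spec (CommRingCat.of k))]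
    [IsProper (Y ↘ Spec (CommRingCat.of k))] (g : Y ⟶ X) [IsFinite g]
    (hg : g ≫ (X ↘ Spec (CommRingCat.of k)) = Y ↘ Spec (CommRingCat.of k)) {s : ℕ}
    (hX : topologicalKrullDim X = ((s + 2 : ℕ) : WithBot ℕ∞))
    {H L : X.Modules} (hH : PicF.IsInvertible H) (hL : PicF.IsInvertible L) (h : Orth k s H L) :
    Orth k s ((Scheme.Modules.pullback g).obj H) ((Scheme.Modules.pullback g).obj L) := by
  haveI := CurveCohLib.isNoetherian_of_proper (k := k) (X := X)
  haveI := CurveCohLib.isNoetherian_of_proper (k := k) (X := Y)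
  have hF : Coh.IsCoh ((Scheme.Modules.pushforward g).obj (Coh.structureModule Y)) :=
    S0019.result g _ QCoh.isCoh_structureModule'
  have hi₁ : ∀ A ∈ L :: List.replicate (s + 1) H, PicF.IsInvertible A :=
    List.forall_mem_cons.2 ⟨hL, forall_replicate hH _⟩
  have hi₂ : ∀ A ∈ L :: L :: List.replicate s H, PicF.IsInvertible A :=
    List.forall_mem_cons.2 ⟨hL, List.forall_mem_cons.2 ⟨hL, forall_replicate hH _⟩⟩
  have key : ∀ l : List X.Modules, l.length = s + 2 → (∀ A ∈ l, PicF.IsInvertible A) →
      (VarBase.lenAt (Coh.structureModule X) (genericPoint X) : ℤ) *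
        iterD (l.map (Scheme.Modules.pullback g).obj) (Curv2.euler k Y) (Coh.structureModule Y) =
      (VarBase.lenAt ((Scheme.Modules.pushforward g).obj (Coh.structureModule Y)) (genericPoint X) : ℤ) *
        iterD l (Curv2.euler k X) (Coh.structureModule X) := fun l hl hi => by
    rw [← IntNum47.iterD_push k g hg l hi _ QCoh.isCoh_structureModule',
      iterD_eq_lenAt_mul k hX hl hi hF, iterD_eq_lenAt_mul k hX hl hi QCoh.isCoh_structureModule']
    ring
  have hpos : (0 : ℤ) < VarBase.lenAt (Coh.structureModule X) (genericPoint X) := by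
    exact_mod_cast lenAt_structure_pos hX
  have k1 := key _ (by simp) hi₁
  have k2 := key _ (by simp) hi₂
  simp only [List.map_cons, List.map_replicate, h.1, mul_zero, mul_eq_zero] at k1
  simp only [List.map_cons, List.map_replicate] at k2
  refine ⟨k1.resolve_left hpos.ne', nonneg_of_mul_nonneg_right ?_ hpos⟩
  rw [k2]
  exact mul_nonneg (Int.natCast_nonneg _) h.2

/-- Degree zero on curves descends along surjections. -/
theorem curveZero_of_pullback {Y : Scheme.{u}} [Y.Over (Spec (CommRingCat.of k))]
    [IsProper (Y ↘ Spec (CommRingCat.of k))] (g : Y ⟶ X)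
    (hg : g ≫ (X ↘ Spec (CommRingCat.of k)) = Y ↘ Spec (CommRingCat.of k)) [Surjective g]
    {L : X.Modules} (hL : PicF.IsInvertible L) (h : CurveZero k ((Scheme.Modules.pullback g).obj L)) :
    CurveZero k L := by
  refine IntNum47.curveDegEq_of_pullback k g hg hL InvX.isInvertible_structureModule fun Z ι hι hZ hZ1 => ?_
  refine (h Z ι hZ hZ1).trans ?_
  obtain ⟨e⟩ := PicClLib.nonempty_pullback_structureModule g
  haveI := hι
  letI : Z.Over (Spec (CommRingCat.of k)) := ⟨ι ≫ (Y ↘ Spec (CommRingCat.of k))⟩
  haveI : IsProper (Z ↘ Spec (CommRingCat.of k)) := inferInstanceAs (IsProper (ι ≫ _))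
  have h1 : topologicalKrullDim Z ≤ ((1 : ℕ) : WithBot ℕ∞) := by rw [hZ1]; simp
  rw [← IntNum47.iterD_push_structure_eq_curveDeg k ι rfl h1 InvX.isInvertible_structureModule,
    ← IntNum47.iterD_push_structure_eq_curveDeg k ι rfl h1
      (PicClLib.isInvertible_pullback g InvX.isInvertible_structureModule)]
  exact IntNum47.iterD_congr_head (IntNum47.isoInv_euler k) e.symm [] _

/-- A normal integral surface. -/
theorem curveZero_normal [IsIntegral X] (hdim : topologicalKrullDim X = 2) (hN : Pi1.IsNormalScheme X)
    {H L : X.Modules} (hH : CohB1.IsAmple H) (hL : PicF.IsInvertible L) (h : Orth k 0 H L) :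
    CurveZero k L := by
  haveI := CurveCohLib.isNoetherian_of_proper (k := k) (X := X)
  have hp : ∀ A B : X.Modules,
      iterD [A, B] (Curv2.euler k X) (Coh.structureModule X) = SurfInt.pair k A B := fun A B => by
    dsimp only [iterD]
    unfold SurfInt.pair
    rw [show Curv2.euler k X ((AmpleVan.tw B).obj ((AmpleVan.tw A).obj (Coh.structureModule X))) =
        Curv2.euler k X (CohB1.tensorMod A B) from
        SurfInt.euler_congr k (SurfInt.tMapL (SurfInt.tUnitL A) B),
      show Curv2.euler k X ((AmpleVan.tw A).obj (Coh.structureModule X)) = Curv2.euler k X A from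
        SurfInt.euler_congr k (SurfInt.tUnitL A),
      show Curv2.euler k X ((AmpleVan.tw B).obj (Coh.structureModule X)) = Curv2.euler k X B from
        SurfInt.euler_congr k (SurfInt.tUnitL B)]
    ring
  obtain ⟨h1, h2⟩ := h
  simp only [zero_add, List.replicate_one, List.replicate_zero, hp] at h1 h2
  intro Z ι hι hZ hZ1
  haveI := hι
  letI : Z.Over (Spec (CommRingCat.of k)) := ⟨ι ≫ (X ↘ Spec (CommRingCat.of k))⟩
  haveI : IsProper (Z ↘ Spec (CommRingCat.of k)) := inferInstanceAs (IsProper (ι ≫ _))
  have hZ1' : topologicalKrullDim Z ≤ ((1 : ℕ) : WithBot ℕ∞) := by rw [hZ1]; simp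
  haveI := hZ
  haveI := SurfInt.isIntegral_ker ι
  obtain ⟨e⟩ := SurfInt.nonempty_quotMod_ker ι
  have h3 := curveDeg_eq_zero_of_orthogonal k hdim hN hH hL h1 h2 ι.ker
    ((SurfInt.dim_support_ker ι).trans hZ1)
  rw [← IntNum47.iterD_push_structure_eq_curveDeg k ι rfl hZ1' hL,
    ← IntNum47.iterD_push_structure_eq_curveDeg k ι rfl hZ1' InvX.isInvertible_structureModule,
    IntNum47.iterD_structure (IntNum47.isoInv_euler k)]
  exact ((additive_iterD (additive_euler k) (l := [L]) (by simp [hL])).iso _ _ ⟨e.symm⟩).trans h3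

/-- **An integral surface.** -/
theorem curveZero_surface [IsIntegral X] (hdim : topologicalKrullDim X = 2)
    {H L : X.Modules} (hH : CohB1.IsAmple H) (hL : PicF.IsInvertible L) (h : Orth k 0 H L) :
    CurveZero k L := by
  haveI := CurveCohLib.isNoetherian_of_proper (k := k) (X := X)
  let φ : X.functionField →+* X.functionField := RingHom.id _
  haveI : QuasiCompact (NormFieldX.pnt X X.functionField φ) := inferInstance
  haveI : QuasiSeparated (NormFieldX.pnt X X.functionField φ) := inferInstance
  let ν := NormFieldX.ν X X.functionField φ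
  haveI hfin : IsFinite ν :=
    NormFieldX.isFinite_ν k (X ↘ Spec (CommRingCat.of k)) (RingHom.Finite.of_surjective φ Function.surjective_id)
  let N := NormFieldX.norm X X.functionField φ
  letI : N.Over (Spec (CommRingCat.of k)) := ⟨ν ≫ (X ↘ Spec (CommRingCat.of k))⟩
  haveI : IsProper (N ↘ Spec (CommRingCat.of k)) := inferInstanceAs (IsProper (ν ≫ _))
  haveI := CurveCohLib.isNoetherian_of_proper (k := k) (X := N)
  haveI : Surjective ν := ⟨Set.range_eq_univ.1 (Set.eq_univ_of_forall fun x =>
    ((genericPoint_specializes x).mem_closed ν.isClosedMap.isClosed_range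
      ⟨_, NormFieldX.ν_η X X.functionField φ⟩))⟩
  have hNd : topologicalKrullDim N = 2 := ((S4717.result ν).2 ν.surjective).trans hdim
  refine curveZero_of_pullback k ν rfl hL (curveZero_normal k hNd NormFieldX.isNormalScheme_norm
    (S17806.result k (X ↘ Spec (CommRingCat.of k)) (N ↘ Spec (CommRingCat.of k)) ν rfl H hH.1 hH)
    (PicClLib.isInvertible_pullback ν hL) ?_)
  exact orth_pullback k ν rfl (by rw [hdim]; rfl) hH.1 hL h

end Groth.Agent.Pic13Lib
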