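import Groth.Agent.Pic13Lib.Orth
import Groth.Agent.Pic13Lib.Member
import Groth.Agent.IntNum47.BaseChange
import Groth.Agent.AmpleX.Comp
import Groth.Agent.H23.RedSub

/-!
# The Hodge conditions force degree zero on curves: integral varieties of any dimension
-/

set_option autoImplicit false
set_option linter.style.haveILetI false
set_option linter.unusedSectionVars false
set_option backward.isDefEq.respectTransparency false
set_option backward.isDefEq.respectTransparency.types false

universe u

open CategoryTheory CategoryTheory.Limits AlgebraicGeometry TopologicalSpace Opposite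

noncomputable section

namespace Groth.Agent.Pic13Lib

open Groth.Agent Groth.Agent.HilbPoly

/-- Ampleness pulls back along affine morphisms. -/
theorem isAmple_pullback_affine {R : Type u} [CommRing R] {V W : Scheme.{u}} (gV : V ⟶ Spec (CommRingCat.of R))
    [QuasiCompact gV] (π : W ⟶ V) [IsAffineHom π] [CompactSpace W] {L : V.Modules} (hamp : CohB1.IsAmple L) :
    CohB1.IsAmple ((Scheme.Modules.pullback π).obj L) := by
  refine (AmpleX.isRelAmple_iff_isAmple (π ≫ gV) _).1 ?_
  exact AmpleX.isRelAmple_pullback_quasiAffine gV π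
    ⟨inferInstance, fun U hU => by
      haveI : IsAffine ((π ⁻¹ᵁ U : W.Opens) : Scheme.{u}) := hU.preimage π
      infer_instance⟩
    ((AmpleX.isRelAmple_iff_isAmple gV L).2 hamp)

section Congr

variable (k : Type u) [Field k] {X : Scheme.{u}} [X.Over (Spec (CommRingCat.of k))]

theorem forall₂_replicate {α : Type*} {R : α → α → Prop} {a b : α} (h : R a b) :
    ∀ n, List.Forall₂ R (List.replicate n a) (List.replicate n b)
  | 0 => List.Forall₂.nil
  | n + 1 => List.Forall₂.cons h (forall₂_replicate h n)

variable [IsProper (X ↘ Spec (CommRingCat.of k))]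

theorem orth_congr {s : ℕ} {H H' L L' : X.Modules} (eH : H ≅ H') (eL : L ≅ L') (h : Orth k s H L) :
    Orth k s H' L' := by
  have h1 := IntNum47.iterD_congr (φ := Curv2.euler k X) (IntNum47.isoInv_euler k)
    (l := L :: List.replicate (s + 1) H) (l' := L' :: List.replicate (s + 1) H')
    (List.Forall₂.cons ⟨eL⟩ (forall₂_replicate ⟨eH⟩ _))
  have h2 := IntNum47.iterD_congr (φ := Curv2.euler k X) (IntNum47.isoInv_euler k)
    (l := L :: L :: List.replicate s H) (l' := L' :: L' :: List.replicate s H')
    (List.Forall₂.cons ⟨eL⟩ (List.Forall₂.cons ⟨eL⟩ (forall₂_replicate ⟨eH⟩ _)))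
  exact ⟨(h1 _).symm.trans h.1, h.2.trans (h2 _).le⟩

/-- Linearity in the first module in top degree. -/
theorem iterD_tensorPow_cons {H : X.Modules} (hH : PicF.IsInvertible H) {l : List X.Modules}
    (hl : ∀ A ∈ l, PicF.IsInvertible A) (hd : topologicalKrullDim X ≤ ((l.length + 1 : ℕ) : WithBot ℕ∞))
    {F : X.Modules} (hF : Coh.IsCoh F) : ∀ t : ℕ,
    iterD (CohB1.tensorPow H t :: l) (Curv2.euler k X) F = t * iterD (H :: l) (Curv2.euler k X) F
  | 0 => by
    rw [Nat.cast_zero, zero_mul]
    exact IntNum47.iterD_structure (IntNum47.isoInv_euler k) l F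
  | t + 1 => by
    haveI := CurveCohLib.isNoetherian_of_proper (k := k) (X := X)
    have hlt : DimLT F (l.length + 2) := by
      refine ((topologicalKrullDim_subspace_le X _).trans hd).trans_lt ?_
      exact_mod_cast Nat.lt_succ_self _
    show iterD (CohB1.tensorMod (CohB1.tensorPow H t) H :: l) _ F = _
    rw [IntNum47.iterD_tensor (IntNum47.isoInv_euler k), iterD_tensorPow_cons hH hl hd hF t,
      iterD_eq_zero (l.length + 2) (additive_euler k) (CohB1.tensorPow H t :: H :: l) (by simp)
        (List.forall_mem_cons.2 ⟨InvX.isInvertible_tensorPow hH t, List.forall_mem_cons.2 ⟨hH, hl⟩⟩) F hF hlt]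
    push_cast
    ring

end Congr

variable {K : Type u} [Field K] {X : Scheme.{u}} [X.Over (Spec (CommRingCat.of K))]
  [IsProper (X ↘ Spec (CommRingCat.of K))]

/-- Iterated differences are unchanged by the extension to `K(u)`. -/
theorem iterD_ratBase {l : List X.Modules} (hl : ∀ A ∈ l, PicF.IsInvertible A)
    (hd : topologicalKrullDim X ≤ (l.length : WithBot ℕ∞)) :
    iterD (l.map (Scheme.Modules.pullback (ratProj K X)).obj) (Curv2.euler (RatFunc K) (ratBase K X))
        (Coh.structureModule (ratBase K X)) =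
      iterD l (Curv2.euler K X) (Coh.structureModule X) := by
  haveI := CurveCohLib.isNoetherian_of_proper (k := RatFunc K) (X := ratBase K X)
  haveI := CurveCohLib.isNoetherian_of_proper (k := K) (X := X)
  let M : Fin l.length → X.Modules := fun i => l.get i
  have hM : ∀ i, PicF.IsInvertible (M i) := fun i => hl _ (List.get_mem l i)
  have hM' : ∀ i, PicF.IsInvertible ((Scheme.Modules.pullback (ratProj K X)).obj (M i)) :=
    fun i => PicClLib.isInvertible_pullback _ (hM i)
  have hd' : topologicalKrullDim (ratBase K X) ≤ (l.length : WithBot ℕ∞) := topologicalKrullDim_ratBase.trans_le hd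
  have h1 := IntNum47.intNum_pullback_field K (RatFunc K) (ratProj K X) (ratPullback K X) l.length hM
    (QCoh.isCoh_structureModule' (X := X))
  obtain ⟨e⟩ : Nonempty ((Scheme.Modules.pullback (ratProj K X)).obj (Coh.structureModule X) ≅
      Coh.structureModule (ratBase K X)) := ⟨CurveBC.unitIso (ratProj K X)⟩
  have hc := AmpleVan.isCoh_invertible (PicClLib.isInvertible_pullback (ratProj K X)
    (InvX.isInvertible_structureModule (X := X)))
  rw [IntNum47.intNum_eq (RatFunc K) hd' hM' hc, IntNum47.intNum_eq K hd hM QCoh.isCoh_structureModule'] at h1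
  have h2 := mul_left_cancel₀ (pow_ne_zero _ (by norm_num : (-1 : ℤ) ≠ 0)) h1
  have hlist : List.ofFn (fun i => (Scheme.Modules.pullback (ratProj K X)).obj (M i)) =
      l.map (Scheme.Modules.pullback (ratProj K X)).obj := by
    rw [show (fun i => (Scheme.Modules.pullback (ratProj K X)).obj (M i)) =
      (Scheme.Modules.pullback (ratProj K X)).obj ∘ M from rfl, ← List.map_ofFn]
    exact congrArg _ (List.ofFn_get l)
  rw [hlist, List.ofFn_get] at h2
  exact (IntNum47.isoInv_iterD (IntNum47.isoInv_euler (RatFunc K)) _ e.symm).trans h2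

/-- The conditions on a member of `|H^t|` over `K(u)`. -/
theorem orth_member {s : ℕ} (hdim : topologicalKrullDim X = ((s + 3 : ℕ) : WithBot ℕ∞))
    [IsIntegral X] {H L : X.Modules} (hH : PicF.IsInvertible H) (hL : PicF.IsInvertible L)
    (h : Orth K (s + 1) H L) {t : ℕ} {D : (ratBase K X).IdealSheafData} (hD : BlowUp.IsEffCartierIdeal D)
    (hDdim : topologicalKrullDim (D.support : Set (ratBase K X)) ≤ ((s + 2 : ℕ) : WithBot ℕ∞))
    (e : CohB1.tensorMod (ClSub.idealMod D)
      ((Scheme.Modules.pullback (ratProj K X)).obj (CohB1.tensorPow H t)) ≅ Coh.structureModule (ratBase K X))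
    [D.subscheme.Over (Spec (CommRingCat.of (RatFunc K)))]
    [IsProper (D.subscheme ↘ Spec (CommRingCat.of (RatFunc K)))]
    (hi : D.subschemeι ≫ (ratBase K X ↘ Spec (CommRingCat.of (RatFunc K))) =
      D.subscheme ↘ Spec (CommRingCat.of (RatFunc K))) :
    Orth (RatFunc K) s ((Scheme.Modules.pullback D.subschemeι).obj ((Scheme.Modules.pullback (ratProj K X)).obj H))
      ((Scheme.Modules.pullback D.subschemeι).obj ((Scheme.Modules.pullback (ratProj K X)).obj L)) := by
  haveI := isIntegral_ratBase (K := K) (X := X)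
  haveI := CurveCohLib.isNoetherian_of_proper (k := RatFunc K) (X := ratBase K X)
  haveI := CurveCohLib.isNoetherian_of_proper (k := K) (X := X)
  haveI := CurveCohLib.isNoetherian_of_proper (k := RatFunc K) (X := D.subscheme)
  let g := Scheme.Modules.pullback (ratProj K X)
  let i := D.subschemeι
  have key : ∀ l : List X.Modules, l.length = s + 2 → (∀ A ∈ l, PicF.IsInvertible A) →
      iterD ((l.map g.obj).map (Scheme.Modules.pullback i).obj) (Curv2.euler (RatFunc K) D.subscheme)
          (Coh.structureModule D.subscheme) =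
        t * iterD (H :: l) (Curv2.euler K X) (Coh.structureModule X) := by
    intro l hl hli
    have hgl : ∀ A ∈ l.map g.obj, PicF.IsInvertible A := fun A hA => by
      obtain ⟨B, hB, rfl⟩ := List.mem_map.1 hA
      exact PicClLib.isInvertible_pullback _ (hli B hB)
    rw [← IntNum47.iterD_push (RatFunc K) i hi (l.map g.obj) hgl _ QCoh.isCoh_structureModule']
    show iterD (l.map g.obj) _ (ClSub.quotMod D) = _
    have hA := additive_iterD (additive_euler (RatFunc K) (X := ratBase K X)) hgl
    have hI := SurfInt.isCoh_idealMod D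
    have hadd := hA.add _ (SurfInt.idealSeq_shortExact D) hI QCoh.isCoh_structureModule' (ParShLib.isCoh_quotMod D)
    dsimp only [SurfInt.idealSeq] at hadd
    have hP := PicClLib.isInvertible_pullback (ratProj K X) (InvX.isInvertible_tensorPow hH t)
    have hgl' : ∀ A ∈ g.obj (CohB1.tensorPow H t) :: l.map g.obj, PicF.IsInvertible A :=
      List.forall_mem_cons.2 ⟨hP, hgl⟩
    have hA' := additive_iterD (additive_euler (RatFunc K) (X := ratBase K X)) hgl'
    have hadd' := hA'.add _ (SurfInt.idealSeq_shortExact D) hI QCoh.isCoh_structureModule' (ParShLib.isCoh_quotMod D)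
    dsimp only [SurfInt.idealSeq] at hadd'
    have hz : iterD (g.obj (CohB1.tensorPow H t) :: l.map g.obj) (Curv2.euler (RatFunc K) (ratBase K X))
        (ClSub.quotMod D) = 0 :=
      iterD_eq_zero (s + 3) (additive_euler (RatFunc K)) _ (by simp [hl]) hgl' _ (ParShLib.isCoh_quotMod D)
        (((VarBase.dim_support_quotMod_le D).trans hDdim).trans_lt (by exact_mod_cast Nat.lt_succ_self _))
    rw [hz, add_zero] at hadd'
    have hd : topologicalKrullDim X ≤ (((H :: l).length : ℕ) : WithBot ℕ∞) := by
      rw [hdim, List.length_cons, hl]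
    have hb := iterD_ratBase (K := K) (l := CohB1.tensorPow H t :: l)
      (List.forall_mem_cons.2 ⟨InvX.isInvertible_tensorPow hH t, hli⟩) (by simpa using hd)
    rw [List.map_cons, hadd'] at hb
    rw [iterD_tensorPow_cons K hH hli (by rw [hdim, hl]) QCoh.isCoh_structureModule'] at hb
    rw [← hb]
    simp only [iterD]
    rw [show iterD (l.map g.obj) (Curv2.euler (RatFunc K) (ratBase K X))
        ((AmpleVan.tw (g.obj (CohB1.tensorPow H t))).obj (ClSub.idealMod D)) = _ from
      IntNum47.isoInv_iterD (IntNum47.isoInv_euler (RatFunc K)) (l.map g.obj) e]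
    linarith
  have hperm : ∀ l l' : List X.Modules, l.Perm l' →
      iterD l (Curv2.euler K X) (Coh.structureModule X) = iterD l' (Curv2.euler K X) (Coh.structureModule X) :=
    fun l l' hp => IntNum47.iterD_perm (IntNum47.isoInv_euler K) hp _
  have k1 := key (L :: List.replicate (s + 1) H) (by simp) (List.forall_mem_cons.2 ⟨hL, forall_replicate hH _⟩)
  have k2 := key (L :: L :: List.replicate s H) (by simp)
    (List.forall_mem_cons.2 ⟨hL, List.forall_mem_cons.2 ⟨hL, forall_replicate hH _⟩⟩)
  rw [hperm (H :: L :: List.replicate (s + 1) H) (L :: List.replicate (s + 1 + 1) H) (List.Perm.swap _ _ _),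
    h.1, mul_zero] at k1
  rw [hperm (H :: L :: L :: List.replicate s H) (L :: L :: List.replicate (s + 1) H)
    ((List.Perm.swap _ _ _).trans ((List.Perm.swap _ _ _).cons _))] at k2
  simp only [List.map_cons, List.map_replicate] at k1 k2
  exact ⟨k1, k2.symm ▸ mul_nonneg (Int.natCast_nonneg t) h.2⟩

/-- Degrees are unchanged by the extension to `K(u)`. -/
theorem curveDeg_ratBase {Z : Scheme.{u}} [Z.Over (Spec (CommRingCat.of K))]
    [IsProper (Z ↘ Spec (CommRingCat.of K))] {A : Z.Modules} (hA : PicF.IsInvertible A) :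
    Pic13.curveDeg (RatFunc K) (ratBase K Z ↘ Spec (CommRingCat.of (RatFunc K)))
        ((Scheme.Modules.pullback (ratProj K Z)).obj A) =
      Pic13.curveDeg K (Z ↘ Spec (CommRingCat.of K)) A := by
  haveI := CurveCohLib.isNoetherian_of_proper (k := K) (X := Z)
  haveI : CompactSpace Z := inferInstance
  show FGA.eulerCharLE (RatFunc K) (ratBase K Z) _ 1 - FGA.eulerCharLE (RatFunc K) (ratBase K Z) _ 1 =
    FGA.eulerCharLE K Z _ 1 - FGA.eulerCharLE K Z _ 1
  have h : ∀ M : Z.Modules, Coh.IsQCoh M →
      FGA.eulerCharLE (RatFunc K) (ratBase K Z) ((Scheme.Modules.pullback (ratProj K Z)).obj M) 1 =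
        FGA.eulerCharLE K Z M 1 := fun M hM =>
    Finset.sum_congr rfl fun i _ => by
      rw [CurveBC.finrank_hh K (RatFunc K) (ratProj K Z) (ratPullback K Z) M hM i]
  rw [h A (AmpleVan.isCoh_invertible hA).1, ← h (Coh.structureModule Z) QCoh.isQCoh_structureModule]
  congr 1
  exact Finset.sum_congr rfl fun i _ => by
    rw [(CurveCohLib.hhEquiv (k := RatFunc K) (CurveBC.unitIso (ratProj K Z)) i).finrank_eq]

theorem curveDeg_congr' {k : Type u} [Field k] {Z : Scheme.{u}} [Z.Over (Spec (CommRingCat.of k))]
    {A B : Z.Modules} (e : A ≅ B) :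
    Pic13.curveDeg k (Z ↘ Spec (CommRingCat.of k)) A = Pic13.curveDeg k (Z ↘ Spec (CommRingCat.of k)) B :=
  congrArg (· - _) (Finset.sum_congr rfl fun i _ => by rw [(CurveCohLib.hhEquiv (k := k) e i).finrank_eq])

omit [X.Over (Spec (CommRingCat.of K))] [IsProper (X ↘ Spec (CommRingCat.of K))] in
/-- **The integral case.** -/
theorem curveZero_integral : ∀ (s : ℕ) (k : Type u) [Field k] (Y : Scheme.{u})
    [Y.Over (Spec (CommRingCat.of k))] [IsProper (Y ↘ Spec (CommRingCat.of k))] [IsIntegral Y],
    topologicalKrullDim Y = ((s + 2 : ℕ) : WithBot ℕ∞) → ∀ {H L : Y.Modules}, CohB1.IsAmple H →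
      PicF.IsInvertible L → Orth k s H L → CurveZero k L := by
  intro s
  induction s with
  | zero => exact fun k _ Y _ _ _ hdim _ _ hH hL h => curveZero_surface k (by rw [hdim]; rfl) hH hL h
  | succ s ih =>
    intro k _ Y _ _ _ hdim H L hH hL h Z ι hι hZ hZ1
    haveI := hι
    haveI := hZ
    haveI := CurveCohLib.isNoetherian_of_proper (k := k) (X := Y)
    have hne : (Set.range ι).Nonempty := Set.range_nonempty _
    have hZd : topologicalKrullDim ↥(Set.range ι) ≤ ((1 : ℕ) : WithBot ℕ∞) := by
      rw [← IsHomeomorph.topologicalKrullDim_eq _ ι.isClosedEmbedding.isEmbedding.toHomeomorph.isHomeomorph, hZ1]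
      simp
    obtain ⟨t, D, hD, ⟨e⟩, hDirr, hDdim, hCD⟩ := exists_member_irreducible (K := k) (X := Y) (d := s + 2)
      (by omega) (by rw [hdim]) hH ι.isClosedEmbedding.isClosed_range hne hZd
    haveI := hDirr
    let K' := RatFunc k
    let Y' := ratBase k Y
    let g := ratProj k Y
    letI : D.subscheme.Over (Spec (CommRingCat.of K')) := ⟨D.subschemeι ≫ (Y' ↘ Spec (CommRingCat.of K'))⟩
    haveI : IsProper (D.subscheme ↘ Spec (CommRingCat.of K')) :=
      inferInstanceAs (IsProper (D.subschemeι ≫ (Y' ↘ Spec (CommRingCat.of K'))))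
    haveI := CurveCohLib.isNoetherian_of_proper (k := K') (X := D.subscheme)
    have hDs : topologicalKrullDim ↥(D.support : Set Y') ≤ ((s + 2 : ℕ) : WithBot ℕ∞) := by
      rw [← Scheme.IdealSheafData.range_subschemeι, ← IsHomeomorph.topologicalKrullDim_eq _
        D.subschemeι.isClosedEmbedding.isEmbedding.toHomeomorph.isHomeomorph, hDdim]
    have hOD := orth_member hdim hH.1 hL h hD hDs e (show D.subschemeι ≫ _ = _ from rfl)
    -- the reduced member
    let R := (Scheme.IdealSheafData.vanishingIdeal (D.support : Closeds Y')).subscheme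
    let j : R ⟶ Y' := (Scheme.IdealSheafData.vanishingIdeal (D.support : Closeds Y')).subschemeι
    have hjr : Set.range j = Set.range D.subschemeι := by
      rw [H23.RedSub.range_vanishingIdeal, Scheme.IdealSheafData.range_subschemeι]
    haveI : IrreducibleSpace R := by
      let e' := j.isClosedEmbedding.isEmbedding.toHomeomorph.trans ((Homeomorph.setCongr hjr).trans
        D.subschemeι.isClosedEmbedding.isEmbedding.toHomeomorph.symm)
      exact e'.symm.surjective.irreducibleSpace e'.symm.continuous
    haveI : IsReduced R := H23.RedSub.isReduced_vanishingIdeal _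
    haveI : IsIntegral R := isIntegral_of_irreducibleSpace_of_isReduced _
    letI : R.Over (Spec (CommRingCat.of K')) := ⟨j ≫ (Y' ↘ Spec (CommRingCat.of K'))⟩
    haveI : IsProper (R ↘ Spec (CommRingCat.of K')) :=
      inferInstanceAs (IsProper (j ≫ (Y' ↘ Spec (CommRingCat.of K'))))
    haveI := CurveCohLib.isNoetherian_of_proper (k := K') (X := R)
    have hRdim : topologicalKrullDim R = ((s + 2 : ℕ) : WithBot ℕ∞) := by
      rw [← hDdim, IsHomeomorph.topologicalKrullDim_eq _ j.isClosedEmbedding.isEmbedding.toHomeomorph.isHomeomorph,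
        IsHomeomorph.topologicalKrullDim_eq _
          D.subschemeι.isClosedEmbedding.isEmbedding.toHomeomorph.isHomeomorph, hjr]
    obtain ⟨r, hr⟩ := H23.RedSub.exists_lift_closed j D.subschemeι hjr.le
    haveI : IsClosedImmersion (r ≫ D.subschemeι) := hr.symm ▸ inferInstance
    haveI : IsClosedImmersion r := IsClosedImmersion.of_comp r D.subschemeι
    let F : Y.Modules → R.Modules := fun A =>
      (Scheme.Modules.pullback j).obj ((Scheme.Modules.pullback g).obj A)
    have hr' : r ≫ (D.subscheme ↘ Spec (CommRingCat.of K')) = R ↘ Spec (CommRingCat.of K') := by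
      show r ≫ D.subschemeι ≫ _ = j ≫ _
      rw [← Category.assoc, hr]
    let eR : ∀ A : Y'.Modules, (Scheme.Modules.pullback r).obj ((Scheme.Modules.pullback D.subschemeι).obj A) ≅
        (Scheme.Modules.pullback j).obj A := fun A =>
      (Scheme.Modules.pullbackComp r D.subschemeι).app A ≪≫ (Scheme.Modules.pullbackCongr hr).app A
    have hO : Orth K' s (F H) (F L) := orth_congr K' (eR _) (eR _)
      (orth_pullback K' r hr' hDdim (PicClLib.isInvertible_pullback _ (PicClLib.isInvertible_pullback g hH.1))
        (PicClLib.isInvertible_pullback _ (PicClLib.isInvertible_pullback g hL)) hOD)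
    have hHR : CohB1.IsAmple (F H) :=
      isAmple_pullback_affine (Y' ↘ Spec (CommRingCat.of K')) j
        (isAmple_pullback_affine (Y ↘ Spec (CommRingCat.of k)) g hH)
    have hCZ := ih K' R hRdim hHR (PicClLib.isInvertible_pullback _ (PicClLib.isInvertible_pullback g hL)) hO
    -- the curve over `K(u)`
    letI : Z.Over (Spec (CommRingCat.of k)) := ⟨ι ≫ (Y ↘ Spec (CommRingCat.of k))⟩
    haveI : IsProper (Z ↘ Spec (CommRingCat.of k)) := inferInstanceAs (IsProper (ι ≫ _))
    haveI := isIntegral_ratBase (K := k) (X := Z)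
    let c : ratBase k Z ⟶ Y' := pullback.lift (ratProj k Z ≫ ι) (pullback.snd _ _) (by
      rw [Category.assoc]; exact pullback.condition)
    have hcg : c ≫ g = ratProj k Z ≫ ι := pullback.lift_fst _ _ _
    have hcs : c ≫ (Y' ↘ Spec (CommRingCat.of K')) = ratBase k Z ↘ Spec (CommRingCat.of K') :=
      pullback.lift_snd _ _ _
    have hpb : IsPullback c (ratProj k Z) g ι :=
      IsPullback.of_right (by rw [hcs]; exact (ratPullback k Z).flip) hcg (ratPullback k Y).flip
    haveI : IsClosedImmersion c := MorphismProperty.of_isPullback hpb.flip hι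
    obtain ⟨q, hq⟩ := H23.RedSub.exists_lift_closed c j (by
      rw [hjr, Scheme.IdealSheafData.range_subschemeι]
      rintro _ ⟨z, rfl⟩
      refine hCD ?_
      show g (c z) ∈ Set.range ι
      rw [← Scheme.Hom.comp_apply, hcg]
      exact ⟨ratProj k Z z, rfl⟩)
    haveI : IsClosedImmersion (q ≫ j) := hq.symm ▸ inferInstance
    haveI : IsClosedImmersion q := IsClosedImmersion.of_comp q j
    have hZ'1 : topologicalKrullDim (ratBase k Z) = 1 := topologicalKrullDim_ratBase.trans hZ1
    have hdeg := hCZ (ratBase k Z) q (isIntegral_ratBase (K := k) (X := Z)) hZ'1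
    rw [show q ≫ (R ↘ Spec (CommRingCat.of K')) = ratBase k Z ↘ Spec (CommRingCat.of K') by
      show q ≫ j ≫ _ = _
      rw [← Category.assoc, hq, hcs]] at hdeg
    obtain ⟨eO⟩ := PicClLib.nonempty_pullback_structureModule q
    obtain ⟨eι⟩ := PicClLib.nonempty_pullback_structureModule ι
    obtain ⟨eg⟩ := PicClLib.nonempty_pullback_structureModule (ratProj k Z)
    have eL : (Scheme.Modules.pullback q).obj (F L) ≅
        (Scheme.Modules.pullback (ratProj k Z)).obj ((Scheme.Modules.pullback ι).obj L) :=
      (Scheme.Modules.pullbackComp q j).app _ ≪≫ (Scheme.Modules.pullbackCongr hq).app _ ≪≫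
        (Scheme.Modules.pullbackComp c g).app L ≪≫ (Scheme.Modules.pullbackCongr hcg).app L ≪≫
        ((Scheme.Modules.pullbackComp (ratProj k Z) ι).app L).symm
    rw [curveDeg_congr' eL, curveDeg_congr' (eO ≪≫ eg.symm ≪≫ (Scheme.Modules.pullback (ratProj k Z)).mapIso eι.symm),
      curveDeg_ratBase (PicClLib.isInvertible_pullback ι hL),
      curveDeg_ratBase (PicClLib.isInvertible_pullback ι InvX.isInvertible_structureModule)] at hdeg
    exact hdeg

end Groth.Agent.Pic13Lib
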