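import Groth.Agent.Pic13Lib.OrthInd
import Groth.Agent.IntNum47.Binom
import Groth.Agent.IntNum47.NumInv
import Groth.Agent.AmpleX.FiniteSet
import Groth.Agent.InvX.GenLocusPull
import Groth.Agent.ThetaPow.ZeroIdeal
import Groth.Agent.HilbPoly.Pos
import Mathlib.Data.Fin.VecNotation

/-!
# The Hodge conditions force numerical triviality: irreducible schemes, zero schemes
-/

set_option autoImplicit false
set_option linter.style.haveILetI false
set_option linter.unusedSectionVars false
set_option backward.isDefEq.respectTransparency false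
set_option backward.isDefEq.respectTransparency.types false

universe u

open CategoryTheory CategoryTheory.Limits AlgebraicGeometry TopologicalSpace Opposite

noncomputable section

namespace Groth.Agent.Pic13Lib

open Groth.Agent Groth.Agent.HilbPoly

theorem ofFn_const' {α : Type*} (a : α) : ∀ n : ℕ, List.ofFn (fun _ : Fin n => a) = List.replicate n a
  | 0 => rfl
  | n + 1 => by rw [List.ofFn_succ, ofFn_const' a n, List.replicate_succ]

theorem ofFn_vecCons {α : Type*} (a b : α) (n : ℕ) :
    List.ofFn (Matrix.vecCons a (fun _ : Fin n => b)) = a :: List.replicate n b := by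
  rw [List.ofFn_succ]
  simp [ofFn_const']

variable (k : Type u) [Field k] {X : Scheme.{u}} [X.Over (Spec (CommRingCat.of k))]
  [IsProper (X ↘ Spec (CommRingCat.of k))]

/-- Degree zero on every curve is numerical triviality. -/
theorem isNumEquivZero_of_curveZero {L : X.Modules} (h : CurveZero k L) : Pic13.IsNumEquivZero k X L := by
  intro Z ι hι hZ hZ1
  haveI := hι
  refine (h Z ι hZ hZ1).trans ?_
  obtain ⟨e⟩ := PicClLib.nonempty_pullback_structureModule ι
  letI : Z.Over (Spec (CommRingCat.of k)) := ⟨ι ≫ (X ↘ Spec (CommRingCat.of k))⟩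
  show Pic13.curveDeg k (Z ↘ Spec (CommRingCat.of k)) _ = 0
  rw [curveDeg_congr' e]
  exact sub_self _

theorem curveZero_of_degrees {L : X.Modules} (h : Pic13.IsNumEquivZero k X L) : CurveZero k L := by
  intro Z ι hι hZ hZ1
  haveI := hι
  refine (h Z ι hZ hZ1).trans ?_
  obtain ⟨e⟩ := PicClLib.nonempty_pullback_structureModule ι
  letI : Z.Over (Spec (CommRingCat.of k)) := ⟨ι ≫ (X ↘ Spec (CommRingCat.of k))⟩
  show 0 = Pic13.curveDeg k (Z ↘ Spec (CommRingCat.of k)) _
  rw [curveDeg_congr' e]
  exact (sub_self _).symm

/-- Passing to inverses in top degree multiplies by a sign. -/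
theorem iterD_inverses : ∀ {l l' : List X.Modules},
    List.Forall₂ (fun A A' => PicF.IsInvertible A ∧ PicF.IsInvertible A' ∧
      Nonempty (CohB1.tensorMod A A' ≅ Coh.structureModule X)) l l' →
    ∀ post : List X.Modules, (∀ B ∈ post, PicF.IsInvertible B) →
      topologicalKrullDim X ≤ (((l ++ post).length : ℕ) : WithBot ℕ∞) →
      iterD (l' ++ post) (Curv2.euler k X) (Coh.structureModule X) =
        (-1) ^ l.length * iterD (l ++ post) (Curv2.euler k X) (Coh.structureModule X) := by
  intro l l' hll
  haveI := CurveCohLib.isNoetherian_of_proper (k := k) (X := X)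
  induction hll with
  | nil => intro post _ _; simp
  | @cons A A' l l' hA hl ih =>
    intro post hpost hd
    obtain ⟨hA, hA', ⟨e⟩⟩ := hA
    have hl'inv : ∀ B ∈ l', PicF.IsInvertible B := by
      intro B hB
      obtain ⟨i, hi, rfl⟩ := List.mem_iff_getElem.1 hB
      exact (List.forall₂_iff_get.1 hl).2 i (hl.length_eq ▸ hi) hi |>.2.1
    have hrest : ∀ B ∈ l' ++ post, PicF.IsInvertible B :=
      fun B hB => (List.mem_append.1 hB).elim (hl'inv B) (hpost B)
    have hneg : iterD (A' :: (l' ++ post)) (Curv2.euler k X) (Coh.structureModule X) =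
        - iterD (A :: (l' ++ post)) (Curv2.euler k X) (Coh.structureModule X) := by
      have h0 := IntNum47.iterD_congr_head (IntNum47.isoInv_euler k) e (l' ++ post) (Coh.structureModule X)
      have hlt : DimLT (Coh.structureModule X) ((l' ++ post).length + 2) := by
        refine ((topologicalKrullDim_subspace_le X _).trans hd).trans_lt ?_
        simp only [List.cons_append, List.length_cons, List.length_append, hl.length_eq]
        exact_mod_cast Nat.lt_succ_self _
      rw [IntNum47.iterD_tensor (IntNum47.isoInv_euler k), IntNum47.iterD_structure (IntNum47.isoInv_euler k),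
        iterD_eq_zero ((l' ++ post).length + 2) (additive_euler k) (A :: A' :: (l' ++ post)) (by simp)
          (List.forall_mem_cons.2 ⟨hA, List.forall_mem_cons.2 ⟨hA', hrest⟩⟩) _ QCoh.isCoh_structureModule' hlt] at h0
      linarith
    have hp : iterD (A :: (l' ++ post)) (Curv2.euler k X) (Coh.structureModule X) =
        iterD (l' ++ (A :: post)) (Curv2.euler k X) (Coh.structureModule X) :=
      IntNum47.iterD_perm (IntNum47.isoInv_euler k) (List.perm_middle.symm) _
    have hp' : iterD (A :: (l ++ post)) (Curv2.euler k X) (Coh.structureModule X) =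
        iterD (l ++ (A :: post)) (Curv2.euler k X) (Coh.structureModule X) :=
      IntNum47.iterD_perm (IntNum47.isoInv_euler k) (List.perm_middle.symm) _
    have hd' : topologicalKrullDim X ≤ (((l ++ (A :: post)).length : ℕ) : WithBot ℕ∞) := by
      refine hd.trans ?_
      simp [add_assoc, add_comm, add_left_comm]
    have := ih (A :: post) (List.forall_mem_cons.2 ⟨hA, hpost⟩) hd'
    rw [List.cons_append, List.cons_append, hneg, hp, this, hp', List.length_cons, pow_succ]
    ring

/-- Intersection numbers of the inverses are iterated differences. -/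
theorem intNum_inverses {r : ℕ} (hd : topologicalKrullDim X = (r : WithBot ℕ∞)) {M' : Fin r → X.Modules}
    {l : List X.Modules}
    (hM : List.Forall₂ (fun A A' => PicF.IsInvertible A ∧ PicF.IsInvertible A' ∧
      Nonempty (CohB1.tensorMod A A' ≅ Coh.structureModule X)) l (List.ofFn M')) :
    FGA.intNum k X r M' (Coh.structureModule X) = iterD l (Curv2.euler k X) (Coh.structureModule X) := by
  haveI := CurveCohLib.isNoetherian_of_proper (k := k) (X := X)
  have hlen : l.length = r := hM.length_eq.trans (List.length_ofFn ..)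
  have hinv : ∀ i, PicF.IsInvertible (M' i) := fun i =>
    ((List.forall₂_iff_get.1 hM).2 i (by simp [hlen]) (by simp)).2.1 |> fun h => by simpa using h
  have h := iterD_inverses k hM [] (by simp) (by simp [hlen, hd])
  rw [List.append_nil, List.append_nil, hlen] at h
  rw [IntNum47.intNum_eq k hd.le hinv QCoh.isCoh_structureModule', h, ← mul_assoc, ← mul_pow]
  simp

/-- **The irreducible case.** -/
theorem isNumEquivZero_of_orth [IrreducibleSpace X] {s : ℕ}
    (hdim : topologicalKrullDim X = ((s + 2 : ℕ) : WithBot ℕ∞))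
    {H L : X.Modules} (hH : CohB1.IsAmple H) (hL : PicF.IsInvertible L) (h : Orth k s H L) :
    Pic13.IsNumEquivZero k X L := by
  haveI := CurveCohLib.isNoetherian_of_proper (k := k) (X := X)
  let I := Scheme.IdealSheafData.vanishingIdeal (⊤ : Closeds X)
  let R := I.subscheme
  let j : R ⟶ X := I.subschemeι
  have hjr : Set.range j = Set.univ := H23.RedSub.range_vanishingIdeal _
  haveI : Surjective j := ⟨Set.range_eq_univ.1 hjr⟩
  haveI : IsReduced R := H23.RedSub.isReduced_vanishingIdeal _
  let e := (j.isClosedEmbedding.isEmbedding.toHomeomorph.trans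
    ((Homeomorph.setCongr hjr).trans (Homeomorph.Set.univ X)))
  haveI : IrreducibleSpace R := e.symm.surjective.irreducibleSpace e.symm.continuous
  haveI : IsIntegral R := isIntegral_of_irreducibleSpace_of_isReduced _
  letI : R.Over (Spec (CommRingCat.of k)) := ⟨j ≫ (X ↘ Spec (CommRingCat.of k))⟩
  haveI : IsProper (R ↘ Spec (CommRingCat.of k)) := inferInstanceAs (IsProper (j ≫ _))
  haveI := CurveCohLib.isNoetherian_of_proper (k := k) (X := R)
  refine isNumEquivZero_of_curveZero k (curveZero_of_pullback k j rfl hL (curveZero_integral s k R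
    (e.isHomeomorph.topologicalKrullDim_eq.trans hdim)
    (isAmple_pullback_affine (X ↘ Spec (CommRingCat.of k)) j hH) (PicClLib.isInvertible_pullback j hL)
    (orth_pullback k j rfl hdim hH.1 hL h)))

/-- The support of the zero scheme is the complement of the generating locus. -/
theorem mem_support_zeroScheme {Y : Scheme.{u}} {P : Y.Modules} (hP : PicF.IsInvertible P)
    (σ : Coh.structureModule Y ⟶ P) (y : Y) :
    y ∈ ((PicF2.zeroScheme P σ).support : Set Y) ↔ y ∉ CohB1.genLocus P σ := by
  obtain ⟨W₀, hyW₀, e, he⟩ := InvX.exists_frame hP y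
  obtain ⟨_, ⟨W, hW, rfl⟩, hyW, hWW₀⟩ := Y.isBasis_affineOpens.exists_subset_of_mem_open hyW₀ W₀.2
  obtain ⟨a, ha⟩ := (he.res hWW₀).exists_coord le_rfl (AModX.res P (le_top : W ≤ ⊤) (InvX.one σ))
  rw [AModX.res_self] at ha
  have hsv : ZeroSchX.sv σ W = a • AModX.res P hWW₀ e :=
    (ZeroSchX.res_sv σ (le_top : W ≤ ⊤)).symm.trans ha
  rw [mem_support_iff_le _ hW ⟨y, hyW⟩, ZeroSchX.ideal_zeroScheme hP,
    ZeroSchX.zeroIdealOn_eq_span σ (he.res hWW₀) hsv, Ideal.span_singleton_le_iff_mem,
    AmpleX.mem_genLocus_iff σ (he.res hWW₀) ha hyW, germ_isUnit_iff hW ⟨y, hyW⟩, not_not]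

/-- A module numerically trivial on the zero scheme of a section of an ample module, the components of
the zero scheme having dimension at least two, is numerically trivial: one component. -/
theorem degree_zero_component {R : Scheme.{u}} [R.Over (Spec (CommRingCat.of k))]
    [IsProper (R ↘ Spec (CommRingCat.of k))] [IsIntegral R] {H L : R.Modules} (hH : CohB1.IsAmple H)
    (hL : PicF.IsInvertible L) (σ : Coh.structureModule R ⟶ H) (hσ : σ ≠ 0) {r : ℕ}
    (hdim : topologicalKrullDim R = ((r + 1 : ℕ) : WithBot ℕ∞))
    (hcomp : ∀ W ∈ irreducibleComponents ↥((PicF2.zeroScheme H σ).support : Set R), 2 ≤ topologicalKrullDim ↥W)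
    (hdeg : ∀ (Z : Scheme.{u}) (ι : Z ⟶ R) [IsClosedImmersion ι], IsIntegral Z → topologicalKrullDim Z = 1 →
      Set.range ι ⊆ ((PicF2.zeroScheme H σ).support : Set R) →
      iterD [L] (Curv2.euler k R) ((Coh.push ι).obj (Coh.structureModule Z)) = 0) :
    CurveZero k L := by
  haveI := CurveCohLib.isNoetherian_of_proper (k := k) (X := R)
  set D := PicF2.zeroScheme H σ
  have hD : BlowUp.IsEffCartierIdeal D := ThetaPow.isEffCartier_zeroScheme hH.1 σ hσ
  obtain ⟨e⟩ := ThetaPow.nonempty_idealMod_zeroScheme hH.1 σ hσ
  have hu : topologicalKrullDim ↥(closure ({genericPoint R} : Set R)) = ((r + 1 : ℕ) : WithBot ℕ∞) := by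
    rw [genericPoint_closure]
    exact ((Homeomorph.Set.univ R).isHomeomorph.topologicalKrullDim_eq).trans hdim
  have hDd : topologicalKrullDim ↥(D.support : Set R) ≤ ((r : ℕ) : WithBot ℕ∞) :=
    HilbPoly.le_of_lt_succ (HilbPoly.dim_lt_closure hu.le D.support.isClosed
      (by rw [genericPoint_closure]; exact Set.subset_univ _) (SurfInt.genericPoint_notMem_support hD))
  have hq := ParShLib.isCoh_quotMod D
  have hI := SurfInt.isCoh_idealMod D
  -- cutting by the section
  have key : ∀ l : List R.Modules, l.length = r → (∀ A ∈ l, PicF.IsInvertible A) →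
      iterD (H :: l) (Curv2.euler k R) (Coh.structureModule R) = iterD l (Curv2.euler k R) (ClSub.quotMod D) := by
    intro l hl hli
    have hA := additive_iterD (additive_euler k (X := R)) hli
    have hA' := additive_iterD (additive_euler k (X := R)) (List.forall_mem_cons.2 ⟨hH.1, hli⟩)
    have hadd := hA.add _ (SurfInt.idealSeq_shortExact D) hI QCoh.isCoh_structureModule' hq
    have hadd' := hA'.add _ (SurfInt.idealSeq_shortExact D) hI QCoh.isCoh_structureModule' hq
    dsimp only [SurfInt.idealSeq] at hadd hadd'
    have hz : iterD (H :: l) (Curv2.euler k R) (ClSub.quotMod D) = 0 :=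
      iterD_eq_zero (r + 1) (additive_euler k) _ (by simp [hl]) (List.forall_mem_cons.2 ⟨hH.1, hli⟩) _ hq
        (((VarBase.dim_support_quotMod_le D).trans hDd).trans_lt (by exact_mod_cast Nat.lt_succ_self _))
    rw [hz, add_zero] at hadd'
    rw [hadd']
    simp only [iterD]
    rw [show iterD l (Curv2.euler k R) ((AmpleVan.tw H).obj (ClSub.idealMod D)) = _ from
      IntNum47.isoInv_iterD (IntNum47.isoInv_euler k) l e]
    linarith
  -- the zero scheme is not empty, so the dimension is at least three
  have hne : (D.support : Set R).Nonempty := by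
    rw [Set.nonempty_iff_ne_empty]
    intro he
    have hpos := (HilbPoly.mult_nonneg_and_pos k hH (r + 1) _ (QCoh.isCoh_structureModule' (X := R))
      ((topologicalKrullDim_subspace_le R _).trans hdim.le)).2 (by
        rw [show CohB1.support (Coh.structureModule R) = Set.univ from Set.eq_univ_of_forall fun x hx => by
          obtain ⟨b⟩ := CurveTensor.exists_basis_stalk
            (InvEnd.isFinLocFreeOfRank_one (InvX.isInvertible_structureModule (X := R))) x
          exact b.ne_zero 0 (@Subsingleton.elim _ hx _ _)]
        exact ((Homeomorph.Set.univ R).isHomeomorph.topologicalKrullDim_eq).trans hdim)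
    have h0 : iterD (List.replicate r H) (Curv2.euler k R) (ClSub.quotMod D) = 0 := by
      refine (additive_iterD (additive_euler k) (forall_replicate hH.1 r)).zero_of_isZero
        (CurveCohLib.isZero_of_subsingleton_stalks fun x => not_not.1 fun hx => ?_)
      have h1 := VarBase.support_quotMod_subset D hx
      rw [he] at h1
      exact h1
    have h1 : HilbPoly.mult k H (r + 1) (Coh.structureModule R) =
        iterD (H :: List.replicate r H) (Curv2.euler k R) (Coh.structureModule R) := rfl
    rw [h1, key _ (List.length_replicate ..) (forall_replicate hH.1 r), h0] at hpos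
    exact lt_irrefl _ hpos
  obtain ⟨x, hx⟩ := hne
  have hW := hcomp _ (irreducibleComponent_mem_irreducibleComponents (⟨x, hx⟩ : ↥(D.support : Set R)))
  have h2 : (2 : WithBot ℕ∞) ≤ ((r : ℕ) : WithBot ℕ∞) :=
    hW.trans ((topologicalKrullDim_subspace_le _ _).trans hDd)
  have h2n : 2 ≤ r := by exact_mod_cast h2
  obtain ⟨s, rfl⟩ : ∃ s, r = s + 2 := ⟨r - 2, (Nat.sub_add_cancel h2n).symm⟩
  refine curveZero_integral (s + 1) k R (by rw [hdim]) hH hL ?_
  -- degrees zero on the zero scheme
  let i := D.subschemeι
  letI : D.subscheme.Over (Spec (CommRingCat.of k)) := ⟨i ≫ (R ↘ Spec (CommRingCat.of k))⟩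
  haveI : IsProper (D.subscheme ↘ Spec (CommRingCat.of k)) := inferInstanceAs (IsProper (i ≫ _))
  haveI := CurveCohLib.isNoetherian_of_proper (k := k) (X := D.subscheme)
  have hLi := PicClLib.isInvertible_pullback i hL
  have hd0 : IntNum47.DegZero k ((Scheme.Modules.pullback i).obj L) := by
    intro Z c hc hZ hZ1
    haveI := hc
    haveI := hZ
    have hcc : Coh.IsCoh ((Scheme.Modules.pushforward c).obj (Coh.structureModule Z)) :=
      QCoh.isCoh_push_structure c
    have h := hdeg Z (c ≫ i) hZ hZ1 (by
      rintro _ ⟨z, rfl⟩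
      rw [← Scheme.IdealSheafData.range_subschemeι]
      exact ⟨c z, rfl⟩)
    refine Eq.trans ?_ h
    rw [show (Coh.push c).obj (Coh.structureModule Z) = (Scheme.Modules.pushforward c).obj (Coh.structureModule Z) from rfl,
      show [(Scheme.Modules.pullback i).obj L] = [L].map (Scheme.Modules.pullback i).obj from rfl,
      ← IntNum47.iterD_push k i rfl [L] (by simp [hL]) _ hcc]
    exact IntNum47.isoInv_iterD (IntNum47.isoInv_euler k) [L]
      ((Scheme.Modules.pushforwardComp c i).app (Coh.structureModule Z))
  have hzero : ∀ l : List R.Modules, l.length = s + 1 → (∀ A ∈ l, PicF.IsInvertible A) →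
      iterD (L :: l) (Curv2.euler k R) (ClSub.quotMod D) = 0 := by
    intro l hl hli
    refine (IntNum47.iterD_push k i rfl (L :: l) (List.forall_mem_cons.2 ⟨hL, hli⟩) _
      QCoh.isCoh_structureModule').trans ?_
    refine IntNum47.iterD_eq_zero_of_degZero k hLi hd0 (l.map (Scheme.Modules.pullback i).obj) ?_ _
      QCoh.isCoh_structureModule' ?_
    · intro A hA
      obtain ⟨B, hB, rfl⟩ := List.mem_map.1 hA
      exact PicClLib.isInvertible_pullback i (hli B hB)
    · refine (topologicalKrullDim_subspace_le D.subscheme _).trans_lt ?_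
      rw [IsHomeomorph.topologicalKrullDim_eq _ i.isClosedEmbedding.isEmbedding.toHomeomorph.isHomeomorph,
        Scheme.IdealSheafData.range_subschemeι, List.length_map, hl]
      exact hDd.trans_lt (by exact_mod_cast Nat.lt_succ_self _)
  have hperm : ∀ l l' : List R.Modules, l.Perm l' →
      iterD l (Curv2.euler k R) (Coh.structureModule R) = iterD l' (Curv2.euler k R) (Coh.structureModule R) :=
    fun l l' hp => IntNum47.iterD_perm (IntNum47.isoInv_euler k) hp _
  refine ⟨?_, le_of_eq (Eq.symm ?_)⟩
  · rw [show L :: List.replicate (s + 1 + 1) H = L :: H :: List.replicate (s + 1) H from rfl,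
      hperm _ _ (List.Perm.swap H L _), key _ (by simp) (List.forall_mem_cons.2 ⟨hL, forall_replicate hH.1 _⟩)]
    exact hzero _ (List.length_replicate ..) (forall_replicate hH.1 _)
  · rw [show L :: L :: List.replicate (s + 1) H = L :: L :: H :: List.replicate s H from rfl,
      hperm _ _ (((List.Perm.swap H L _).cons L).trans (List.Perm.swap H L _)),
      key _ (by simp) (List.forall_mem_cons.2 ⟨hL, List.forall_mem_cons.2 ⟨hL, forall_replicate hH.1 _⟩⟩)]
    exact hzero _ (by simp) (List.forall_mem_cons.2 ⟨hL, forall_replicate hH.1 _⟩)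

end Groth.Agent.Pic13Lib
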