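import Groth.Agent.Pic13Lib.AssCut
import Groth.Agent.TwistX.Global
import Groth.Agent.PnCoh.TwistH0
import Groth.Agent.PnCoh.Chow.Proper
import Mathlib.RingTheory.MvPolynomial.Homogeneous
import Mathlib.Algebra.Module.Submodule.Union

/-!
# Pencils of linear forms avoiding finitely many non-closed points of projective space
-/

set_option autoImplicit false
set_option linter.style.haveILetI false
set_option linter.unusedSectionVars false
set_option backward.isDefEq.respectTransparency false
set_option backward.isDefEq.respectTransparency.types false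
set_option maxHeartbeats 1000000
set_option synthInstance.maxHeartbeats 200000

universe u

open CategoryTheory CategoryTheory.Limits AlgebraicGeometry TopologicalSpace Opposite

attribute [local instance] HasDerivedCategory.standard MvPolynomial.gradedAlgebra

noncomputable section

namespace Groth.Agent.Pic13Lib

open Groth.Agent
open Groth.Agent.H23.PicMul

variable {k : Type u} [Field k] {N : ℕ}

/-- Linear forms vanishing at a point. -/
def vanForms (x : ↥(Proj (CohB1.polyGrading N k))) : Submodule k (CohB1.polyGrading N k 1) :=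
  (x.asHomogeneousIdeal.toIdeal.restrictScalars k).comap (Submodule.subtype _)

theorem mem_vanForms {x : ↥(Proj (CohB1.polyGrading N k))} {l : CohB1.polyGrading N k 1} :
    l ∈ vanForms x ↔ (l : MvPolynomial (Fin (N + 1)) k) ∈ x.asHomogeneousIdeal := Iff.rfl

theorem eval_mul_pow {A : Type u} [CommRing A] [Algebra k A] (c : Fin (N + 1) → k) (b : A)
    {f : MvPolynomial (Fin (N + 1)) k} {d : ℕ} (hf : f.IsHomogeneous d) :
    MvPolynomial.aeval (fun i => algebraMap k A (c i) * b) f = algebraMap k A (MvPolynomial.eval c f) * b ^ d := by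
  conv_lhs => rw [f.as_sum]
  conv_rhs => rw [f.as_sum]
  rw [map_sum, map_sum, map_sum, Finset.sum_mul]
  refine Finset.sum_congr rfl fun e he => ?_
  have hd : ∑ i ∈ e.support, e i = d := by
    have := hf (MvPolynomial.mem_support_iff.1 he)
    rw [← this, Finsupp.weight_apply]
    exact Finset.sum_congr rfl fun i _ => by simp
  rw [MvPolynomial.aeval_monomial, MvPolynomial.eval_monomial, map_mul, Finsupp.prod, Finsupp.prod, map_prod,
    ← hd, ← Finset.prod_pow_eq_pow_sum, mul_assoc, ← Finset.prod_mul_distrib]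
  refine congrArg _ (Finset.prod_congr rfl fun i _ => ?_)
  rw [mul_pow, map_pow]

theorem decompose_coe (f : MvPolynomial (Fin (N + 1)) k) (d : ℕ) :
    (DirectSum.decompose (CohB1.polyGrading N k) f d : MvPolynomial (Fin (N + 1)) k) =
      MvPolynomial.homogeneousComponent d f :=
  MvPolynomial.decomposition.decompose'_apply f d

/-- A homogeneous ideal containing all variables contains the irrelevant ideal. -/
theorem irrelevant_le_of_X (y : ↥(Proj (CohB1.polyGrading N k)))
    (hX : ∀ i, (MvPolynomial.X i : MvPolynomial (Fin (N + 1)) k) ∈ y.asHomogeneousIdeal) : False := by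
  refine y.not_irrelevant_le fun f hf => ?_
  have h0 : GradedRing.proj (CohB1.polyGrading N k) 0 f = 0 := hf
  rw [GradedRing.proj_apply, decompose_coe, MvPolynomial.homogeneousComponent_zero] at h0
  have hf0 : MvPolynomial.coeff 0 f = 0 := by simpa using! h0
  rw [f.as_sum]
  refine Ideal.sum_mem _ fun e he => ?_
  obtain ⟨i, hi⟩ : ∃ i, e i ≠ 0 := by
    by_contra hne
    push Not at hne
    exact MvPolynomial.mem_support_iff.1 he ((show e = 0 from Finsupp.ext hne) ▸ hf0)
  obtain ⟨g, hg⟩ := MvPolynomial.X_dvd_monomial.2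
    (Or.inr hi : MvPolynomial.coeff e f = 0 ∨ e i ≠ 0)
  rw [hg]
  exact Ideal.mul_mem_right _ _ (hX i)

/-- A non-closed point: the forms vanishing there together with one further form do not fill out
everything. -/
theorem vanForms_sup_ne_top {x : ↥(Proj (CohB1.polyGrading N k))} (hx : ¬ IsClosed ({x} : Set _))
    {b : CohB1.polyGrading N k 1} (_hb : b ∉ vanForms x) : vanForms x ⊔ Submodule.span k {b} ≠ ⊤ := by
  intro htop
  have hc : ∀ i : Fin (N + 1), ∃ c : k,
      (MvPolynomial.X i : MvPolynomial (Fin (N + 1)) k) - c • (b : MvPolynomial (Fin (N + 1)) k) ∈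
        x.asHomogeneousIdeal := fun i => by
    have hi : (⟨MvPolynomial.X i, MvPolynomial.isHomogeneous_X k i⟩ : CohB1.polyGrading N k 1) ∈
        vanForms x ⊔ Submodule.span k {b} := by rw [htop]; trivial
    obtain ⟨p, hp, q, hq, hpq⟩ := Submodule.mem_sup.1 hi
    obtain ⟨c, rfl⟩ := Submodule.mem_span_singleton.1 hq
    refine ⟨c, ?_⟩
    have h := congrArg Subtype.val hpq
    simp only [Submodule.coe_add, Submodule.coe_smul] at h
    rw [← h, add_sub_cancel_right]
    exact mem_vanForms.1 hp
  choose c hc using hc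
  have hform : ∀ {f : MvPolynomial (Fin (N + 1)) k} {d : ℕ}, f.IsHomogeneous d →
      f - MvPolynomial.C (MvPolynomial.eval c f) * (b : MvPolynomial (Fin (N + 1)) k) ^ d ∈ x.asHomogeneousIdeal := by
    intro f d hf
    let mk := Ideal.Quotient.mkₐ k x.asHomogeneousIdeal.toIdeal
    have hmk : (fun i => mk (MvPolynomial.X i)) =
        fun i => algebraMap k (MvPolynomial (Fin (N + 1)) k ⧸ x.asHomogeneousIdeal.toIdeal) (c i) * mk b.1 := by
      funext i
      rw [← AlgHom.commutes mk, ← map_mul]
      refine (Ideal.Quotient.mk_eq_mk_iff_sub_mem _ _).2 ?_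
      rw [← Algebra.smul_def]
      exact hc i
    refine (Ideal.Quotient.mk_eq_mk_iff_sub_mem _ _).1 (show mk f = mk _ from ?_)
    rw [show mk f = MvPolynomial.aeval (fun i => mk (MvPolynomial.X i)) f from
      DFunLike.congr_fun (MvPolynomial.aeval_unique mk) f, hmk, eval_mul_pow c _ hf, map_mul, map_pow]
    exact congrArg (· * _) (AlgHom.commutes mk _).symm
  refine hx (closure_subset_iff_isClosed.1 fun y hy => ?_)
  have hle : x.asHomogeneousIdeal.toIdeal ≤ y.asHomogeneousIdeal.toIdeal :=
    (ProjectiveSpectrum.le_iff_mem_closure (CohB1.polyGrading N k) x y).2 hy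
  have hby : (b : MvPolynomial (Fin (N + 1)) k) ∉ y.asHomogeneousIdeal := fun h => by
    refine irrelevant_le_of_X y fun i => ?_
    have h2 : c i • (b : MvPolynomial (Fin (N + 1)) k) ∈ y.asHomogeneousIdeal.toIdeal := by
      rw [Algebra.smul_def]; exact Ideal.mul_mem_left _ _ h
    simpa using! Ideal.add_mem _ (hle (hc i)) h2
  refine ProjectiveSpectrum.ext (HomogeneousIdeal.toIdeal_injective (le_antisymm (fun f hf => ?_) hle))
  classical
  rw [← f.sum_homogeneousComponent]
  refine Ideal.sum_mem _ fun d _ => ?_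
  have hd : MvPolynomial.homogeneousComponent d f ∈ y.asHomogeneousIdeal := by
    have h := y.asHomogeneousIdeal.isHomogeneous d hf
    rwa [decompose_coe] at h
  have hh := MvPolynomial.homogeneousComponent_isHomogeneous d f
  have h0 : MvPolynomial.eval c (MvPolynomial.homogeneousComponent d f) = 0 := by
    by_contra hne
    have h2 : MvPolynomial.C (MvPolynomial.eval c (MvPolynomial.homogeneousComponent d f)) *
        (b : MvPolynomial (Fin (N + 1)) k) ^ d ∈ y.asHomogeneousIdeal.toIdeal := by
      simpa using Ideal.sub_mem _ hd (hle (hform hh))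
    rcases y.isPrime.mem_or_mem h2 with h3 | h3
    · exact y.isPrime.ne_top (Ideal.eq_top_of_isUnit_mem _ h3 ((isUnit_iff_ne_zero.2 hne).map MvPolynomial.C))
    · exact hby (y.isPrime.mem_of_pow_mem _ h3)
  have h := hform hh
  rw [h0, map_zero, zero_mul, sub_zero] at h
  exact h

variable [IsAlgClosed k]

/-- A pencil avoiding a finite set of non-closed points. -/
theorem exists_pencil {S : Set ↥(Proj (CohB1.polyGrading N k))} (hS : S.Finite)
    (hcl : ∀ x ∈ S, ¬ IsClosed ({x} : Set ↥(Proj (CohB1.polyGrading N k)))) :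
    ∃ a b : CohB1.polyGrading N k 1, ∀ x ∈ S, b ∉ vanForms x ∧ ∀ c : k, a + c • b ∉ vanForms x := by
  haveI : Finite S := hS.to_subtype
  obtain ⟨b, hb⟩ := Submodule.exists_forall_notMem_of_forall_ne_top (fun x : S => vanForms x.1) fun x htop =>
    irrelevant_le_of_X x.1 fun i => mem_vanForms.1
      (show (⟨MvPolynomial.X i, MvPolynomial.isHomogeneous_X k i⟩ : CohB1.polyGrading N k 1) ∈ vanForms x.1 by
        rw [htop]; trivial)
  obtain ⟨a, ha⟩ := Submodule.exists_forall_notMem_of_forall_ne_top
    (fun x : S => vanForms x.1 ⊔ Submodule.span k {b}) fun x => vanForms_sup_ne_top (hcl x.1 x.2) (hb x)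
  refine ⟨a, b, fun x hx => ⟨hb ⟨x, hx⟩, fun c hc => ha ⟨x, hx⟩ ?_⟩⟩
  rw [show a = (a + c • b) - c • b by abel]
  exact Submodule.sub_mem _ (Submodule.mem_sup_left hc)
    (Submodule.mem_sup_right (Submodule.smul_mem _ _ (Submodule.subset_span rfl)))

/-- Twisting down strictly drops the sections of a sheaf without closed associated points. -/
theorem finrank_twist_add_one_le {F : (CohB1.ProjSpace N k).Modules} (hF : Coh.IsCoh F)
    (hass : ∀ x : ↥(CohB1.ProjSpace N k), Curv2.IsAssPoint F x → ¬ IsClosed ({x} : Set ↥(CohB1.ProjSpace N k)))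
    (d : ℤ) (h0 : 1 ≤ Module.finrank k (Coh.HH (CohB1.ProjSpace N k)
      (CohB1.tensorMod F (Twist.twistProjSpace N k d)) 0)) :
    Module.finrank k (Coh.HH (CohB1.ProjSpace N k) (CohB1.tensorMod F (Twist.twistProjSpace N k (d - 1))) 0) + 1 ≤
      Module.finrank k (Coh.HH (CohB1.ProjSpace N k) (CohB1.tensorMod F (Twist.twistProjSpace N k d)) 0) := by
  haveI : IsProper (CohB1.ProjSpace.toSpec N k) := PnCoh.Chow.isProper_toSpec N k
  haveI : IsProper (CohB1.ProjSpace N k ↘ Spec (CommRingCat.of k)) := ‹_›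
  haveI hP : IsNoetherian (Proj (CohB1.polyGrading N k)) := Proj16.isNoetherian_proj _
  haveI : IsLocallyNoetherian (CohB1.ProjSpace N k) := hP.toIsLocallyNoetherian
  haveI : AlgebraicGeometry.IsNoetherian (CohB1.ProjSpace N k) := hP
  have hfin : {x : ↥(Proj (CohB1.polyGrading N k)) | x ∈ (⊤ : (Proj (CohB1.polyGrading N k)).Opens) ∧
      Curv2.IsAssPoint F x}.Finite := AssPtX.finite_assPoints hF (NoetherianSpace.isCompact _)
  obtain ⟨a, b, hab⟩ := exists_pencil hfin fun x hx => hass x hx.2
  have hinv : ∀ e : ℤ, PicF.IsInvertible (Twist.twistProjSpace N k e) := fun e =>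
    PnCoh.Finite.isInvertible_twist (ProjRegular.coords k N) ProjRegular.coords_mem ProjRegular.coords_cover e
  obtain ⟨ε₀⟩ := PnCoh.Finite.twist_tensor_iso (ProjRegular.coords k N) ProjRegular.coords_mem
    ProjRegular.coords_cover 1 (d - 1)
  have ε : CohB1.tensorMod (Twist.twistProjSpace N k 1) (Twist.twistProjSpace N k (d - 1)) ≅
      Twist.twistProjSpace N k d := ε₀ ≪≫ eqToIso (congrArg (Twist.twistProjSpace N k) (by ring))
  let sec : CohB1.polyGrading N k 1 → Γ(Twist.twistProjSpace N k 1, ⊤) := fun l =>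
    Twist.globalOf (CohB1.polyGrading N k) l
  have hframe : ∀ l : CohB1.polyGrading N k 1, ∀ x : ↥(CohB1.ProjSpace N k), l ∉ vanForms x →
      ∃ V : (CohB1.ProjSpace N k).Opens, x ∈ V ∧
        InvX.IsFrame (AModX.res (Twist.twistProjSpace N k 1) (le_top : V ≤ ⊤) (sec l)) := fun l x hl =>
    ⟨Proj.basicOpen (CohB1.polyGrading N k) l.1, hl, TwistX.isFrame_res_globalOf l.2 fun y => y.2⟩
  have hlin : ∀ c : k, sec (a + c • b) = sec a +
      (show Γ(CohB1.ProjSpace N k, ⊤) from
        Coh.toGlobal (CohB1.ProjSpace N k ↘ Spec (CommRingCat.of k)) c) • sec b := fun c => by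
    refine ((PnCoh.globalOf_add (ι := Fin (N + 1)) (R := k) (d := 1) a (c • b)).trans
      (congrArg _ (PnCoh.globalOf_smul (ι := Fin (N + 1)) (R := k) (d := 1) c b))).trans ?_
    refine congrArg (sec a + ·) ?_
    show AModX.resR (le_top : (⊤ : (CohB1.ProjSpace N k).Opens) ≤ ⊤) _ • sec b = _
    rw [AModX.resR_self]
    rfl
  refine finrank_add_one_le_of_pencil k hF (hinv 1) (hinv (d - 1)) ε (sec a) (sec b)
    (fun x hx => hframe b x (hab x ⟨trivial, hx⟩).1) (fun c x hx => ?_) h0
  obtain ⟨V, hV, hf⟩ := hframe _ x ((hab x ⟨trivial, hx⟩).2 c)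
  exact ⟨V, hV, hlin c ▸ hf⟩

end Groth.Agent.Pic13Lib

namespace Groth.Agent.Pic13Lib

open Groth.Agent
open Groth.Agent.H23.PicMul

variable {k : Type u} [Field k] {N : ℕ}

/-- Twisting down does not increase the sections of a sheaf without closed associated points. -/
theorem finrank_twist_le [IsAlgClosed k] {F : (CohB1.ProjSpace N k).Modules} (hF : Coh.IsCoh F)
    (hass : ∀ x : ↥(CohB1.ProjSpace N k), Curv2.IsAssPoint F x → ¬ IsClosed ({x} : Set ↥(CohB1.ProjSpace N k)))
    (d : ℤ) :
    Module.finrank k (Coh.HH (CohB1.ProjSpace N k) (CohB1.tensorMod F (Twist.twistProjSpace N k (d - 1))) 0) ≤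
      Module.finrank k (Coh.HH (CohB1.ProjSpace N k) (CohB1.tensorMod F (Twist.twistProjSpace N k d)) 0) := by
  haveI : IsProper (CohB1.ProjSpace.toSpec N k) := PnCoh.Chow.isProper_toSpec N k
  haveI : IsProper (CohB1.ProjSpace N k ↘ Spec (CommRingCat.of k)) := ‹_›
  haveI hP : IsNoetherian (Proj (CohB1.polyGrading N k)) := Proj16.isNoetherian_proj _
  haveI : IsLocallyNoetherian (CohB1.ProjSpace N k) := hP.toIsLocallyNoetherian
  haveI : AlgebraicGeometry.IsNoetherian (CohB1.ProjSpace N k) := hP
  have hfin : {x : ↥(Proj (CohB1.polyGrading N k)) | x ∈ (⊤ : (Proj (CohB1.polyGrading N k)).Opens) ∧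
      Curv2.IsAssPoint F x}.Finite := AssPtX.finite_assPoints hF (NoetherianSpace.isCompact _)
  obtain ⟨a, b, hab⟩ := exists_pencil hfin fun x hx => hass x hx.2
  have hinv : ∀ e : ℤ, PicF.IsInvertible (Twist.twistProjSpace N k e) := fun e =>
    PnCoh.Finite.isInvertible_twist (ProjRegular.coords k N) ProjRegular.coords_mem ProjRegular.coords_cover e
  obtain ⟨ε₀⟩ := PnCoh.Finite.twist_tensor_iso (ProjRegular.coords k N) ProjRegular.coords_mem
    ProjRegular.coords_cover 1 (d - 1)
  have ε : CohB1.tensorMod (Twist.twistProjSpace N k 1) (Twist.twistProjSpace N k (d - 1)) ≅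
      Twist.twistProjSpace N k d := ε₀ ≪≫ eqToIso (congrArg (Twist.twistProjSpace N k) (by ring))
  exact finrank_le_of_section k hF (hinv (d - 1)) (hinv d) ε (Twist.globalOf (CohB1.polyGrading N k) b)
    fun x hx => ⟨Proj.basicOpen (CohB1.polyGrading N k) b.1, (hab x ⟨trivial, hx⟩).1,
      TwistX.isFrame_res_globalOf b.2 fun y => y.2⟩

/-- Tensoring with `O(0)` does nothing. -/
theorem finrank_twist_zero (F : (CohB1.ProjSpace N k).Modules) :
    Module.finrank k (Coh.HH (CohB1.ProjSpace N k) (CohB1.tensorMod F (Twist.twistProjSpace N k 0)) 0) =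
      Module.finrank k (Coh.HH (CohB1.ProjSpace N k) F 0) := by
  obtain ⟨e⟩ := RegEpi.unitIso (k := k) (n := N)
  obtain ⟨e'⟩ : Nonempty (CohB1.tensorMod F (Twist.twistProjSpace N k 0) ≅ F) := cl_eq_iff.1 (by
    rw [cl_tensor, show PicF.cl (Twist.twistProjSpace N k 0) = 1 from cl_eq_iff.2 ⟨e.symm⟩, mul_one])
  exact HilbPoly.finrank_HH_iso k e' 0

end Groth.Agent.Pic13Lib
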