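import Mathlib.FieldTheory.RatFunc.AsPolynomial
import Mathlib.RingTheory.Localization.FractionRing
import Mathlib.RingTheory.Localization.Away.Basic
import Mathlib.RingTheory.Polynomial.Basic
import Mathlib.RingTheory.Ideal.Quotient.Operations

/-!
# A domain tensored with the rational function field: the generic member of a pencil
-/

set_option autoImplicit false

set_option maxHeartbeats 200000

universe u

open Polynomial

namespace Groth.Agent.Pic13Lib

/-- `S` is the pushout of `K → R` and `K → K(u)`, stated elementwise. -/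
structure IsRatExt {K R S : Type u} [Field K] [CommRing R] [CommRing S] (ι : K →+* R) (ψ : R →+* S)
    (κ : RatFunc K →+* S) : Prop where
  comm : ψ.comp ι = κ.comp (algebraMap K (RatFunc K))
  gen : ∀ T : Subring S, (∀ r, ψ r ∈ T) → (∀ v, κ v ∈ T) → T = ⊤
  lift : ∀ (T : Type u) [CommRing T] (α : R →+* T) (β : RatFunc K →+* T),
    α.comp ι = β.comp (algebraMap K (RatFunc K)) → ∃ δ : S →+* T, δ.comp ψ = α ∧ δ.comp κ = β

namespace IsRatExt

variable {K R S : Type u} [Field K] [CommRing R] [CommRing S] {ι : K →+* R} {ψ : R →+* S}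
  {κ : RatFunc K →+* S} (h : IsRatExt ι ψ κ)

include h

theorem eval₂_mapι (q : K[X]) : (q.map ι).eval₂ ψ (κ RatFunc.X) = κ (algebraMap K[X] (RatFunc K) q) := by
  rw [Polynomial.eval₂_map, h.comm]
  refine Eq.trans (hom_eval₂ q (algebraMap K (RatFunc K)) κ RatFunc.X).symm (congrArg κ ?_)
  rw [← aeval_def, ← RatFunc.algebraMap_X]
  exact (aeval_algebraMap_apply _ _ _).trans (congrArg _ (aeval_X_left_apply q))

/-- Every element is a polynomial divided by a nonzero constant polynomial. -/
theorem exists_frac (s : S) : ∃ (q : K[X]) (z : R[X]), q ≠ 0 ∧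
    κ (algebraMap K[X] (RatFunc K) q) * s = z.eval₂ ψ (κ RatFunc.X) := by
  let T : Subring S :=
    { carrier := {s | ∃ (q : K[X]) (z : R[X]), q ≠ 0 ∧
        κ (algebraMap K[X] (RatFunc K) q) * s = z.eval₂ ψ (κ RatFunc.X)}
      one_mem' := ⟨1, 1, one_ne_zero, by simp⟩
      zero_mem' := ⟨1, 0, one_ne_zero, by simp⟩
      mul_mem' := by
        rintro a b ⟨q, z, hq, hz⟩ ⟨q', z', hq', hz'⟩
        refine ⟨q * q', z * z', mul_ne_zero hq hq', ?_⟩
        rw [map_mul, map_mul, eval₂_mul, ← hz, ← hz']; ring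
      add_mem' := by
        rintro a b ⟨q, z, hq, hz⟩ ⟨q', z', hq', hz'⟩
        refine ⟨q * q', q'.map ι * z + q.map ι * z', mul_ne_zero hq hq', ?_⟩
        rw [map_mul, map_mul, eval₂_add, eval₂_mul, eval₂_mul, h.eval₂_mapι, h.eval₂_mapι, ← hz, ← hz']; ring
      neg_mem' := by
        rintro a ⟨q, z, hq, hz⟩
        exact ⟨q, -z, hq, by rw [eval₂_neg, ← hz]; ring⟩ }
  have hT : T = ⊤ := h.gen T (fun r => ⟨1, C r, one_ne_zero, by simp⟩) fun v => by
    refine ⟨v.denom, v.num.map ι, v.denom_ne_zero, ?_⟩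
    rw [h.eval₂_mapι, ← map_mul]
    congr 1
    have hd : algebraMap K[X] (RatFunc K) v.denom ≠ 0 := RatFunc.algebraMap_ne_zero v.denom_ne_zero
    have := RatFunc.num_div_denom v
    field_simp at this ⊢
    linear_combination (norm := ring_nf) -this
  exact (hT.ge (Subring.mem_top s) :)

/-- The value of a hom out of `S`. -/
theorem hom_frac {T : Type*} [CommRing T] (δ : S →+* T) {q : K[X]} {z : R[X]} {s : S}
    (hz : κ (algebraMap K[X] (RatFunc K) q) * s = z.eval₂ ψ (κ RatFunc.X)) :
    δ (κ (algebraMap K[X] (RatFunc K) q)) * δ s = z.eval₂ (δ.comp ψ) (δ (κ RatFunc.X)) := by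
  rw [← map_mul, hz, hom_eval₂]

/-- The tensor product of a domain with `K(u)` is a domain. -/
theorem isDomain [IsDomain R] : IsDomain S := by
  have hι : Function.Injective ι := ι.injective
  let T := FractionRing R[X]
  let e : K[X] →+* T := (algebraMap R[X] T).comp (mapRingHom ι)
  have he : Function.Injective e := (IsFractionRing.injective R[X] T).comp (map_injective ι hι)
  let β : RatFunc K →+* T := IsFractionRing.lift he
  obtain ⟨δ, hδψ, hδκ⟩ := h.lift T ((algebraMap R[X] T).comp C) β (by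
    refine RingHom.ext fun c => ?_
    simp only [RingHom.comp_apply]
    rw [IsScalarTower.algebraMap_apply K K[X] (RatFunc K)]
    exact ((IsFractionRing.lift_algebraMap he (algebraMap K K[X] c)).trans (by simp [e])).symm)
  have hX : δ (κ RatFunc.X) = algebraMap R[X] T X := by
    rw [← RingHom.comp_apply, hδκ, ← RatFunc.algebraMap_X]
    exact (IsFractionRing.lift_algebraMap he X).trans (by simp [e])
  have hinj : Function.Injective δ := (injective_iff_map_eq_zero δ).2 fun s hs => by
    obtain ⟨q, z, hq, hz⟩ := h.exists_frac s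
    have h1 := h.hom_frac δ hz
    rw [hs, mul_zero, hδψ, hX, ← hom_eval₂, eval₂_C_X] at h1
    have hz0 : z = 0 := (map_eq_zero_iff _ (IsFractionRing.injective R[X] T)).1 h1.symm
    rw [hz0, eval₂_zero] at hz
    exact ((RingHom.isUnit_map κ (isUnit_iff_ne_zero.2 (RatFunc.algebraMap_ne_zero hq))).mul_right_eq_zero).1 hz
  haveI : Nontrivial S := ⟨⟨0, 1, fun h01 => zero_ne_one (α := T) (by
    rw [← map_zero δ, ← map_one δ, h01])⟩⟩
  exact hinj.isDomain δ

variable [IsDomain R]

/-- The ring maps into the extension. -/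
theorem injective : Function.Injective ψ := by
  let T := FractionRing R[X]
  let e : K[X] →+* T := (algebraMap R[X] T).comp (mapRingHom ι)
  have he : Function.Injective e := (IsFractionRing.injective R[X] T).comp (map_injective ι ι.injective)
  obtain ⟨δ, hδψ, -⟩ := h.lift T ((algebraMap R[X] T).comp C) (IsFractionRing.lift he) (by
    refine RingHom.ext fun c => ?_
    simp only [RingHom.comp_apply]
    rw [IsScalarTower.algebraMap_apply K K[X] (RatFunc K)]
    exact ((IsFractionRing.lift_algebraMap he (algebraMap K K[X] c)).trans (by simp [e])).symm)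
  exact Function.Injective.of_comp (f := δ) fun a b hab =>
    C_injective (IsFractionRing.injective R[X] T ((congr($hδψ a)).symm.trans (hab.trans congr($hδψ b))))


/-- The equation of the member is nonzero. -/
theorem member_ne_zero (a₀ a₁ : R) (ha₀ : a₀ ≠ 0) : ψ a₁ - κ RatFunc.X * ψ a₀ ≠ 0 := by
  let T := FractionRing R[X]
  let e : K[X] →+* T := (algebraMap R[X] T).comp (mapRingHom ι)
  have he : Function.Injective e := (IsFractionRing.injective R[X] T).comp (map_injective ι ι.injective)
  obtain ⟨δ, hδψ, hδκ⟩ := h.lift T ((algebraMap R[X] T).comp C) (IsFractionRing.lift he) (by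
    refine RingHom.ext fun c => ?_
    simp only [RingHom.comp_apply]
    rw [IsScalarTower.algebraMap_apply K K[X] (RatFunc K)]
    exact ((IsFractionRing.lift_algebraMap he (algebraMap K K[X] c)).trans (by simp [e])).symm)
  have hX : δ (κ RatFunc.X) = algebraMap R[X] T X := by
    rw [← RingHom.comp_apply, hδκ, ← RatFunc.algebraMap_X]
    exact (IsFractionRing.lift_algebraMap he X).trans (by simp [e])
  intro h0
  have h1 := congrArg δ h0
  rw [map_sub, map_mul, map_zero, hX, ← RingHom.comp_apply, ← RingHom.comp_apply, hδψ, RingHom.comp_apply,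
    RingHom.comp_apply, ← map_mul, ← map_sub, map_eq_zero_iff _ (IsFractionRing.injective R[X] T)] at h1
  exact ha₀ (by simpa using congrArg (fun q : R[X] => q.coeff 1) h1)

/-- A prime through a point of the member lies over one which lies over the generic point. -/
theorem exists_prime_le (a₀ a₁ : R) (ha₀ : a₀ ≠ 0) (P : Ideal S) [P.IsPrime]
    (hP : ψ a₁ - κ RatFunc.X * ψ a₀ ∈ P) (hB : ψ a₀ ∉ P ∨ ψ a₁ ∉ P) :
    ∃ Q : Ideal S, Q.IsPrime ∧ Q ≤ P ∧ ψ a₁ - κ RatFunc.X * ψ a₀ ∈ Q ∧ Q.comap ψ = ⊥ := by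
  let L := FractionRing (S ⧸ P)
  let ρ : S →+* L := (algebraMap (S ⧸ P) L).comp (Ideal.Quotient.mk P)
  have hρ : ∀ s, ρ s = 0 ↔ s ∈ P := fun s => by
    rw [RingHom.comp_apply, map_eq_zero_iff _ (IsFractionRing.injective _ L), Ideal.Quotient.eq_zero_iff_mem]
  have hrel : ρ (ψ a₁) = ρ (κ RatFunc.X) * ρ (ψ a₀) := by
    have := (hρ _).2 hP
    rwa [map_sub, map_mul, sub_eq_zero] at this
  have ha : IsUnit ((ρ.comp ψ) a₀) := isUnit_iff_ne_zero.2 fun h0 => by
    rcases hB with hb | hb
    · exact hb ((hρ _).1 h0)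
    · refine hb ((hρ _).1 (hrel.trans ?_))
      rw [show ρ (ψ a₀) = 0 from h0, mul_zero]
  let A := Localization.Away a₀
  let θ : A →+* L := IsLocalization.Away.lift a₀ ha
  have hθ : θ.comp (algebraMap R A) = ρ.comp ψ := IsLocalization.Away.lift_comp a₀ ha
  let f : A := algebraMap R A a₁ * IsLocalization.Away.invSelf a₀
  have hfa : f * algebraMap R A a₀ = algebraMap R A a₁ := by
    rw [mul_assoc, mul_comm (IsLocalization.Away.invSelf a₀), IsLocalization.Away.mul_invSelf, mul_one]
  have hθf : θ f = ρ (κ RatFunc.X) := by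
    have h1 := congrArg θ hfa
    rw [map_mul, ← RingHom.comp_apply, ← RingHom.comp_apply, hθ, RingHom.comp_apply ρ ψ a₁, hrel] at h1
    exact ha.mul_right_cancel h1
  haveI : IsDomain A := IsLocalization.isDomain_localization
    (powers_le_nonZeroDivisors_of_noZeroDivisors ha₀)
  let T := FractionRing A
  let α : R →+* T := (algebraMap A T).comp (algebraMap R A)
  let e : K[X] →+* T := eval₂RingHom (α.comp ι) (algebraMap A T f)
  have key : ∀ z : R[X], z.eval₂ α (algebraMap A T f) = 0 → z.eval₂ ψ (κ RatFunc.X) ∈ P := fun z hz => by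
    rw [← hom_eval₂, map_eq_zero_iff _ (IsFractionRing.injective A T)] at hz
    have h1 := congrArg θ hz
    rw [hom_eval₂, map_zero, hθ, hθf, ← hom_eval₂] at h1
    exact (hρ _).1 h1
  have hunit : ∀ q : K[X], q ≠ 0 → κ (algebraMap K[X] (RatFunc K) q) ∉ P := fun q hq hmem =>
    Ideal.IsPrime.ne_top ‹_› (Ideal.eq_top_of_isUnit_mem P hmem
      (RingHom.isUnit_map κ (isUnit_iff_ne_zero.2 (RatFunc.algebraMap_ne_zero hq))))
  have he : Function.Injective e := (injective_iff_map_eq_zero e).2 fun q hq => by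
    by_contra hq0
    refine hunit q hq0 ?_
    rw [← h.eval₂_mapι]
    refine key _ ?_
    rw [Polynomial.eval₂_map]
    exact hq
  let β : RatFunc K →+* T := IsFractionRing.lift he
  obtain ⟨δ, hδψ, hδκ⟩ := h.lift T α β (by
    refine RingHom.ext fun c => ?_
    simp only [RingHom.comp_apply]
    rw [IsScalarTower.algebraMap_apply K K[X] (RatFunc K)]
    exact ((IsFractionRing.lift_algebraMap he (algebraMap K K[X] c)).trans (by simp [e])).symm)
  have hX : δ (κ RatFunc.X) = algebraMap A T f := by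
    rw [← RingHom.comp_apply, hδκ, ← RatFunc.algebraMap_X]
    exact (IsFractionRing.lift_algebraMap he X).trans (by simp [e])
  refine ⟨RingHom.ker δ, RingHom.ker_isPrime δ, fun s hs => ?_, ?_, ?_⟩
  · obtain ⟨q, z, hq, hz⟩ := h.exists_frac s
    have h1 := h.hom_frac δ hz
    rw [RingHom.mem_ker.1 hs, mul_zero, hδψ, hX] at h1
    have h2 := key z h1.symm
    rw [← hz] at h2
    exact ((Ideal.IsPrime.mem_or_mem ‹_› h2).resolve_left (hunit q hq))
  · rw [RingHom.mem_ker, map_sub, map_mul, hX, ← RingHom.comp_apply, ← RingHom.comp_apply, hδψ, sub_eq_zero]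
    show algebraMap A T (algebraMap R A a₁) = _ * algebraMap A T (algebraMap R A a₀)
    rw [← map_mul, hfa]
  · rw [RingHom.comap_ker, hδψ, RingHom.ker_eq_bot_iff_eq_zero]
    intro r hr
    exact IsLocalization.injective A (powers_le_nonZeroDivisors_of_noZeroDivisors ha₀)
      ((IsFractionRing.injective A T (hr.trans (map_zero _).symm)).trans (map_zero _).symm)

/-- There is at most one such prime over the generic point. -/
theorem prime_unique (a₀ a₁ : R) (ha₀ : a₀ ≠ 0) (P P' : Ideal S) [P.IsPrime] [P'.IsPrime]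
    (hP : ψ a₁ - κ RatFunc.X * ψ a₀ ∈ P) (hP' : ψ a₁ - κ RatFunc.X * ψ a₀ ∈ P')
    (h0 : P.comap ψ = ⊥) (h0' : P'.comap ψ = ⊥) : P = P' := by
  let F := FractionRing R
  have crit : ∀ (P : Ideal S) [P.IsPrime], ψ a₁ - κ RatFunc.X * ψ a₀ ∈ P → P.comap ψ = ⊥ →
      ∀ s (q : K[X]) (z : R[X]), q ≠ 0 → κ (algebraMap K[X] (RatFunc K) q) * s = z.eval₂ ψ (κ RatFunc.X) →
        (s ∈ P ↔ z.eval₂ (algebraMap R F) (algebraMap R F a₁ / algebraMap R F a₀) = 0) := by
    intro P _ hP h0 s q z hq hz
    obtain ⟨L, _, ρ, hρ⟩ : ∃ (L : Type u) (_ : Field L) (ρ : S →+* L), ∀ s, ρ s = 0 ↔ s ∈ P :=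
      ⟨FractionRing (S ⧸ P), inferInstance,
        (algebraMap (S ⧸ P) (FractionRing (S ⧸ P))).comp (Ideal.Quotient.mk P), fun s => by
        rw [RingHom.comp_apply, map_eq_zero_iff _ (IsFractionRing.injective _ _), Ideal.Quotient.eq_zero_iff_mem]⟩
    have hinj : Function.Injective (ρ.comp ψ) := (injective_iff_map_eq_zero _).2 fun r hr => by
      have : r ∈ P.comap ψ := (hρ _).1 hr
      rwa [h0] at this
    let σ : F →+* L := IsFractionRing.lift hinj
    have hσ : σ.comp (algebraMap R F) = ρ.comp ψ :=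
      RingHom.ext fun r => (RingHom.comp_apply σ _ r).trans (IsFractionRing.lift_algebraMap hinj r)
    have hrel : ρ (ψ a₁) = ρ (κ RatFunc.X) * ρ (ψ a₀) := by
      have := (hρ _).2 hP
      rwa [map_sub, map_mul, sub_eq_zero] at this
    have hX : σ (algebraMap R F a₁ / algebraMap R F a₀) = ρ (κ RatFunc.X) := by
      rw [map_div₀, IsFractionRing.lift_algebraMap, IsFractionRing.lift_algebraMap, RingHom.comp_apply,
        RingHom.comp_apply, hrel]
      exact mul_div_cancel_right₀ _ fun h => ha₀ (hinj (h.trans (map_zero (ρ.comp ψ)).symm))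
    have h1 := h.hom_frac ρ hz
    rw [← hσ, ← hX, ← hom_eval₂] at h1
    have hq' : ρ (κ (algebraMap K[X] (RatFunc K) q)) ≠ 0 :=
      ((RingHom.isUnit_map κ (isUnit_iff_ne_zero.2 (RatFunc.algebraMap_ne_zero hq))).map ρ).ne_zero
    rw [← hρ, ← map_eq_zero_iff σ σ.injective, ← h1, mul_eq_zero, or_iff_right hq']
  refine Ideal.ext fun s => ?_
  obtain ⟨q, z, hq, hz⟩ := h.exists_frac s
  rw [crit P hP h0 s q z hq hz, crit P' hP' h0' s q z hq hz]

end IsRatExt

end Groth.Agent.Pic13Lib
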