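import Groth.Agent.Pic13Lib.RatAlg
import Groth.Agent.FibDim.BaseField
import Groth.Agent.MorLib.DescendCI
import Groth.Agent.H23.TopDim
import Mathlib.AlgebraicGeometry.Morphisms.Flat
import Mathlib.AlgebraicGeometry.Morphisms.Proper

/-!
# The base change of a variety to `K(u)` and the generic member of a pencil
-/

set_option autoImplicit false
set_option linter.style.haveILetI false
set_option linter.unusedSectionVars false
set_option backward.isDefEq.respectTransparency false
set_option backward.isDefEq.respectTransparency.types false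

universe u

open CategoryTheory CategoryTheory.Limits AlgebraicGeometry TopologicalSpace Opposite

noncomputable section

namespace Groth.Agent.Pic13Lib

open Groth.Agent

variable (K : Type u) [Field K] (X : Scheme.{u}) [X.Over (Spec (CommRingCat.of K))]

/-- The inclusion of `K` in `K(u)`. -/
abbrev ratMap : Spec (CommRingCat.of (RatFunc K)) ⟶ Spec (CommRingCat.of K) :=
  Spec.map (CommRingCat.ofHom (algebraMap K (RatFunc K)))

/-- `X ⊗ K(u)`. -/
abbrev ratBase : Scheme.{u} := pullback (X ↘ Spec (CommRingCat.of K)) (ratMap K)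

/-- The projection. -/
abbrev ratProj : ratBase K X ⟶ X := pullback.fst _ _

instance ratOver : (ratBase K X).Over (Spec (CommRingCat.of (RatFunc K))) := ⟨pullback.snd _ _⟩

theorem ratPullback : IsPullback (ratProj K X) (ratBase K X ↘ Spec (CommRingCat.of (RatFunc K)))
    (X ↘ Spec (CommRingCat.of K)) (ratMap K) :=
  IsPullback.of_hasPullback _ _

instance [IsProper (X ↘ Spec (CommRingCat.of K))] :
    IsProper (ratBase K X ↘ Spec (CommRingCat.of (RatFunc K))) :=
  MorphismProperty.of_isPullback (ratPullback K X) ‹_›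

instance : IsAffineHom (ratProj K X) :=
  MorphismProperty.of_isPullback (ratPullback K X).flip inferInstance

variable {K X}

/-- Scalars of `K(u)` as functions on an open. -/
def ratScal (V : (ratBase K X).Opens) : RatFunc K →+* Γ(ratBase K X, V) :=
  (((ratBase K X ↘ Spec (CommRingCat.of (RatFunc K))).appLE ⊤ V le_top).hom).comp
    (Scheme.ΓSpecIso (CommRingCat.of (RatFunc K))).inv.hom

/-- Scalars of `K` as functions on an open. -/
def baseScal (W : X.Opens) : K →+* Γ(X, W) :=
  (((X ↘ Spec (CommRingCat.of K)).appLE ⊤ W le_top).hom).comp (Scheme.ΓSpecIso (CommRingCat.of K)).inv.hom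

theorem resR_ratScal {V V' : (ratBase K X).Opens} (h : V' ≤ V) (v : RatFunc K) :
    (ratBase K X).presheaf.map (homOfLE h).op (ratScal V v) = ratScal V' v := by
  simp only [ratScal, RingHom.comp_apply]
  rw [← ConcreteCategory.comp_apply, Scheme.Hom.appLE_map]

theorem isRatExt {W : X.Opens} (hW : IsAffineOpen W) :
    IsRatExt (baseScal (K := K) W) ((ratProj K X).app W).hom (ratScal (ratProj K X ⁻¹ᵁ W)) := by
  have h := (isIso_pushoutSection_iff (ratPullback K X) (US := ⊤) (UT := ⊤) (UX := W)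
    (UY := ratProj K X ⁻¹ᵁ W) (hUST := by simp) (hUSX := le_top) (hUY := by simp)).1
    (isIso_pushoutSection_of_isAffineOpen _ _ _ _ (isAffineOpen_top _) (isAffineOpen_top _) hW)
  rw [← Scheme.Hom.app_eq_appLE] at h
  let eK := Scheme.ΓSpecIso (CommRingCat.of K)
  let eK' := Scheme.ΓSpecIso (CommRingCat.of (RatFunc K))
  have hnat : eK.inv ≫ (ratMap K).appLE ⊤ ⊤ (by simp) =
      CommRingCat.ofHom (algebraMap K (RatFunc K)) ≫ eK'.inv := by
    rw [Scheme.ΓSpecIso_inv_naturality, Scheme.Hom.appTop, Scheme.Hom.app_eq_appLE]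
    rfl
  refine ⟨?_, fun T hψ hκ => ?_, fun T _ α β hαβ => ?_⟩
  · refine RingHom.ext fun c => ?_
    have h1 := congr($(h.w) (eK.inv c))
    refine h1.trans ?_
    exact congrArg ((ratBase K X ↘ Spec (CommRingCat.of (RatFunc K))).appLE ⊤ (ratProj K X ⁻¹ᵁ W) le_top)
      (congr($hnat c))
  · refine MorLib.Desc.subring_eq_top_of_isPushout h T hψ fun x => ?_
    have hx : eK'.inv (eK'.hom x) = x := Iso.hom_inv_id_apply _ _
    rw [← hx]
    exact hκ _
  · let β' : Γ(Spec (CommRingCat.of (RatFunc K)), ⊤) ⟶ CommRingCat.of T :=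
      eK'.hom ≫ CommRingCat.ofHom β
    have hw : (X ↘ Spec (CommRingCat.of K)).appLE ⊤ W le_top ≫ CommRingCat.ofHom α =
        (ratMap K).appLE ⊤ ⊤ (by simp) ≫ β' := by
      rw [← cancel_epi eK.inv]
      rw [← Category.assoc eK.inv ((ratMap K).appLE _ _ _), hnat, Category.assoc]
      refine CommRingCat.hom_ext (RingHom.ext fun c => ?_)
      show α (baseScal (K := K) W c) = β (eK'.hom (eK'.inv (algebraMap K (RatFunc K) c)))
      rw [Iso.inv_hom_id_apply, ← RingHom.comp_apply, hαβ]
      rfl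
    refine ⟨(h.desc (CommRingCat.ofHom α) β' hw).hom, ?_, ?_⟩
    · exact congrArg CommRingCat.Hom.hom (h.inl_desc _ _ hw)
    · refine RingHom.ext fun v => ?_
      have h1 := congr($(h.inr_desc _ _ hw) (eK'.inv v))
      refine h1.trans ?_
      show β (eK'.hom (eK'.inv v)) = β v
      rw [Iso.inv_hom_id_apply]

section Points

variable {Y : Scheme.{u}} {V : Y.Opens}

theorem germ_isUnit_iff (hV : IsAffineOpen V) (y : V) (r : Γ(Y, V)) :
    IsUnit (Y.presheaf.germ V y y.2 r) ↔ r ∉ (hV.primeIdealOf y).asIdeal := by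
  letI := Y.presheaf.algebra_section_stalk y
  haveI := hV.isLocalization_stalk y
  exact IsLocalization.AtPrime.isUnit_to_map_iff (Y.presheaf.stalk y) _ r

theorem mem_support_iff_le (I : Y.IdealSheafData) (hV : IsAffineOpen V) (y : V) :
    (y : Y) ∈ (I.support : Set Y) ↔ I.ideal ⟨V, hV⟩ ≤ (hV.primeIdealOf y).asIdeal := by
  rw [SetLike.mem_coe, Scheme.IdealSheafData.mem_support_iff_of_mem (U := ⟨V, hV⟩) y.2, Y.mem_zeroLocus_iff]
  exact forall₂_congr fun r _ => by rw [Y.mem_basicOpen r y y.2, germ_isUnit_iff hV, not_not]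

theorem fromSpec_specializes (hV : IsAffineOpen V) (y : V) (Q : Ideal Γ(Y, V)) [Q.IsPrime]
    (h : Q ≤ (hV.primeIdealOf y).asIdeal) : hV.fromSpec ⟨Q, ‹_›⟩ ⤳ (y : Y) := by
  conv_rhs => rw [← hV.fromSpec_primeIdealOf y]
  exact ((PrimeSpectrum.le_iff_specializes _ _).1 h).map hV.fromSpec.continuous

theorem primeIdealOf_fromSpec (hV : IsAffineOpen V) (p : PrimeSpectrum Γ(Y, V)) (h : hV.fromSpec p ∈ V) :
    hV.primeIdealOf ⟨hV.fromSpec p, h⟩ = p :=
  hV.fromSpec.isOpenEmbedding.injective (hV.fromSpec_primeIdealOf ⟨_, h⟩)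

theorem fromSpec_mem' (hV : IsAffineOpen V) (p : PrimeSpectrum Γ(Y, V)) : hV.fromSpec p ∈ V := by
  have h : hV.fromSpec p ∈ (hV.fromSpec.opensRange : Set Y) := ⟨p, rfl⟩
  rwa [hV.opensRange_fromSpec] at h

end Points

/-- The image of a point in terms of primes. -/
theorem ratProj_eq_genericPoint_iff [IsIntegral X] {W : X.Opens} (hW : IsAffineOpen W)
    (y : (ratProj K X ⁻¹ᵁ W : (ratBase K X).Opens)) :
    ratProj K X y = genericPoint X ↔
      ((hW.preimage (ratProj K X)).primeIdealOf y).asIdeal.comap ((ratProj K X).app W).hom = ⊥ := by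
  haveI : Nonempty W := ⟨⟨ratProj K X y, y.2⟩⟩
  let x : W := ⟨ratProj K X y, y.2⟩
  have key : (hW.primeIdealOf x).asIdeal =
      ((hW.preimage (ratProj K X)).primeIdealOf y).asIdeal.comap ((ratProj K X).app W).hom := by
    ext r
    rw [Ideal.mem_comap, ← not_iff_not, ← germ_isUnit_iff hW x r, ← germ_isUnit_iff (hW.preimage _) y,
      ← Scheme.Hom.germ_stalkMap_apply]
    exact ⟨fun h => h.map _, fun h => IsUnit.of_map ((ratProj K X).stalkMap y).hom _ h⟩
  rw [← key]
  constructor
  · intro h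
    refine (Submodule.eq_bot_iff _).2 fun r hr => ?_
    by_contra hne
    refine (germ_isUnit_iff hW x r).1 ?_ hr
    have : ∀ (z : X) (hz : z ∈ W) (_ : z = genericPoint X), IsUnit (X.presheaf.germ W z hz r) := by
      rintro z hz rfl
      exact (isUnit_iff_ne_zero (G₀ := X.functionField)).2 fun h0 =>
        hne (germ_injective_of_isIntegral X (genericPoint X) hz (h0.trans (map_zero _).symm))
    exact this _ _ h
  · intro h
    have hg : genericPoint X ∈ W := (genericPoint_specializes _).mem_open W.2 y.2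
    have h1 : hW.primeIdealOf x = hW.primeIdealOf ⟨genericPoint X, hg⟩ := by
      rw [hW.primeIdealOf_genericPoint, genericPoint_eq_bot_of_affine]
      exact PrimeSpectrum.ext h
    calc ratProj K X y = hW.fromSpec (hW.primeIdealOf x) := (hW.fromSpec_primeIdealOf x).symm
      _ = hW.fromSpec (hW.primeIdealOf ⟨genericPoint X, hg⟩) := by rw [h1]
      _ = genericPoint X := hW.fromSpec_primeIdealOf _

theorem exists_affine (y : ratBase K X) :
    ∃ W : X.Opens, IsAffineOpen W ∧ y ∈ ratProj K X ⁻¹ᵁ W := by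
  obtain ⟨_, ⟨W, hW, rfl⟩, hy, -⟩ :=
    X.isBasis_affineOpens.exists_subset_of_mem_open (Set.mem_univ (ratProj K X y)) isOpen_univ
  exact ⟨W, hW, hy⟩

/-- The base change to `K(u)` of an integral scheme is integral. -/
theorem isIntegral_ratBase [IsIntegral X] : IsIntegral (ratBase K X) := by
  haveI : Surjective (ratMap K) := ⟨fun z => ⟨Classical.arbitrary _, Subsingleton.elim _ _⟩⟩
  haveI : Surjective (ratProj K X) := MorphismProperty.of_isPullback (ratPullback K X).flip inferInstance
  have hdom : ∀ {W : X.Opens}, IsAffineOpen W → ∀ (y : ratBase K X), y ∈ ratProj K X ⁻¹ᵁ W →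
      IsDomain Γ(ratBase K X, ratProj K X ⁻¹ᵁ W) := fun {W} hW y hy => by
    haveI : Nonempty W := ⟨⟨ratProj K X y, hy⟩⟩
    exact (isRatExt hW).isDomain
  haveI : IsReduced (ratBase K X) := by
    refine @isReduced_of_isReduced_stalk _ fun y => ?_
    obtain ⟨W, hW, hy⟩ := exists_affine y
    haveI := hdom hW y hy
    letI := (ratBase K X).presheaf.algebra_section_stalk (⟨y, hy⟩ : (ratProj K X ⁻¹ᵁ W : (ratBase K X).Opens))
    haveI := (hW.preimage (ratProj K X)).isLocalization_stalk ⟨y, hy⟩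
    haveI : IsDomain ((ratBase K X).presheaf.stalk y) :=
      IsLocalization.isDomain_of_le_nonZeroDivisors (R := Γ(ratBase K X, ratProj K X ⁻¹ᵁ W)) _
        ((hW.preimage (ratProj K X)).primeIdealOf ⟨y, hy⟩).asIdeal.primeCompl_le_nonZeroDivisors
    infer_instance
  have key : ∀ y : ratBase K X, ∀ W : X.Opens, IsAffineOpen W → y ∈ ratProj K X ⁻¹ᵁ W →
      ∃ ξ : ratBase K X, ξ ⤳ y ∧ ratProj K X ξ = genericPoint X ∧
        ∀ z ∈ ratProj K X ⁻¹ᵁ W, ξ ⤳ z := fun y W hW hy => by
    haveI := hdom hW y hy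
    let hV := hW.preimage (ratProj K X)
    haveI : (⊥ : Ideal Γ(ratBase K X, ratProj K X ⁻¹ᵁ W)).IsPrime := Ideal.isPrime_bot
    refine ⟨hV.fromSpec ⟨⊥, inferInstance⟩, fromSpec_specializes hV ⟨y, hy⟩ ⊥ bot_le, ?_,
      fun z hz => fromSpec_specializes hV ⟨z, hz⟩ ⊥ bot_le⟩
    refine (ratProj_eq_genericPoint_iff hW ⟨_, fromSpec_mem' hV _⟩).2 ?_
    rw [primeIdealOf_fromSpec hV _ (fromSpec_mem' hV _)]
    show RingHom.ker ((ratProj K X).app W).hom = ⊥
    refine (RingHom.injective_iff_ker_eq_bot _).1 ?_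
    haveI : Nonempty W := ⟨⟨ratProj K X y, hy⟩⟩
    exact (isRatExt hW).injective
  obtain ⟨y₀, -⟩ := (ratProj K X).surjective (genericPoint X)
  obtain ⟨W₀, hW₀, hy₀⟩ := exists_affine y₀
  obtain ⟨ξ, -, hξ, hξW⟩ := key y₀ W₀ hW₀ hy₀
  have hall : ∀ y, ξ ⤳ y := fun y => by
    obtain ⟨W, hW, hy⟩ := exists_affine y
    obtain ⟨ξ', hξ', hξ'g, -⟩ := key y W hW hy
    refine (hξW ξ' ?_).trans hξ'
    show ratProj K X ξ' ∈ W₀
    rw [hξ'g]
    exact (genericPoint_specializes _).mem_open W₀.2 (show ratProj K X y₀ ∈ W₀ from hy₀)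
  haveI : IrreducibleSpace (ratBase K X) := by
    rw [irreducibleSpace_def]
    rw [Set.top_eq_univ, ← Set.eq_univ_of_forall fun y => specializes_iff_mem_closure.1 (hall y)]
    exact isIrreducible_singleton.closure
  exact isIntegral_of_irreducibleSpace_of_isReduced _

theorem topologicalKrullDim_ratBase [IsProper (X ↘ Spec (CommRingCat.of K))] :
    topologicalKrullDim (ratBase K X) = topologicalKrullDim X := by
  haveI := FibDim.subsingleton_spec_field K
  haveI := FibDim.subsingleton_spec_field (RatFunc K)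
  exact FibDim.topologicalKrullDim_baseChange (ratPullback K X)

theorem dim_closure_le_image [IsProper (X ↘ Spec (CommRingCat.of K))] (y : ratBase K X) :
    topologicalKrullDim ↥(closure ({y} : Set (ratBase K X))) ≤
      topologicalKrullDim ↥(closure ({ratProj K X y} : Set X)) := by
  haveI := FibDim.subsingleton_spec_field K
  haveI := FibDim.subsingleton_spec_field (RatFunc K)
  rw [FibDim.topologicalKrullDim_closure (ratBase K X ↘ Spec (CommRingCat.of (RatFunc K))),
    FibDim.topologicalKrullDim_closure (X ↘ Spec (CommRingCat.of K))]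
  exact_mod_cast FibDim.rd_baseChange_le (ratPullback K X) y

end Groth.Agent.Pic13Lib
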