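import Groth.Agent.Pic13Lib.OrthMain
import Groth.Agent.VarDim.Top

/-!
# Numerical triviality on the zero scheme of a section of an ample module
-/

set_option autoImplicit false
set_option linter.style.haveILetI false
set_option linter.unusedSectionVars false
set_option backward.isDefEq.respectTransparency false
set_option backward.isDefEq.respectTransparency.types false

universe u

open CategoryTheory CategoryTheory.Limits AlgebraicGeometry TopologicalSpace Opposite

noncomputable section

namespace Groth.Agent.Pic13Lib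

open Groth.Agent

theorem component_image {A B : Type u} [TopologicalSpace A] [TopologicalSpace B] (h : A ≃ₜ B) {W : Set A}
    (hW : W ∈ irreducibleComponents A) : h '' W ∈ irreducibleComponents B := by
  refine ⟨hW.1.image _ h.continuous.continuousOn, fun T hT hWT => ?_⟩
  have h1 : h.symm '' T ≤ W := hW.2 (hT.image _ h.symm.continuous.continuousOn) fun w hw =>
    ⟨h w, hWT ⟨w, hw, rfl⟩, h.symm_apply_apply w⟩
  exact fun b hb => ⟨h.symm b, h1 ⟨b, hb, rfl⟩, h.apply_symm_apply b⟩

variable (k : Type u) [Field k] {Y : Scheme.{u}} [Y.Over (Spec (CommRingCat.of k))]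
  [IsProper (Y ↘ Spec (CommRingCat.of k))]

include k in
theorem genLocus_zero {P : Y.Modules} (hP : PicF.IsInvertible P) (y : Y) :
    y ∉ CohB1.genLocus P (0 : Coh.structureModule Y ⟶ P) := by
  obtain ⟨W, hyW, e, he⟩ := InvX.exists_frame hP y
  intro h
  have hu := (AmpleX.mem_genLocus_iff (0 : Coh.structureModule Y ⟶ P) he (g := 0)
    (by rw [AmpleX.one_zero, map_zero, zero_smul]) hyW).1 h
  rw [map_zero] at hu
  exact not_isUnit_zero hu

/-- **Restriction to the zero scheme is injective modulo numerical equivalence.** -/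
theorem isNumEquivZero_of_restrict (H : Y.Modules) (hH : CohB1.IsAmple H) (φ : Coh.structureModule Y ⟶ H)
    (hdim : ∀ Z ∈ irreducibleComponents (Y : Type u),
      ∀ W ∈ irreducibleComponents ↥(Z ∩ Set.range (PicF2.zeroScheme H φ).subschemeι.base), 2 ≤ topologicalKrullDim ↥W)
    (L : Y.Modules) (hL : PicF.IsInvertible L)
    (hnum : @Pic13.IsNumEquivZero k _ (PicF2.zeroScheme H φ).subscheme
      ⟨(PicF2.zeroScheme H φ).subschemeι ≫ (Y ↘ Spec (CommRingCat.of k))⟩
      ((Scheme.Modules.pullback (PicF2.zeroScheme H φ).subschemeι).obj L)) :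
    Pic13.IsNumEquivZero k Y L := by
  intro C ι hι hC hC1
  haveI := hι
  haveI := hC
  haveI := CurveCohLib.isNoetherian_of_proper (k := k) (X := Y)
  let I := PicF2.zeroScheme H φ
  let x := I.subschemeι
  letI : I.subscheme.Over (Spec (CommRingCat.of k)) := ⟨x ≫ (Y ↘ Spec (CommRingCat.of k))⟩
  -- curves inside the zero scheme
  have hin : ∀ (Z : Scheme.{u}) (c : Z ⟶ Y) [IsClosedImmersion c], IsIntegral Z → topologicalKrullDim Z = 1 →
      Set.range c ⊆ (I.support : Set Y) →
      Pic13.curveDeg k (c ≫ (Y ↘ Spec (CommRingCat.of k))) ((Scheme.Modules.pullback c).obj L) = 0 := by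
    intro Z c hc hZ hZ1 hcr
    haveI := hZ
    obtain ⟨q, hq⟩ := H23.RedSub.exists_lift_closed c x (by rw [Scheme.IdealSheafData.range_subschemeι]; exact hcr)
    haveI : IsClosedImmersion (q ≫ x) := hq.symm ▸ hc
    haveI : IsClosedImmersion q := IsClosedImmersion.of_comp q x
    have h := hnum Z q hZ hZ1
    rw [show q ≫ (I.subscheme ↘ Spec (CommRingCat.of k)) = c ≫ (Y ↘ Spec (CommRingCat.of k)) by
      show q ≫ x ≫ _ = _
      rw [← Category.assoc, hq]] at h
    letI : Z.Over (Spec (CommRingCat.of k)) := ⟨c ≫ (Y ↘ Spec (CommRingCat.of k))⟩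
    refine Eq.trans ?_ h
    exact curveDeg_congr' (k := k)
      (((Scheme.Modules.pullbackCongr hq).app L).symm ≪≫ ((Scheme.Modules.pullbackComp q x).app L).symm)
  obtain ⟨Zc, hZc, hιZ⟩ : ∃ Zc ∈ irreducibleComponents (Y : Type u), Set.range ι ⊆ Zc := by
    let z := genericPoint C
    refine ⟨irreducibleComponent (ι z), irreducibleComponent_mem_irreducibleComponents _, ?_⟩
    rintro _ ⟨w, rfl⟩
    exact (specializes_iff_mem_closure.1 ((genericPoint_specializes w).map ι.continuous)) |>
      fun h => closure_minimal (Set.singleton_subset_iff.2 mem_irreducibleComponent) isClosed_irreducibleComponent h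
  have hZcl := isClosed_of_mem_irreducibleComponents Zc hZc
  let J := Scheme.IdealSheafData.vanishingIdeal (⟨Zc, hZcl⟩ : Closeds Y)
  let R := J.subscheme
  let j : R ⟶ Y := J.subschemeι
  have hjr : Set.range j = Zc := H23.RedSub.range_vanishingIdeal _
  haveI : IsReduced R := H23.RedSub.isReduced_vanishingIdeal _
  haveI : IrreducibleSpace R := by
    haveI := isIrreducible_iff_irreducibleSpace.1 hZc.1
    let e := j.isClosedEmbedding.isEmbedding.toHomeomorph.trans (Homeomorph.setCongr hjr)
    exact e.symm.surjective.irreducibleSpace e.symm.continuous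
  haveI : IsIntegral R := isIntegral_of_irreducibleSpace_of_isReduced _
  letI : R.Over (Spec (CommRingCat.of k)) := ⟨j ≫ (Y ↘ Spec (CommRingCat.of k))⟩
  haveI : IsProper (R ↘ Spec (CommRingCat.of k)) := inferInstanceAs (IsProper (j ≫ _))
  haveI := CurveCohLib.isNoetherian_of_proper (k := k) (X := R)
  obtain ⟨c, hc⟩ := H23.RedSub.exists_lift_closed ι j (hjr.symm ▸ hιZ)
  haveI : IsClosedImmersion (c ≫ j) := hc.symm ▸ hι
  haveI : IsClosedImmersion c := IsClosedImmersion.of_comp c j
  obtain ⟨e⟩ := PicClLib.nonempty_pullback_structureModule j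
  let σ : Coh.structureModule R ⟶ (Scheme.Modules.pullback j).obj H :=
    e.symm.hom ≫ (Scheme.Modules.pullback j).map φ
  have hgen : CohB1.genLocus _ σ = j ⁻¹ᵁ CohB1.genLocus H φ := InvX.genLocus_pullback j hH.1 φ e.symm
  have hHR := PicClLib.isInvertible_pullback j hH.1
  have hsupp : ((PicF2.zeroScheme _ σ).support : Set R) = j ⁻¹' (I.support : Set Y) := by
    ext y
    rw [mem_support_zeroScheme hHR, hgen, Set.mem_preimage, mem_support_zeroScheme hH.1]
    rfl
  by_cases hσ : σ = 0
  · refine hin C ι hC hC1 ?_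
    rintro _ ⟨w, rfl⟩
    have h : c w ∈ ((PicF2.zeroScheme _ σ).support : Set R) := by
      rw [mem_support_zeroScheme hHR, hσ]
      exact genLocus_zero k hHR _
    rw [hsupp] at h
    rw [← hc, Scheme.Hom.comp_apply]
    exact h
  -- the section does not vanish on the component
  obtain ⟨r, hr⟩ : ∃ r : ℕ, topologicalKrullDim R = ((r + 1 : ℕ) : WithBot ℕ∞) := by
    have h1 := VarDim.topologicalKrullDim_eq_deg_genericPoint (R ↘ Spec (CommRingCat.of k))
    have h2 : topologicalKrullDim C ≤ topologicalKrullDim R := c.isClosedEmbedding.isInducing.topologicalKrullDim_le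
    rw [hC1, h1] at h2
    have h3 : 1 ≤ VarDim.deg (R ↘ Spec (CommRingCat.of k)) (genericPoint R) := by exact_mod_cast h2
    refine ⟨VarDim.deg (R ↘ Spec (CommRingCat.of k)) (genericPoint R) - 1, ?_⟩
    rw [Nat.sub_add_cancel h3, h1]
    rfl
  have hcomp : ∀ W ∈ irreducibleComponents ↥((PicF2.zeroScheme _ σ).support : Set R),
      2 ≤ topologicalKrullDim ↥W := by
    intro W hW
    have himg : j '' ((PicF2.zeroScheme _ σ).support : Set R) = Zc ∩ Set.range x.base := by
      rw [hsupp, Set.image_preimage_eq_range_inter, hjr, Scheme.IdealSheafData.range_subschemeι]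
    let h := (j.isClosedEmbedding.isEmbedding.homeomorphImage _).trans (Homeomorph.setCongr himg)
    refine (hdim Zc hZc _ (component_image h hW)).trans (le_of_eq ?_)
    exact ((h.isEmbedding.homeomorphImage W).isHomeomorph.topologicalKrullDim_eq).symm
  have hcz := degree_zero_component k (isAmple_pullback_affine (Y ↘ Spec (CommRingCat.of k)) j hH)
    (PicClLib.isInvertible_pullback j hL) σ hσ hr hcomp fun Z w hw hZ hZ1 hwr => by
      haveI := hw
      haveI := hZ
      letI : Z.Over (Spec (CommRingCat.of k)) := ⟨w ≫ (R ↘ Spec (CommRingCat.of k))⟩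
      haveI : IsProper (Z ↘ Spec (CommRingCat.of k)) := inferInstanceAs (IsProper (w ≫ _))
      have h1 : topologicalKrullDim Z ≤ ((1 : ℕ) : WithBot ℕ∞) := by rw [hZ1]; simp
      refine (IntNum47.iterD_push_structure_eq_curveDeg k w rfl h1 (PicClLib.isInvertible_pullback j hL)).trans ?_
      have h := hin Z (w ≫ j) hZ hZ1 (by
        rintro _ ⟨z, rfl⟩
        have := hwr ⟨z, rfl⟩
        rwa [hsupp] at this)
      rw [Category.assoc] at h
      refine Eq.trans ?_ h
      exact curveDeg_congr' (k := k) ((Scheme.Modules.pullbackComp w j).app L)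
  have h := hcz C c hC hC1
  letI : C.Over (Spec (CommRingCat.of k)) := ⟨ι ≫ (Y ↘ Spec (CommRingCat.of k))⟩
  have hov : c ≫ (R ↘ Spec (CommRingCat.of k)) = C ↘ Spec (CommRingCat.of k) := by
    show c ≫ j ≫ _ = ι ≫ _
    rw [← Category.assoc, hc]
  rw [hov] at h
  obtain ⟨eC⟩ := PicClLib.nonempty_pullback_structureModule c
  rw [curveDeg_congr' eC] at h
  show Pic13.curveDeg k (C ↘ Spec (CommRingCat.of k)) _ = 0
  refine (curveDeg_congr' (((Scheme.Modules.pullbackCongr hc).app L).symm ≪≫ ((Scheme.Modules.pullbackComp c j).app L).symm)).trans ?_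
  exact h.trans (sub_self _)

end Groth.Agent.Pic13Lib
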